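/-
helper4: piece P3 of CALL S1427 (helper54, Bender–Glauberman 13.1–13.3):
`q ∈ σ(M) ∩ α(L)` forces `L` conjugate to `M`.  Everything lives in `Cfsg.Agent.Helper4`.
-/
import Cfsg.Agent.Helper22.BG12b
import Cfsg.Agent.Helper72.BG12Cor
import Cfsg.Agent.Helper21.PRank

set_option autoImplicit false

namespace Cfsg.Agent.Helper4

open Cfsg Subgroup Cfsg.Agent.Helper23 Cfsg.Agent.Helper35 Cfsg.Agent.Helper22
open scoped Pointwise

universe u

variable {G : Type u} [Group G] [Finite G]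

/-- **Piece P3 of CALL S1427**: `q ∈ σ(M)` and `q ∈ α(L)` make `L` a conjugate of `M`. -/
theorem bg13_conj_of_sigma_alpha (hG : IsMinSimpleOddOrder G) (hU : BGUniq G)
    {M L : Subgroup G} (hM : IsCoatom M) (hL : IsCoatom L) {q : ℕ} [Fact q.Prime]
    (hqM : q ∈ sigma M) (hqL : q ∈ alpha L) : ∃ g : G, MulAut.conj g • L = M := by
  have hq : q.Prime := Fact.out
  obtain ⟨B, hBL, hBc, hBe, hBcard⟩ := exists_elemAb_of_not_pRankLE hqL.2
  have hBea : IsElementaryAbelian q B := ⟨hBc, hBe⟩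
  have hBq : IsPGroup q B := bg11_isPGroup_of_elemAb hBea
  obtain ⟨Q, hQ⟩ := sylowSet_nonempty (p := q) (sigmaCore M)
  obtain ⟨hQtop, hQM, -⟩ := bg11_sigma_sylow hG hU hM hqM hQ
  obtain ⟨h, hh⟩ := bg10_exists_conj_le hQtop hBq
  refine ⟨h, ?_⟩
  have hB'M : MulAut.conj h • B ≤ M := by
    intro x hx
    rw [mem_conj_smul] at hx
    have h1 := hh _ hx
    have e : h * (h⁻¹ * x * h) * h⁻¹ = x := by group
    rw [e] at h1
    exact hQM.1 h1
  have hB'ea : IsElementaryAbelian q (MulAut.conj h • B) := Helper72.b12c_conj_elemAb hBea h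
  have hr : ¬ PRankLE q 2 ↥(MulAut.conj h • B) := by
    refine Helper21.not_pRankLE_of_elemAb le_rfl hB'ea.1 hB'ea.2 ?_
    rw [card_conj_smul]
    exact not_le.mpr hBcard
  exact bg10_uniq_of_rank3 hU hq hM hB'M hr (MulAut.conj h • L) (isCoatom_conj_smul h hL)
    (conj_smul_le_conj_smul hBL)

end Cfsg.Agent.Helper4
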