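import Cfsg.Agent.Helper23.BG1210
import Cfsg.Agent.Helper23.Rank2GL
import Cfsg.Agent.Helper72.BG12Cor

/-!
Piece P3a of CALL S1421 (helper23): `N_G(A) / C_G(A)` is abelian for `A` elementary abelian of
order `p ^ 2` inside an abelian Sylow `p`-subgroup of a group of odd order.
-/

set_option autoImplicit false

namespace Cfsg.Agent.Helper4

open Cfsg Subgroup Cfsg.Agent.Helper23

universe u

variable {G : Type u} [Group G] [Finite G]

theorem bg1210_comm_le (hG : IsMinSimpleOddOrder G) {p : ℕ} [Fact p.Prime]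
    {P A : Subgroup G} (hP : IsPGroup p P) (hPc : ∀ x ∈ P, ∀ y ∈ P, x * y = y * x)
    (hAP : A ≤ P) (hA : IsElementaryAbelian p A) (hAc : Nat.card A = p ^ 2)
    (hsyl : ∀ Q : Subgroup G, IsPGroup p Q → P ≤ Q → Q = P) :
    ∀ g ∈ normalizer (A : Set G), ∀ h ∈ normalizer (A : Set G),
      g * h * g⁻¹ * h⁻¹ ∈ centralizer (A : Set G) := by
  intro g hg h hh
  have hodd : Odd (Nat.card (normalizer (A : Set G))) :=
    Odd.of_dvd_nat hG.1 (Subgroup.card_subgroup_dvd_card _)
  have hc : g * h * g⁻¹ * h⁻¹ ∈ ⁅normalizer (A : Set G), normalizer (A : Set G)⁆ :=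
    Subgroup.commutator_mem_commutator hg hh
  have hcN : g * h * g⁻¹ * h⁻¹ ∈ normalizer (A : Set G) :=
    Subgroup.mul_mem _ (Subgroup.mul_mem _ (Subgroup.mul_mem _ hg hh) (Subgroup.inv_mem _ hg))
      (Subgroup.inv_mem _ hh)
  have h1 := pow_mem_centralizer_of_mem_commutator p A (normalizer (A : Set G)) hA.1 hA.2 hAc
    le_rfl hodd _ hc
  have h2 : (g * h * g⁻¹ * h⁻¹) ^ (centralizer (A : Set G)).relIndex (normalizer (A : Set G))
      ∈ centralizer (A : Set G) := by
    have h3 := Subgroup.pow_index_mem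
      ((centralizer (A : Set G)).subgroupOf (normalizer (A : Set G))) ⟨_, hcN⟩
    rw [Subgroup.mem_subgroupOf] at h3
    simpa [Subgroup.relIndex] using h3
  -- `P ≤ C_G(A)` is a Sylow `p`-subgroup of `G`
  have hPC : P ≤ centralizer (A : Set G) := by
    intro x hx
    rw [Subgroup.mem_centralizer_iff]
    intro a ha
    exact hPc a (hAP ha) x hx
  let S : Sylow p G := ⟨P, hP, fun hQ hle => hsyl _ hQ hle⟩
  have hS : ¬ p ∣ (S : Subgroup G).index := S.not_dvd_index
  have hSP : (S : Subgroup G) = P := rfl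
  rw [hSP] at hS
  have hCN : centralizer (A : Set G) ≤ normalizer (A : Set G) :=
    Subgroup.centralizer_le_normalizer _
  have hdvd : (centralizer (A : Set G)).relIndex (normalizer (A : Set G)) ∣ P.index := by
    have e1 := Subgroup.relIndex_mul_index hPC
    have e2 := Subgroup.relIndex_dvd_index_of_le hCN
    rw [← e1]
    exact Dvd.dvd.mul_left e2 _
  have hcop : Nat.Coprime p ((centralizer (A : Set G)).relIndex (normalizer (A : Set G))) := by
    rw [Nat.Prime.coprime_iff_not_dvd (Fact.out : p.Prime)]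
    exact fun hd => hS (hd.trans hdvd)
  exact Helper72.b12c_mem_of_pow_mem hcop h1 h2

end Cfsg.Agent.Helper4
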