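import Cfsg.Agent.Helper23.BG1210
import Cfsg.Agent.Helper4.BG1210P3a

/-!
Piece P4a of CALL S1421 (helper23): if `E` normalizes no line of `A`, every element of `N_G(A)`
either centralizes `A` or acts fixed-point-freely on `A`.
-/

set_option autoImplicit false

namespace Cfsg.Agent.Helper4

open Cfsg Subgroup Cfsg.Agent.Helper23

universe u

variable {G : Type u} [Group G] [Finite G]

omit [Finite G] in
/-- a subgroup containing the conjugates of `D` by its elements normalizes `D` -/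
theorem bg1210_le_normalizer_of_conj {N D : Subgroup G}
    (key : ∀ g ∈ N, ∀ d ∈ D, g * d * g⁻¹ ∈ D) : N ≤ normalizer (D : Set G) := by
  intro e he
  rw [Subgroup.mem_normalizer_iff]
  intro a
  constructor
  · exact key e he a
  · intro h
    have := key e⁻¹ (N.inv_mem he) _ h
    simpa [mul_assoc] using this

theorem bg1210_dichotomy (hG : IsMinSimpleOddOrder G) {E : Subgroup G} {p : ℕ} [Fact p.Prime]
    {P A : Subgroup G} (hS : BG1210Syl p E P A)
    (hno : ¬ ∃ X : Subgroup G, X ≤ A ∧ Nat.card X = p ∧ E ≤ normalizer (X : Set G)) :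
    ∀ y ∈ normalizer (A : Set G), y ∉ centralizer (A : Set G) →
      A ⊓ centralizer ({y} : Set G) = ⊥ := by
  intro y hy hyC
  have hEN : E ≤ normalizer (A : Set G) := by
    apply bg1210_le_normalizer_of_conj
    intro e he a ha
    have h1 : e * a * e⁻¹ ∈ P :=
      ((Subgroup.mem_normalizer_iff.mp (hS.norm he)) a).mp (hS.leA ha)
    apply hS.omega _ h1
    rw [conj_pow, hS.elemA.2 a ha]; group
  have hND : normalizer (A : Set G) ≤ normalizer ((A ⊓ centralizer ({y} : Set G) : Subgroup G) : Set G) := by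
    apply bg1210_le_normalizer_of_conj
    intro g hg d hd
    have hdA : d ∈ A := hd.1
    have hdy : d ∈ centralizer ({y} : Set G) := hd.2
    rw [Subgroup.mem_centralizer_singleton_iff] at hdy
    have hc := bg1210_comm_le hG hS.pgroup hS.comm hS.leA hS.elemA hS.cardA hS.sylG g hg y hy
    have hgd : g * d * g⁻¹ ∈ A := ((Subgroup.mem_normalizer_iff.mp hg) d).mp hdA
    refine ⟨hgd, ?_⟩
    show g * d * g⁻¹ ∈ centralizer ({y} : Set G)
    rw [Subgroup.mem_centralizer_singleton_iff]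
    have h1 := (Subgroup.mem_centralizer_iff.mp hc) _ hgd
    have e0 : g * y * g⁻¹ * y⁻¹ * y = g * y * g⁻¹ := by group
    have e1 : g * d * g⁻¹ * (g * y * g⁻¹ * y⁻¹ * y) = (g * y * g⁻¹ * y⁻¹ * y) * (g * d * g⁻¹) := by
      rw [e0]
      calc g * d * g⁻¹ * (g * y * g⁻¹) = g * (d * y) * g⁻¹ := by group
        _ = g * (y * d) * g⁻¹ := by rw [hdy]
        _ = g * y * g⁻¹ * (g * d * g⁻¹) := by group
    have e2 : g * y * g⁻¹ * y⁻¹ * (g * d * g⁻¹ * y) = g * y * g⁻¹ * y⁻¹ * (y * (g * d * g⁻¹)) := by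
      calc g * y * g⁻¹ * y⁻¹ * (g * d * g⁻¹ * y)
          = (g * y * g⁻¹ * y⁻¹ * (g * d * g⁻¹)) * y := by simp only [mul_assoc]
        _ = (g * d * g⁻¹ * (g * y * g⁻¹ * y⁻¹)) * y := by rw [h1]
        _ = g * d * g⁻¹ * (g * y * g⁻¹ * y⁻¹ * y) := by simp only [mul_assoc]
        _ = (g * y * g⁻¹ * y⁻¹ * y) * (g * d * g⁻¹) := e1
        _ = g * y * g⁻¹ * y⁻¹ * (y * (g * d * g⁻¹)) := by simp only [mul_assoc]
    exact mul_left_cancel e2
  have hDA : A ⊓ centralizer ({y} : Set G) ≤ A := inf_le_left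
  have hdvd : Nat.card (A ⊓ centralizer ({y} : Set G) : Subgroup G) ∣ Nat.card A :=
    Subgroup.card_dvd_of_le hDA
  rw [hS.cardA] at hdvd
  obtain ⟨k, hk, hkD⟩ := (Nat.dvd_prime_pow (Fact.out : p.Prime)).mp hdvd
  interval_cases k
  · exact Subgroup.eq_bot_of_card_eq _ (by simpa using hkD)
  · exact absurd ⟨_, hDA, by simpa using hkD, hEN.trans hND⟩ hno
  · have hDeq : A ⊓ centralizer ({y} : Set G) = A :=
      Subgroup.eq_of_le_of_card_ge hDA (by rw [hkD, hS.cardA])
    exfalso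
    apply hyC
    rw [Subgroup.mem_centralizer_iff]
    intro a ha
    have h1 : a ∈ A ⊓ centralizer ({y} : Set G) := by rw [hDeq]; exact ha
    have h2 : a ∈ centralizer ({y} : Set G) := h1.2
    rw [Subgroup.mem_centralizer_singleton_iff] at h2
    exact h2

end Cfsg.Agent.Helper4
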