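/-
helper4: piece P2 of CALL S1419 (helper22, Bender–Glauberman Theorem 12.7):
`τ₂(M) = {p}` when some `p`-element outside `M` normalizes an elementary abelian subgroup
`A ≤ E` of order `p ^ 2`.  Everything lives in `Cfsg.Agent.Helper4`.
-/
import Cfsg.Agent.Helper22.BG12c
import Cfsg.Agent.Helper68.BG123
import Cfsg.Agent.Helper24.BG11b
import Cfsg.Agent.Helper72.BG12Cor
import Cfsg.Agent.S1408

set_option autoImplicit false

namespace Cfsg.Agent.Helper4

open Cfsg Subgroup Cfsg.Agent.Helper22 Cfsg.Agent.Helper23 Cfsg.Agent.Helper35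
open scoped Pointwise

universe u

variable {G : Type u} [Group G] [Finite G]

/-- For `q ∈ τ₂(M)` a complement `E` of `M_σ` in `M` contains an elementary abelian subgroup of
order `q ^ 2`. -/
theorem bg127_exists_in_compl {M E : Subgroup G}
    (hE : IsComplIn E (sigmaCore M) M) {q : ℕ} [Fact q.Prime] (hq : q ∈ tau2 M) :
    ∃ B : Subgroup G, B ≤ E ∧ IsElementaryAbelian q B ∧ Nat.card B = q ^ 2 := by
  have hqq : q.Prime := Fact.out
  obtain ⟨B₀, hB₀M, hB₀, hB₀c⟩ := Helper72.b12c_exists_elemAb hq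
  obtain ⟨Q, hQ⟩ := sylowSet_nonempty (p := q) E
  have hcard : Nat.card E * Nat.card (sigmaCore M) = Nat.card M :=
    bg12_card_compl (le_normalizer_piCoreOf (sigma M) M) hE
  have hqσ : ¬ q ∣ Nat.card (sigmaCore M) :=
    fun h => hq.2.1 (mem_of_dvd_card_piCoreOf (sigma M) M hqq h)
  have hQM : Q ∈ sylowSet q M := by
    refine Helper72.b12c_mem_sylowSet (hQ.1.trans hE.1) hQ.2
      (c := (Nat.card E / q ^ (Nat.card E).factorization q) * Nat.card (sigmaCore M)) ?_ ?_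
    · rw [← hcard]
      have h1 : q ^ (Nat.card E).factorization q * (Nat.card E / q ^ (Nat.card E).factorization q)
          = Nat.card E := Nat.ordProj_mul_ordCompl_eq_self _ _
      refine Dvd.intro_left 1 ?_
      rw [one_mul]
      symm
      calc Nat.card E / q ^ (Nat.card E).factorization q * Nat.card (sigmaCore M) *
            q ^ (Nat.card E).factorization q
          = q ^ (Nat.card E).factorization q * (Nat.card E / q ^ (Nat.card E).factorization q) *
            Nat.card (sigmaCore M) := by ring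
        _ = Nat.card E * Nat.card (sigmaCore M) := by rw [h1]
    · intro h
      rcases (Nat.Prime.dvd_mul hqq).1 h with h | h
      · exact Nat.not_dvd_ordCompl hqq Nat.card_pos.ne' h
      · exact hqσ h
  have hB₀q : IsPGroup q B₀ := bg11_isPGroup_of_elemAb hB₀
  obtain ⟨P, hP⟩ := (hB₀q.comap_subtype (K := M)).exists_le_sylow
  obtain ⟨k, -, hk⟩ := sylowSet_trans (sylow_map_mem_sylowSet P) hQM
  refine ⟨MulAut.conj k • B₀, ?_, Helper72.b12c_conj_elemAb hB₀ k, ?_⟩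
  · refine le_trans ?_ hQ.1
    rw [← hk]
    apply conj_smul_le_conj_smul
    intro b hb
    exact ⟨⟨b, hB₀M hb⟩, hP (mem_subgroupOf.mpr hb), rfl⟩
  · rw [card_conj_smul, hB₀c]

/-- A prime `p ∉ σ(Ms)` for which `Ms` contains an elementary abelian subgroup of order `p ^ 2`
lies in `τ₂(Ms)`. -/
theorem bg127_mem_tau2 (hG : IsMinSimpleOddOrder G) (hU : BGUniq G) {Ms : Subgroup G}
    (hMs : IsCoatom Ms) {p : ℕ} [Fact p.Prime] {A : Subgroup G} (hAMs : A ≤ Ms)
    (hA : IsElementaryAbelian p A) (hAc : Nat.card A = p ^ 2) (hσ : p ∉ sigma Ms) :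
    p ∈ tau2 Ms := by
  have hp : p.Prime := Fact.out
  refine ⟨hp, hσ, bg10_pRank_of_not_alpha Ms p hp
    (fun h => hσ (bg10_alpha_sub_sigma hG hU hMs h)), fun h1 => ?_⟩
  have h2 := bg12_card_le_of_pRankLE h1 hAMs hA
  rw [hAc, pow_one] at h2
  have := hp.one_lt
  nlinarith

/-- In a group with a normal `q`-complement, a commutator `[b, c]` with `b ^ n = 1`, `n` prime
to `q`, has order prime to `q`. -/
theorem bg127_comm_order {X : Type u} [Group X] [Finite X] {n q : ℕ} (hq : q.Prime)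
    (hcop : n.Coprime q) (hX : HasNormalPComplement q X) {b c : X} (hb : b ^ n = 1) :
    ¬ q ∣ orderOf (b * c * b⁻¹ * c⁻¹) := by
  haveI := Fact.mk hq
  obtain ⟨P, N, hNn, hNP⟩ := hX
  have hidx : N.index = Nat.card (P : Subgroup X) := hNP.symm.index_eq_card
  have hcardN : Nat.card N = (P : Subgroup X).index := hNP.index_eq_card.symm
  obtain ⟨k, hk⟩ := IsPGroup.iff_card.mp P.2
  have hbN : b ∈ N := by
    refine Helper68.bg123_mem_of_coprime (T := N) (H := ⊤) ?_ (Subgroup.mem_top b) hb ?_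
    · rw [normalizer_eq_top]
    · rw [Subgroup.relIndex_top_right, hidx, hk]
      exact Nat.Coprime.pow_right k hcop
  have hdN : b * c * b⁻¹ * c⁻¹ ∈ N := by
    have h1 : c * b⁻¹ * c⁻¹ ∈ N := hNn.conj_mem _ (inv_mem hbN) c
    have e : b * c * b⁻¹ * c⁻¹ = b * (c * b⁻¹ * c⁻¹) := by group
    rw [e]
    exact mul_mem hbN h1
  intro hd
  have h2 : orderOf (b * c * b⁻¹ * c⁻¹) ∣ Nat.card N := Subgroup.orderOf_dvd_natCard N hdN
  rw [hcardN] at h2
  exact P.not_dvd_index (hd.trans h2)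

/-- **Piece P2 of B&G Theorem 12.7**: `τ₂(M) = {p}`. -/
theorem bg127_tau2_unique (hG : IsMinSimpleOddOrder G) (hU : BGUniq G) (h125 : BG125 G) (h126 : BG126 G) (hβ : Cfsg.Agent.Helper68.BGSigmaCompl G) {M E : Subgroup G} (hM : IsCoatom M) (hE : IsComplIn E (sigmaCore M) M) {p : ℕ} [Fact p.Prime] (hp : p ∈ tau2 M) {A : Subgroup G} (hAE : A ≤ E) (hA : IsElementaryAbelian p A) (hAc : Nat.card A = p ^ 2) {x : G} {e : ℕ} (hxe : x ^ p ^ e = 1) (hxA : ∀ a ∈ A, x * a * x⁻¹ ∈ A) (hxM : x ∉ M) {q : ℕ} (hq : q ∈ tau2 M) : q = p := by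
  by_contra hqp
  have hpp : p.Prime := Fact.out
  have hqq : q.Prime := hq.1
  haveI := Fact.mk hqq
  haveI : IsSimpleGroup G := hG.2.1
  obtain ⟨B, hBE, hB, hBc⟩ := bg127_exists_in_compl hE hq
  obtain ⟨⟨hEA, -⟩, ⟨hCA, hMNA, -⟩, -⟩ := h126 M hM E hE p hp A ⟨hAE, hA, hAc⟩
  obtain ⟨⟨hEB, hXB⟩, ⟨hCB, -, -⟩, -⟩ := h126 M hM E hE q hq B ⟨hBE, hB, hBc⟩
  have hCAE : centralizer (A : Set G) ≤ E := by rw [← hMNA]; exact hCA
  have hCBM : centralizer (B : Set G) ≤ M := hCB.trans inf_le_left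
  have hcop : (Nat.card A).Coprime (Nat.card B) := by
    rw [hAc, hBc]
    exact Nat.Coprime.pow _ _ ((Nat.coprime_primes hpp hqq).2 (Ne.symm hqp))
  have hAB : A ⊓ B = ⊥ := Helper68.bg123_inf_eq_bot hcop
  -- `A` and `B` commute elementwise
  have hcomm : ∀ a ∈ A, ∀ b ∈ B, a * b = b * a := by
    intro a ha b hb
    apply Helper68.bg123_comm_of_eq_one
    have h1 : a * b * a⁻¹ * b⁻¹ ∈ A := by
      have h : b * a⁻¹ * b⁻¹ ∈ A := (mem_normalizer_iff.mp (hEA (hBE hb)) a⁻¹).mp (inv_mem ha)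
      have e' : a * b * a⁻¹ * b⁻¹ = a * (b * a⁻¹ * b⁻¹) := by group
      rw [e']
      exact mul_mem ha h
    have h2 : a * b * a⁻¹ * b⁻¹ ∈ B := by
      have h : a * b * a⁻¹ ∈ B := (mem_normalizer_iff.mp (hEB (hAE ha)) b).mp hb
      exact mul_mem h (inv_mem hb)
    have h3 : a * b * a⁻¹ * b⁻¹ ∈ A ⊓ B := ⟨h1, h2⟩
    rw [hAB] at h3
    exact Subgroup.mem_bot.mp h3
  have hxNA : x ∈ normalizer (A : Set G) := bg10_mem_normalizer hxA
  -- `x` normalizes `B`
  have hxB : ∀ b ∈ B, x * b * x⁻¹ ∈ B := by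
    intro b hb
    have hc : x * b * x⁻¹ ∈ centralizer (A : Set G) := by
      rw [mem_centralizer_iff]
      intro a ha
      have ha' : x⁻¹ * a * x ∈ A := by
        have h := (mem_normalizer_iff.mp (inv_mem hxNA) a).mp ha
        simpa using h
      have h1 := hcomm _ ha' b hb
      have e1 : a * (x * b * x⁻¹) = x * ((x⁻¹ * a * x) * b) * x⁻¹ := by group
      have e2 : x * b * x⁻¹ * a = x * (b * (x⁻¹ * a * x)) * x⁻¹ := by group
      rw [e1, e2, h1]
    have hcE : x * b * x⁻¹ ∈ E := hCAE hc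
    have hpow : (x * b * x⁻¹) ^ q = 1 := by
      rw [conj_pow, hB.2 b hb]; group
    by_cases h1 : x * b * x⁻¹ = 1
    · rw [h1]; exact one_mem B
    · have hord : orderOf (x * b * x⁻¹) = q := orderOf_eq_prime hpow h1
      have hcard : Nat.card (zpowers (x * b * x⁻¹)) = q := by rw [Nat.card_zpowers, hord]
      exact hXB (zpowers (x * b * x⁻¹)) (zpowers_le.2 hcE) hcard (mem_zpowers _)
  have hxNB : x ∈ normalizer (B : Set G) := bg10_mem_normalizer hxB
  have hB1 : B ≠ ⊥ := by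
    intro h
    rw [h, Subgroup.card_bot] at hBc
    have := hqq.one_lt
    nlinarith
  have hBtop : B ≠ ⊤ := fun h => hM.1 (top_le_iff.mp (h ▸ hBE.trans hE.1))
  obtain ⟨Ms, hMs, hNMs⟩ := uq_exists_coatom_ge (normalizer_ne_top_of_simple hB1 hBtop)
  have hxMs : x ∈ Ms := hNMs hxNB
  have hBMs : B ≤ Ms := le_normalizer.trans hNMs
  have hAMs : A ≤ Ms := by
    intro a ha
    apply hNMs
    apply centralizer_le_normalizer
    rw [mem_centralizer_iff]
    intro b hb
    exact (hcomm a ha b hb).symm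
  -- `p ∈ σ(Ms)`
  have hpσ : p ∈ sigma Ms := by
    by_contra hpσ
    have hp2 : p ∈ tau2 Ms := bg127_mem_tau2 hG hU hMs hAMs hA hAc hpσ
    have hAp : IsPGroup p A := bg11_isPGroup_of_elemAb hA
    have hxp : IsPGroup p (zpowers x) := by
      have h1 : orderOf x ∣ p ^ e := orderOf_dvd_of_pow_eq_one hxe
      obtain ⟨k, -, hk⟩ := (Nat.dvd_prime_pow hpp).1 h1
      exact IsPGroup.of_card (n := k) (by rw [Nat.card_zpowers, hk])
    have hsup : IsPGroup p ↥(zpowers x ⊔ A) :=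
      IsPGroup.to_sup_of_normal_right' hxp hAp (zpowers_le.2 hxNA)
    have hc := Helper72.b12c_tau2_comm h125 hMs hp2 (sup_le (zpowers_le.2 hxMs) hAMs) hsup
    have hxC : x ∈ centralizer (A : Set G) := by
      rw [mem_centralizer_iff]
      intro a ha
      exact hc a (mem_sup_right ha) x (mem_sup_left (mem_zpowers x))
    exact hxM (hE.1 (hCAE hxC))
  by_cases hqσ : q ∈ sigma Ms
  · -- `q ∈ σ(Ms)`: `x` centralizes `B`
    have hnid : ¬ IsIdealPrime q G :=
      (Cfsg.Agent.S1408.result hG M hM q hq.2.1 hq.2.2.1 hq.2.2.2).1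
    have hqβ : q ∉ beta Ms := fun h => hnid h.2
    have hqMs : q ∣ Nat.card Ms := by
      have h1 : q ∣ Nat.card B := by rw [hBc]; exact dvd_pow_self q (by norm_num)
      exact h1.trans (Subgroup.card_dvd_of_le hBMs)
    have hX := hβ Ms hMs q hqq hqMs hqβ
    have hxσ : x ∈ sigmaCore Ms := by
      have h1 := (bg10_sigma_hall hG hU hMs).1.2.2 p hpp hpσ
      exact Helper68.bg123_mem_of_coprime (le_normalizer_piCoreOf (sigma Ms) Ms) hxMs hxe
        (Nat.Coprime.pow_left e ((Nat.Prime.coprime_iff_not_dvd hpp).mpr h1))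
    have hBσ : ∀ b ∈ B, b ∈ sigmaCore Ms := fun b hb =>
      Helper68.bg123_mem_sigmaCore hG hU hMs hqσ (hBMs hb) (hB.2 b hb)
    have hxC : x ∈ centralizer (B : Set G) := by
      rw [mem_centralizer_iff]
      intro b hb
      symm
      apply Helper68.bg123_comm_of_eq_one
      have hdB : x * b * x⁻¹ * b⁻¹ ∈ B := mul_mem (hxB b hb) (inv_mem hb)
      have h2 := bg127_comm_order (X := ↥(sigmaCore Ms)) (n := p ^ e) hqq
        (Nat.Coprime.pow_left e ((Nat.coprime_primes hpp hqq).2 (Ne.symm hqp))) hX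
        (b := ⟨x, hxσ⟩) (c := ⟨b, hBσ b hb⟩) (Subtype.ext (by simpa using hxe))
      have e' : orderOf ((⟨x, hxσ⟩ : ↥(sigmaCore Ms)) * ⟨b, hBσ b hb⟩ * (⟨x, hxσ⟩)⁻¹ *
          (⟨b, hBσ b hb⟩)⁻¹) = orderOf (x * b * x⁻¹ * b⁻¹) := by
        rw [← Subgroup.orderOf_coe]
        rfl
      rw [e'] at h2
      refine Helper68.bg123_eq_one_of_coprime hdB (pow_orderOf_eq_one _) ?_
      rw [hBc]
      exact Nat.Coprime.pow_right 2 (((Nat.Prime.coprime_iff_not_dvd hqq).mpr h2).symm)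
    exact hxM (hCBM hxC)
  · -- `q ∉ σ(Ms)`: `N_G(Q) ≤ N_G(B) ≤ Ms` for a Sylow `q`-subgroup `Q` of `Ms` over `B`
    have hq2 : q ∈ tau2 Ms := bg127_mem_tau2 hG hU hMs hBMs hB hBc hqσ
    obtain ⟨-, hP, -⟩ := h125 Ms hMs q hq2 B ⟨hBMs, hB, hBc⟩
    have hBq : IsPGroup q B := bg11_isPGroup_of_elemAb hB
    obtain ⟨P, hBP⟩ := (hBq.comap_subtype (K := Ms)).exists_le_sylow
    have hBle : B ≤ (P : Subgroup Ms).map Ms.subtype := by
      intro b hb
      exact ⟨⟨b, hBMs hb⟩, hBP (mem_subgroupOf.mpr hb), rfl⟩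
    obtain ⟨hΩ, hN⟩ := (hP P).2 hBle
    apply hN
    refine le_trans ?_ hNMs
    intro g hg
    apply bg10_mem_normalizer
    intro b hb
    have h1 : g * b * g⁻¹ ∈ (P : Subgroup Ms).map Ms.subtype :=
      (mem_normalizer_iff.mp hg b).mp (hBle hb)
    exact (hΩ _ h1).1 (by rw [conj_pow, hB.2 b hb]; group)

end Cfsg.Agent.Helper4
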