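import Mathlib
import Cfsg.Agent.Helper1.BG139Defs
import Cfsg.Agent.S1423
import Cfsg.Agent.Helper22.BG10b
import Cfsg.Agent.Helper23.Uniq3
import Cfsg.Agent.Helper23.Trans
import Cfsg.Agent.Helper35.SZ

/-!
# B&G Theorem 13.9, piece B3 of CALL S1378 (helper4): `M_σ ∩ M*_σ` is abelian
-/

set_option autoImplicit false

namespace Cfsg.Agent.Helper4

open Cfsg Subgroup Cfsg.Agent.Helper1 Cfsg.Agent.Helper22 Cfsg.Agent.Helper23 Cfsg.Agent.Helper35
open scoped Pointwise commutatorElement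

universe u

variable {G : Type u} [Group G] [Finite G]

/-- PIECE `B3`. -/
theorem bg139_inter_comm (hG : IsMinSimpleOddOrder G) {M Ms S : Subgroup G} {s : ℕ}
    (c : BG139Cfg M Ms S s) :
    ∀ a ∈ sigmaCore M ⊓ sigmaCore Ms, ∀ b ∈ sigmaCore M ⊓ sigmaCore Ms, a * b = b * a := by
  intro a ha b hb
  by_contra hab
  have hk1 : ⁅a, b⁆ ≠ 1 := fun h => hab (commutatorElement_eq_one_iff_mul_comm.mp h)
  have hkI : ⁅a, b⁆ ∈ sigmaCore M ⊓ sigmaCore Ms := by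
    rw [commutatorElement_def]
    exact mul_mem (mul_mem (mul_mem ha hb) (inv_mem ha)) (inv_mem hb)
  have hkD : ⁅a, b⁆ ∈ ⁅sigmaCore M, sigmaCore M⁆ :=
    Subgroup.commutator_mem_commutator ha.1 hb.1
  obtain ⟨u, hu, hudvd⟩ := Nat.exists_prime_and_dvd (fun h => hk1 (orderOf_eq_one_iff.mp h))
  haveI := Fact.mk hu
  obtain ⟨z, hz⟩ : ∃ z : G, z = ⁅a, b⁆ ^ (orderOf ⁅a, b⁆ / u) := ⟨_, rfl⟩
  have hzo : orderOf z = u := by
    rw [hz]; exact orderOf_pow_orderOf_div (orderOf_pos _).ne' hudvd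
  have hzI : z ∈ sigmaCore M ⊓ sigmaCore Ms := by rw [hz]; exact Subgroup.pow_mem _ hkI _
  have hzD : z ∈ ⁅sigmaCore M, sigmaCore M⁆ := by rw [hz]; exact Subgroup.pow_mem _ hkD _
  have hXcard : Nat.card (Subgroup.zpowers z) = u := by rw [Nat.card_zpowers, hzo]
  have hXI : Subgroup.zpowers z ≤ sigmaCore M ⊓ sigmaCore Ms := Subgroup.zpowers_le.mpr hzI
  have hXD : Subgroup.zpowers z ≤ ⁅sigmaCore M, sigmaCore M⁆ := Subgroup.zpowers_le.mpr hzD
  have huM : u ∈ sigma M := mem_of_dvd_card_piCoreOf (sigma M) M hu (by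
    rw [← hXcard]; exact Subgroup.card_dvd_of_le (hXI.trans inf_le_left))
  have huMs : u ∈ sigma Ms := mem_of_dvd_card_piCoreOf (sigma Ms) Ms hu (by
    rw [← hXcard]; exact Subgroup.card_dvd_of_le (hXI.trans inf_le_right))
  have hσM : sigmaCore M ≤ M := piCoreOf_le _ _
  obtain ⟨P⟩ : Nonempty (Sylow u ↥(sigmaCore M)) := inferInstance
  obtain ⟨-, hUniq, hPM⟩ := Cfsg.Agent.S1423.result hG M c.hM u huM (Subgroup.zpowers z)
    ((hXI.trans inf_le_left).trans hσM) hXcard P (Or.inr hXD)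
  have hPp : IsPGroup u ↥((P : Subgroup ↥(sigmaCore M)).map (sigmaCore M).subtype) := P.2.map _
  -- a Sylow `u`-subgroup of `G` inside `Ms`
  obtain ⟨-, -, R₀, hNR⟩ := huMs
  have hR := isSylowOf_map R₀
  have hRtop : IsSylowOf u ((R₀ : Subgroup ↥Ms).map Ms.subtype) ⊤ :=
    hR.of_normalizer_inf_le le_top (inf_le_left.trans hNR)
  obtain ⟨h, hh⟩ := bg10_exists_conj_le hRtop hPp
  have hle : (P : Subgroup ↥(sigmaCore M)).map (sigmaCore M).subtype ≤ MulAut.conj h⁻¹ • Ms := by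
    intro y hy
    rw [mem_conj_smul, inv_inv]
    exact hR.1 (hh y hy)
  obtain ⟨M', -, huniq⟩ := hUniq
  have e1 : M = M' := huniq M ⟨c.hM, hPM⟩
  have e2 : MulAut.conj h⁻¹ • Ms = M' := huniq _ ⟨isCoatom_conj_smul h⁻¹ c.hMs, hle⟩
  apply c.hnc h
  ext x
  simp only [Subgroup.mem_map, MulEquiv.coe_toMonoidHom, MulAut.conj_apply]
  constructor
  · intro hx
    refine ⟨h⁻¹ * x * h, ?_, by group⟩
    rw [e1, ← e2, mem_conj_smul, inv_inv]
    have : h * (h⁻¹ * x * h) * h⁻¹ = x := by group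
    rw [this]; exact hx
  · rintro ⟨y, hy, rfl⟩
    rw [e1, ← e2, mem_conj_smul, inv_inv] at hy
    exact hy

end Cfsg.Agent.Helper4
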