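import Mathlib
import Cfsg.Agent.Helper54.BG14T

set_option autoImplicit false

namespace Cfsg.Agent.Helper4

open Cfsg Subgroup

universe u

variable {G : Type u} [Group G] [Finite G]

/-- BF. From fusion inside `↥M` to the statement of 15.7(b): for `x ≠ 1`, `Helper54.bg14t_trans`
(with `x' := g x g⁻¹ ∈ M_σ`, `g⁻¹ x' g = x ∈ M`) gives `g = c m`, `c ∈ C(x')`, `m ∈ M`, so
`m x m⁻¹ = g x g⁻¹`; then `hfus` and `n ∈ N_{↥M}(H.subgroupOf M) ⟹ (n : G) ∈ N_G(H)` (`H ≤ M`). -/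
theorem bg157_b_of_fusion (hG : IsMinSimpleOddOrder G) {M H : Subgroup G} (hM : IsCoatom M)
    (hH : H ≤ sigmaCore M)
    (hfus : ∀ x m : ↥M, x ∈ H.subgroupOf M → m * x * m⁻¹ ∈ H.subgroupOf M →
      ∃ n ∈ normalizer ((H.subgroupOf M : Subgroup ↥M) : Set ↥M), n * x * n⁻¹ = m * x * m⁻¹) :
    ∀ x ∈ H, ∀ g : G, g * x * g⁻¹ ∈ H →
      ∃ n ∈ M ⊓ normalizer (H : Set G), n * x * n⁻¹ = g * x * g⁻¹ := by
  intro x hx g hgx
  have hσM : sigmaCore M ≤ M := Cfsg.Agent.Helper23.piCoreOf_le (sigma M) M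
  have hHM : H ≤ M := hH.trans hσM
  by_cases hx1 : x = 1
  · subst hx1
    exact ⟨1, one_mem _, by simp⟩
  have hx'1 : g * x * g⁻¹ ≠ 1 := by
    intro h
    apply hx1
    have : x = g⁻¹ * (g * x * g⁻¹) * g := by group
    rw [this, h]; group
  have hback : g⁻¹ * (g * x * g⁻¹) * g ∈ M := by
    have : g⁻¹ * (g * x * g⁻¹) * g = x := by group
    rw [this]; exact hHM hx
  obtain ⟨c, hc, m, hm, hgcm⟩ := Cfsg.Agent.Helper54.bg14t_trans hG hM (hH hgx) hx'1 hback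
  have hcc : c * (g * x * g⁻¹) = (g * x * g⁻¹) * c := by
    have := (mem_centralizer_iff.mp hc) (g * x * g⁻¹) (Set.mem_singleton _)
    exact this.symm
  have hmx : m * x * m⁻¹ = g * x * g⁻¹ := by
    have hm' : m = c⁻¹ * g := by rw [hgcm]; group
    rw [hm']
    have : c⁻¹ * g * x * (c⁻¹ * g)⁻¹ = c⁻¹ * ((g * x * g⁻¹) * c) := by group
    rw [this, ← hcc]; group
  obtain ⟨n, hn, hnx⟩ := hfus ⟨x, hHM hx⟩ ⟨m, hm⟩ (by rw [mem_subgroupOf]; exact hx)
    (by rw [mem_subgroupOf]; show m * x * m⁻¹ ∈ H; rw [hmx]; exact hgx)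
  refine ⟨(n : G), ⟨n.2, ?_⟩, ?_⟩
  · show (n : G) ∈ normalizer (H : Set G)
    rw [mem_normalizer_iff] at hn ⊢
    intro h
    constructor
    · intro hh
      have := (hn ⟨h, hHM hh⟩).mp (by rw [mem_subgroupOf]; exact hh)
      rw [mem_subgroupOf] at this
      exact this
    · intro hh
      have hhM : h ∈ M := by
        have h1 : (n : G) * h * (n : G)⁻¹ ∈ M := hHM hh
        have : h = (n : G)⁻¹ * ((n : G) * h * (n : G)⁻¹) * (n : G) := by group
        rw [this]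
        exact M.mul_mem (M.mul_mem (M.inv_mem n.2) h1) n.2
      have := (hn ⟨h, hhM⟩).mpr (by rw [mem_subgroupOf]; exact hh)
      rw [mem_subgroupOf] at this
      exact this
  · have := congrArg (Subtype.val) hnx
    simpa using this.trans hmx

end Cfsg.Agent.Helper4
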