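import Mathlib

set_option autoImplicit false

namespace Cfsg.Agent.Helper4

variable {G : Type*} [Group G]

theorem orderOf_two_iff {t : G} : orderOf t = 2 ↔ t ≠ 1 ∧ t * t = 1 := by
  have : Fact (Nat.Prime 2) := ⟨Nat.prime_two⟩
  rw [orderOf_eq_prime_iff, pow_two]
  tauto

theorem mul_self_of_orderOf_two {t : G} (ht : orderOf t = 2) : t * t = 1 :=
  (orderOf_two_iff.mp ht).2

theorem ne_one_of_orderOf_two {t : G} (ht : orderOf t = 2) : t ≠ 1 :=
  (orderOf_two_iff.mp ht).1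

theorem inv_eq_self_of_mul_self {t : G} (ht : t * t = 1) : t⁻¹ = t :=
  inv_eq_of_mul_eq_one_left ht

theorem inv_eq_self_of_orderOf_two {t : G} (ht : orderOf t = 2) : t⁻¹ = t :=
  inv_eq_self_of_mul_self (mul_self_of_orderOf_two ht)

/-- For `x * x = 1` and `y * y = 1`: `x` inverts `x * y`. -/
theorem conj_mul_of_mul_self {x y : G} (hx : x * x = 1) (hy : y * y = 1) :
    x * (x * y) * x⁻¹ = (x * y)⁻¹ := by
  have hx' : x⁻¹ = x := inv_eq_self_of_mul_self hx
  have hy' : y⁻¹ = y := inv_eq_self_of_mul_self hy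
  rw [mul_inv_rev, hx', hy', ← mul_assoc, hx, one_mul]

theorem conj_zpow_of_mul_self {x y : G} (hx : x * x = 1) (hy : y * y = 1) (k : ℤ) :
    x * (x * y) ^ k * x⁻¹ = ((x * y) ^ k)⁻¹ := by
  have h := conj_mul_of_mul_self hx hy
  have h2 : x * (x * y) ^ k * x⁻¹ = (x * (x * y) * x⁻¹) ^ k := by
    rw [conj_zpow]
  rw [h2, h, inv_zpow]

/-- `x * a^k * x = a^(-k)` for `a = x * y`, `x, y` involutions. -/
theorem mul_zpow_mul_of_mul_self {x y : G} (hx : x * x = 1) (hy : y * y = 1) (k : ℤ) :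
    x * (x * y) ^ k * x = (x * y) ^ (-k) := by
  have h := conj_zpow_of_mul_self hx hy k
  rw [inv_eq_self_of_mul_self hx] at h
  rw [h, zpow_neg]

/-- `a^k * x = x * a^(-k)`. -/
theorem zpow_mul_of_mul_self {x y : G} (hx : x * x = 1) (hy : y * y = 1) (k : ℤ) :
    (x * y) ^ k * x = x * (x * y) ^ (-k) := by
  rw [← mul_zpow_mul_of_mul_self hx hy k, ← mul_assoc, ← mul_assoc, hx, one_mul]

/-- Every element of the subgroup generated by two involutions `x, y` is `(xy)^k` or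
`x (xy)^k`. -/
theorem mem_closure_pair {x y : G} (hx : x * x = 1) (hy : y * y = 1) {d : G}
    (hd : d ∈ Subgroup.closure ({x, y} : Set G)) :
    ∃ k : ℤ, d = (x * y) ^ k ∨ d = x * (x * y) ^ k := by
  induction hd using Subgroup.closure_induction with
  | mem z hz =>
    rcases hz with rfl | hz
    · exact ⟨0, Or.inr (by simp)⟩
    · have hz' : z = y := hz
      subst hz'
      exact ⟨1, Or.inr (by rw [zpow_one, ← mul_assoc, hx, one_mul])⟩
  | one => exact ⟨0, Or.inl (by simp)⟩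
  | mul a b _ _ iha ihb =>
    obtain ⟨i, hi⟩ := iha
    obtain ⟨j, hj⟩ := ihb
    rcases hi with rfl | rfl <;> rcases hj with rfl | rfl
    · exact ⟨i + j, Or.inl (by rw [zpow_add])⟩
    · refine ⟨-i + j, Or.inr ?_⟩
      rw [← mul_assoc, zpow_mul_of_mul_self hx hy, mul_assoc, ← zpow_add]
    · exact ⟨i + j, Or.inr (by rw [mul_assoc, ← zpow_add])⟩
    · refine ⟨-i + j, Or.inl ?_⟩
      calc x * (x * y) ^ i * (x * (x * y) ^ j) = (x * (x * y) ^ i * x) * (x * y) ^ j := by group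
        _ = (x * y) ^ (-i + j) := by rw [mul_zpow_mul_of_mul_self hx hy, ← zpow_add]
  | inv a _ iha =>
    obtain ⟨i, hi⟩ := iha
    rcases hi with rfl | rfl
    · exact ⟨-i, Or.inl (by rw [zpow_neg])⟩
    · refine ⟨i, Or.inr ?_⟩
      rw [mul_inv_rev, inv_eq_self_of_mul_self hx, ← zpow_neg, zpow_mul_of_mul_self hx hy, neg_neg]

theorem zpow_mem_closure_pair (x y : G) (k : ℤ) :
    (x * y) ^ k ∈ Subgroup.closure ({x, y} : Set G) :=
  Subgroup.zpow_mem _ (Subgroup.mul_mem _ (Subgroup.subset_closure (by simp))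
    (Subgroup.subset_closure (by simp))) k

theorem mul_zpow_mem_closure_pair (x y : G) (k : ℤ) :
    x * (x * y) ^ k ∈ Subgroup.closure ({x, y} : Set G) :=
  Subgroup.mul_mem _ (Subgroup.subset_closure (by simp)) (zpow_mem_closure_pair x y k)

/-- Conjugating `x` by `(xy)^k`. -/
theorem zpow_conj_of_mul_self {x y : G} (hx : x * x = 1) (hy : y * y = 1) (k : ℤ) :
    (x * y) ^ k * x * ((x * y) ^ k)⁻¹ = x * (x * y) ^ (-(2 * k)) := by
  rw [zpow_mul_of_mul_self hx hy, mul_assoc, ← zpow_neg, ← zpow_add]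
  congr 2
  ring

/-- Conjugating `x` by `x (xy)^k`. -/
theorem mul_zpow_conj_of_mul_self {x y : G} (hx : x * x = 1) (hy : y * y = 1) (k : ℤ) :
    (x * (x * y) ^ k) * x * (x * (x * y) ^ k)⁻¹ = x * (x * y) ^ (2 * k) := by
  have h1 : (x * (x * y) ^ k) * x * (x * (x * y) ^ k)⁻¹
      = x * ((x * y) ^ k * x * ((x * y) ^ k)⁻¹) * x⁻¹ := by group
  rw [h1, zpow_conj_of_mul_self hx hy, inv_eq_self_of_mul_self hx, ← mul_assoc, hx, one_mul,
    zpow_mul_of_mul_self hx hy, neg_neg]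

/-- If `d ∈ ⟨x, y⟩` then `d x d⁻¹ = x (xy)^(2k)` for some `k`. -/
theorem conj_mem_closure_pair {x y : G} (hx : x * x = 1) (hy : y * y = 1) {d : G}
    (hd : d ∈ Subgroup.closure ({x, y} : Set G)) :
    ∃ k : ℤ, d * x * d⁻¹ = x * (x * y) ^ (2 * k) := by
  obtain ⟨k, rfl | rfl⟩ := mem_closure_pair hx hy hd
  · exact ⟨-k, by rw [zpow_conj_of_mul_self hx hy]; congr 2; ring⟩
  · exact ⟨k, mul_zpow_conj_of_mul_self hx hy k⟩

end Cfsg.Agent.Helper4
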