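import Mathlib
import Cfsg.Agent.Helper4.Dihedral

set_option autoImplicit false

namespace Cfsg.Agent.Helper4

variable {G : Type*} [Group G]

theorem mem_map_conj_iff (H : Subgroup G) (g a : G) :
    a ∈ H.map (MulAut.conj g).toMonoidHom ↔ g⁻¹ * a * g ∈ H := by
  rw [Subgroup.mem_map]
  constructor
  · rintro ⟨b, hb, rfl⟩
    have : g⁻¹ * (MulAut.conj g).toMonoidHom b * g = b := by
      simp only [MulEquiv.coe_toMonoidHom, MulAut.conj_apply]
      group
    rw [this]; exact hb
  · intro h
    refine ⟨g⁻¹ * a * g, h, ?_⟩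
    simp only [MulEquiv.coe_toMonoidHom, MulAut.conj_apply]
    group

theorem orderOf_conj_eq (g t : G) : orderOf (g * t * g⁻¹) = orderOf t := by
  have h : SemiconjBy g t (g * t * g⁻¹) := by
    unfold SemiconjBy; group
  exact (h.orderOf_eq g).symm

theorem orderOf_conj_eq' (g t : G) : orderOf (g⁻¹ * t * g) = orderOf t := by
  have := orderOf_conj_eq g⁻¹ t
  rwa [inv_inv] at this

/-- A subgroup of a finite group has even order iff it contains an involution. -/
theorem not_odd_card_iff_exists_involution [Finite G] (K : Subgroup G) :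
    ¬ Odd (Nat.card K) ↔ ∃ t ∈ K, orderOf t = 2 := by
  constructor
  · intro h
    rw [Nat.not_odd_iff_even, even_iff_two_dvd] at h
    have : Fact (Nat.Prime 2) := ⟨Nat.prime_two⟩
    obtain ⟨x, hx⟩ := exists_prime_orderOf_dvd_card' (G := K) 2 h
    exact ⟨x.1, x.2, by rw [Subgroup.orderOf_coe]; exact hx⟩
  · rintro ⟨t, ht, h2⟩ hodd
    have hdvd : 2 ∣ Nat.card K := h2 ▸ Subgroup.orderOf_dvd_natCard K ht
    exact Nat.not_even_iff_odd.mpr hodd (even_iff_two_dvd.mpr hdvd)

theorem even_card_iff_exists_involution [Finite G] (K : Subgroup G) :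
    Even (Nat.card K) ↔ ∃ t ∈ K, orderOf t = 2 := by
  rw [← not_odd_card_iff_exists_involution, Nat.not_odd_iff_even]

/-- A finite group has even order iff it contains an involution. -/
theorem even_card_iff_exists_involution' [Finite G] :
    Even (Nat.card G) ↔ ∃ t : G, orderOf t = 2 := by
  constructor
  · intro h
    rw [even_iff_two_dvd] at h
    have : Fact (Nat.Prime 2) := ⟨Nat.prime_two⟩
    exact exists_prime_orderOf_dvd_card' (G := G) 2 h
  · rintro ⟨t, h2⟩
    exact even_iff_two_dvd.mpr (h2 ▸ orderOf_dvd_natCard t)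

end Cfsg.Agent.Helper4
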