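import Mathlib
import Cfsg.Agent.Helper15.CharInner
import Cfsg.Agent.Helper81.CharBasic
import Cfsg.Agent.Helper80.CharOrtho

/-!
# Generalized characters: integer decomposition, norm two (helper4)

* `genChar_eq_sum`: a generalized character is an integer combination of irreducible characters.
* `classInner_sum_irr`: the inner product of two combinations of irreducible characters.
* `classInner_irr_sub_sub`: `⟨α - β, γ - δ⟩` for irreducible characters.
* `genChar_norm_two`: a generalized character of norm `2` vanishing at `1` is a difference of two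
  distinct irreducible characters.
-/

set_option autoImplicit false

namespace Cfsg.Agent.Helper4

open Cfsg
open scoped ComplexConjugate

variable {G : Type*} [Group G]

theorem isCharacter_eq_nat_sum [Finite G] [Fintype (IrrCharacter G)] {χ : G → ℂ}
    (h : IsCharacter G χ) :
    ∃ m : IrrCharacter G → ℕ, χ = ∑ ψ : IrrCharacter G, (m ψ : ℂ) • (ψ : G → ℂ) := by
  obtain ⟨n, ρ, rfl⟩ := h
  exact Helper81.exists_mult_of_mem_natSpanIrr (Helper81.character_mem_natSpanIrr ρ)

/-- A generalized character is an integer combination of irreducible characters. -/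
theorem genChar_eq_sum [Finite G] [Fintype (IrrCharacter G)] {θ : G → ℂ}
    (h : IsGeneralizedCharacter G θ) :
    ∃ a : IrrCharacter G → ℤ, θ = ∑ ψ : IrrCharacter G, (a ψ : ℂ) • (ψ : G → ℂ) := by
  obtain ⟨χ, ψ, hχ, hψ, rfl⟩ := h
  obtain ⟨m, hm⟩ := isCharacter_eq_nat_sum hχ
  obtain ⟨m', hm'⟩ := isCharacter_eq_nat_sum hψ
  refine ⟨fun φ => (m φ : ℤ) - (m' φ : ℤ), ?_⟩
  rw [hm, hm', ← Finset.sum_sub_distrib]
  apply Finset.sum_congr rfl
  intro φ _
  push_cast
  rw [sub_smul]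

/-- Inner product of two combinations of irreducible characters. -/
theorem classInner_sum_irr [Fintype G] [Fintype (IrrCharacter G)] (a b : IrrCharacter G → ℂ) :
    classInner (∑ χ : IrrCharacter G, a χ • (χ : G → ℂ)) (∑ χ : IrrCharacter G, b χ • (χ : G → ℂ))
      = ∑ χ : IrrCharacter G, a χ * conj (b χ) := by
  classical
  rw [Helper15.classInner_sum_left]
  apply Finset.sum_congr rfl
  intro χ _
  rw [Helper15.classInner_smul_left, Helper15.classInner_sum_right]
  congr 1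
  rw [Finset.sum_eq_single χ]
  · rw [Helper15.classInner_smul_right, Helper15.irr_inner, if_pos rfl, mul_one]
  · intro ψ _ hψ
    rw [Helper15.classInner_smul_right, Helper15.irr_inner, if_neg (Ne.symm hψ), mul_zero]
  · intro h; exact absurd (Finset.mem_univ _) h

/-- `⟨α - β, γ - δ⟩` for irreducible characters. -/
theorem classInner_irr_sub_sub [Fintype G] [DecidableEq (IrrCharacter G)]
    (α β γ δ : IrrCharacter G) :
    classInner ((α : G → ℂ) - (β : G → ℂ)) ((γ : G → ℂ) - (δ : G → ℂ))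
      = (if α = γ then 1 else 0) - (if α = δ then 1 else 0) - (if β = γ then 1 else 0)
        + (if β = δ then 1 else 0) := by
  have e1 : ((α : G → ℂ) - (β : G → ℂ)) = (α : G → ℂ) + (-1 : ℂ) • (β : G → ℂ) := by
    rw [neg_one_smul, sub_eq_add_neg]
  have e2 : ((γ : G → ℂ) - (δ : G → ℂ)) = (γ : G → ℂ) + (-1 : ℂ) • (δ : G → ℂ) := by
    rw [neg_one_smul, sub_eq_add_neg]
  rw [e1, e2, Helper15.classInner_add_left, Helper15.classInner_add_right,
    Helper15.classInner_add_right, Helper15.classInner_smul_left, Helper15.classInner_smul_left,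
    Helper15.classInner_smul_right, Helper15.classInner_smul_right]
  have h : ∀ x y : IrrCharacter G, classInner (x : G → ℂ) (y : G → ℂ) = if x = y then 1 else 0 := by
    intro x y
    rw [Helper15.irr_inner]
    congr
  rw [h, h, h, h]
  simp only [map_neg, map_one]
  ring

/-- A generalized character of norm two vanishing at the identity is the difference of two
distinct irreducible characters. -/
theorem genChar_norm_two [Fintype G] {θ : G → ℂ} (h : IsGeneralizedCharacter G θ)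
    (h2 : classInner θ θ = 2) (h1 : θ 1 = 0) :
    ∃ α β : IrrCharacter G, α ≠ β ∧ θ = (α : G → ℂ) - (β : G → ℂ) := by
  classical
  letI : Fintype (IrrCharacter G) := Fintype.ofFinite _
  obtain ⟨a, ha⟩ := genChar_eq_sum h
  have hsum : ∑ χ : IrrCharacter G, a χ ^ 2 = 2 := by
    have h3 := classInner_sum_irr (G := G) (fun χ => (a χ : ℂ)) (fun χ => (a χ : ℂ))
    rw [← ha, h2] at h3
    have h4 : (2 : ℂ) = ((∑ χ : IrrCharacter G, a χ ^ 2 : ℤ) : ℂ) := by
      rw [h3]
      push_cast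
      apply Finset.sum_congr rfl
      intro χ _
      rw [map_intCast, sq]
    exact_mod_cast h4.symm
  have hnn : ∀ χ ∈ (Finset.univ : Finset (IrrCharacter G)), 0 ≤ a χ ^ 2 := fun χ _ => sq_nonneg _
  -- first nonzero coefficient
  obtain ⟨χ₁, hχ₁⟩ : ∃ χ₁, a χ₁ ≠ 0 := by
    by_contra hcon
    push Not at hcon
    have : ∑ χ : IrrCharacter G, a χ ^ 2 = 0 :=
      Finset.sum_eq_zero (fun χ _ => by rw [hcon χ]; rfl)
    omega
  have hle1 : a χ₁ ^ 2 ≤ 2 := by
    rw [← hsum]
    exact Finset.single_le_sum hnn (Finset.mem_univ χ₁)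
  have hsq1 : a χ₁ ^ 2 = 1 := by
    have h5 : 0 < a χ₁ ^ 2 := by positivity
    have h6 : a χ₁ ^ 2 ≠ 2 := by
      intro h7
      have h8 : |a χ₁| < 2 := abs_lt_of_sq_lt_sq (by rw [h7]; norm_num) (by norm_num)
      have h9 : |a χ₁| ≤ 1 := by omega
      have h10 : a χ₁ ^ 2 ≤ 1 := by
        rw [← sq_abs]
        exact pow_le_one₀ (abs_nonneg _) h9
      omega
    omega
  have hsum2 : ∑ χ ∈ Finset.univ.erase χ₁, a χ ^ 2 = 1 := by
    have := Finset.add_sum_erase Finset.univ (fun χ => a χ ^ 2) (Finset.mem_univ χ₁)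
    omega
  obtain ⟨χ₂, hχ₂m, hχ₂⟩ : ∃ χ₂ ∈ Finset.univ.erase χ₁, a χ₂ ≠ 0 := by
    by_contra hcon
    push Not at hcon
    have : ∑ χ ∈ Finset.univ.erase χ₁, a χ ^ 2 = 0 :=
      Finset.sum_eq_zero (fun χ hχ => by rw [hcon χ hχ]; rfl)
    omega
  have hne : χ₂ ≠ χ₁ := Finset.ne_of_mem_erase hχ₂m
  have hsq2 : a χ₂ ^ 2 = 1 := by
    have h5 : 0 < a χ₂ ^ 2 := by positivity
    have h6 : a χ₂ ^ 2 ≤ 1 := by
      rw [← hsum2]
      exact Finset.single_le_sum (fun χ _ => sq_nonneg (a χ)) hχ₂m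
    omega
  have hrest : ∀ χ, χ ≠ χ₁ → χ ≠ χ₂ → a χ = 0 := by
    intro χ hχ1 hχ2
    have hmem : χ ∈ (Finset.univ.erase χ₁).erase χ₂ :=
      Finset.mem_erase.mpr ⟨hχ2, Finset.mem_erase.mpr ⟨hχ1, Finset.mem_univ _⟩⟩
    have h5 := Finset.add_sum_erase (Finset.univ.erase χ₁) (fun χ => a χ ^ 2) hχ₂m
    have h6 : ∑ χ ∈ (Finset.univ.erase χ₁).erase χ₂, a χ ^ 2 = 0 := by omega
    have h7 := (Finset.sum_eq_zero_iff_of_nonneg (fun χ _ => sq_nonneg (a χ))).mp h6 χ hmem
    exact pow_eq_zero_iff (two_ne_zero) |>.mp h7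
  have hθ : θ = (a χ₁ : ℂ) • (χ₁ : G → ℂ) + (a χ₂ : ℂ) • (χ₂ : G → ℂ) := by
    rw [ha]
    apply Finset.sum_eq_add χ₁ χ₂ hne.symm
    · intro χ _ hχ
      rw [hrest χ hχ.1 hχ.2]
      simp
    · intro h; exact absurd (Finset.mem_univ _) h
    · intro h; exact absurd (Finset.mem_univ _) h
  -- degrees
  have hd1 := Helper80.irr_one_eq χ₁
  have hd2 := Helper80.irr_one_eq χ₂
  have hp1 := Helper81.charDegree_pos χ₁
  have hp2 := Helper81.charDegree_pos χ₂
  have hone : (a χ₁ : ℂ) * (charDegree (χ₁ : G → ℂ) : ℂ) + (a χ₂ : ℂ) * (charDegree (χ₂ : G → ℂ) : ℂ)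
      = 0 := by
    rw [← hd1, ← hd2, ← h1, hθ]
    simp
  have hone' : a χ₁ * (charDegree (χ₁ : G → ℂ) : ℤ) + a χ₂ * (charDegree (χ₂ : G → ℂ) : ℤ) = 0 := by
    exact_mod_cast hone
  have hv1 : a χ₁ = 1 ∨ a χ₁ = -1 := by
    rcases sq_eq_one_iff.mp hsq1 with h | h
    · exact Or.inl h
    · exact Or.inr h
  have hv2 : a χ₂ = 1 ∨ a χ₂ = -1 := by
    rcases sq_eq_one_iff.mp hsq2 with h | h
    · exact Or.inl h
    · exact Or.inr h
  have hp1' : (0 : ℤ) < (charDegree (χ₁ : G → ℂ) : ℤ) := by exact_mod_cast hp1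
  have hp2' : (0 : ℤ) < (charDegree (χ₂ : G → ℂ) : ℤ) := by exact_mod_cast hp2
  rcases hv1 with h3 | h3 <;> rcases hv2 with h4 | h4
  · rw [h3, h4] at hone'; omega
  · refine ⟨χ₁, χ₂, hne.symm, ?_⟩
    rw [hθ, h3, h4]
    push_cast
    rw [one_smul, neg_one_smul, sub_eq_add_neg]
  · refine ⟨χ₂, χ₁, hne, ?_⟩
    rw [hθ, h3, h4]
    push_cast
    rw [one_smul, neg_one_smul, sub_eq_add_neg, add_comm]
  · rw [h3, h4] at hone'; omega

end Cfsg.Agent.Helper4
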