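import Mathlib
import Cfsg.Agent.Helper4.GenChar

/-!
# Generalized characters of norm one (helper4)

* `genChar_norm_one`: a generalized character `θ` with `⟨θ, θ⟩ = 1` is `± ξ` for an irreducible
  character `ξ`.
-/

set_option autoImplicit false

namespace Cfsg.Agent.Helper4

open Cfsg
open scoped ComplexConjugate

variable {G : Type*} [Group G]

/-- A generalized character of norm one is plus or minus an irreducible character. -/
theorem genChar_norm_one [Fintype G] {θ : G → ℂ} (h : IsGeneralizedCharacter G θ)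
    (h1 : classInner θ θ = 1) :
    ∃ ξ : IrrCharacter G, θ = (ξ : G → ℂ) ∨ θ = -(ξ : G → ℂ) := by
  classical
  letI : Fintype (IrrCharacter G) := Fintype.ofFinite _
  obtain ⟨a, ha⟩ := genChar_eq_sum h
  have hsum : ∑ χ : IrrCharacter G, a χ ^ 2 = 1 := by
    have h3 := classInner_sum_irr (G := G) (fun χ => (a χ : ℂ)) (fun χ => (a χ : ℂ))
    rw [← ha, h1] at h3
    have h4 : (1 : ℂ) = ((∑ χ : IrrCharacter G, a χ ^ 2 : ℤ) : ℂ) := by
      rw [h3]
      push_cast
      apply Finset.sum_congr rfl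
      intro χ _
      rw [map_intCast, sq]
    exact_mod_cast h4.symm
  have hnn : ∀ χ ∈ (Finset.univ : Finset (IrrCharacter G)), 0 ≤ a χ ^ 2 := fun χ _ => sq_nonneg _
  obtain ⟨χ₁, hχ₁⟩ : ∃ χ₁, a χ₁ ≠ 0 := by
    by_contra hcon
    push Not at hcon
    have : ∑ χ : IrrCharacter G, a χ ^ 2 = 0 :=
      Finset.sum_eq_zero (fun χ _ => by rw [hcon χ]; rfl)
    omega
  have hle1 : a χ₁ ^ 2 ≤ 1 := by
    rw [← hsum]
    exact Finset.single_le_sum hnn (Finset.mem_univ χ₁)
  have hother : ∀ χ, χ ≠ χ₁ → a χ = 0 := by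
    intro χ hχ
    have h2 : a χ₁ ^ 2 + a χ ^ 2 ≤ 1 := by
      rw [← hsum]
      have hsub : ({χ₁, χ} : Finset (IrrCharacter G)) ⊆ Finset.univ := Finset.subset_univ _
      have := Finset.sum_le_sum_of_subset_of_nonneg (f := fun ψ => a ψ ^ 2) hsub
        (fun ψ _ _ => sq_nonneg _)
      rw [Finset.sum_pair (Ne.symm hχ)] at this
      exact this
    have h3 : 1 ≤ a χ₁ ^ 2 := by
      have : 0 < a χ₁ ^ 2 := by positivity
      omega
    have h4 : a χ ^ 2 ≤ 0 := by omega
    have h5 : a χ ^ 2 = 0 := le_antisymm h4 (sq_nonneg _)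
    exact pow_eq_zero_iff (two_ne_zero) |>.1 h5
  have hθ : θ = (a χ₁ : ℂ) • (χ₁ : G → ℂ) := by
    rw [ha, Finset.sum_eq_single χ₁]
    · intro χ _ hχ
      rw [hother χ hχ]
      simp
    · intro hc
      exact absurd (Finset.mem_univ _) hc
  have hpm : a χ₁ = 1 ∨ a χ₁ = -1 := by
    have h3 : -1 ≤ a χ₁ ∧ a χ₁ ≤ 1 := by
      constructor <;> nlinarith
    rcases h3 with ⟨h3, h4⟩
    have : a χ₁ = -1 ∨ a χ₁ = 0 ∨ a χ₁ = 1 := by omega
    rcases this with h | h | h
    · right; exact h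
    · exact absurd h hχ₁
    · left; exact h
  refine ⟨χ₁, ?_⟩
  rcases hpm with h | h
  · left
    rw [hθ, h]
    simp
  · right
    rw [hθ, h]
    simp

end Cfsg.Agent.Helper4
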