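import Mathlib
import Cfsg.Agent.Helper15.D1LDDefs
import Cfsg.Agent.Helper75.LatDefs
import Cfsg.Agent.Helper80.LatP6
import Cfsg.Agent.Helper80.CharIrr

/-!
# Piece LD4 of CALL S4442LD (helper4): the coefficient of `θ` in `η ∘ φ` controls all translates
-/

set_option autoImplicit false
open Cfsg Matrix
open scoped ComplexConjugate

universe u

namespace Cfsg.Agent.Helper4

open Cfsg.Agent.Helper15

/-- A matrix representation affording an irreducible character. -/
theorem d1_matrep {H : Type u} [Group H] (η : Cfsg.IrrCharacter H) :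
    ∃ (n : ℕ) (D : H →* Matrix (Fin n) (Fin n) ℂ), ∀ g : H, (D g).trace = (η : H → ℂ) g := by
  obtain ⟨n, ρ, -, hρ⟩ := η.2
  let D : H →* Matrix (Fin n) (Fin n) ℂ :=
    (LinearMap.toMatrixAlgEquiv' (R := ℂ) (n := Fin n)).toMulEquiv.toMonoidHom.comp ρ
  have hD : ∀ g : H, D g = LinearMap.toMatrix' (ρ g) := fun g => rfl
  refine ⟨n, D, ?_⟩
  intro g
  rw [← hρ, hD]
  change Matrix.trace (LinearMap.toMatrix' (ρ g)) = LinearMap.trace ℂ _ (ρ g)
  rw [LinearMap.trace_eq_matrix_trace ℂ (Pi.basisFun ℂ (Fin n)), LinearMap.toMatrix_eq_toMatrix']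

/-- LD4 (characteristic 0) -/
theorem d1_theta_coeff {H K : Type u} [Group H] [Group K] [Finite H] [Finite K] (φ : K →* H)
    (η : Cfsg.IrrCharacter H) (θ : Cfsg.IrrCharacter K) (g : H)
    (h : ∑ᶠ k : K, (η : H → ℂ) (φ k * g) * conj ((θ : K → ℂ) k) ≠ 0) :
    ∑ᶠ k : K, (η : H → ℂ) (φ k) * conj ((θ : K → ℂ) k) ≠ 0 := by
  classical
  haveI : Fintype K := Fintype.ofFinite K
  intro h0
  apply h
  rw [finsum_eq_sum_of_fintype] at h0 ⊢
  obtain ⟨n, D, hD⟩ := d1_matrep η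
  obtain ⟨ρK, hρK⟩ : ∃ ρK : K →* Matrix (Fin n) (Fin n) ℂ, ρK = D.comp φ := ⟨_, rfl⟩
  have hθinv : ∀ k : K, (θ : K → ℂ) k⁻¹ = conj ((θ : K → ℂ) k) :=
    fun k => Helper80.isCharacter_inv (Helper80.isCharacter_of_irr θ.2) k
  -- the trace of the idempotent
  have htr : (Helper75.isoIdem ρK (θ : K → ℂ)).trace = 0 := by
    unfold Helper75.isoIdem
    rw [Matrix.trace_smul, Matrix.trace_sum]
    have : ∑ k : K, ((θ : K → ℂ) k⁻¹ • ρK k).trace = 0 := by
      rw [← h0]
      apply Finset.sum_congr rfl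
      intro k _
      rw [Matrix.trace_smul, hθinv, smul_eq_mul, mul_comm]
      congr 1
      rw [hρK]
      exact hD (φ k)
    rw [this, smul_zero]
  have hidem := Helper80.lat_isoIdem_idem ρK θ
  have hzero := Helper80.latP6_idem_trace_zero _ hidem htr
  have hsum : ∑ k : K, (θ : K → ℂ) k⁻¹ • ρK k = 0 := by
    unfold Helper75.isoIdem at hzero
    have hc : (θ : K → ℂ) 1 / (Nat.card K : ℂ) ≠ 0 :=
      div_ne_zero (Helper80.irr_one_ne_zero θ) (by exact_mod_cast (Nat.card_pos (α := K)).ne')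
    exact (smul_eq_zero.mp hzero).resolve_left hc
  -- multiply by `D g` and take the trace
  have h2 : ((∑ k : K, (θ : K → ℂ) k⁻¹ • ρK k) * D g).trace = 0 := by
    rw [hsum, zero_mul, Matrix.trace_zero]
  rw [Finset.sum_mul, Matrix.trace_sum] at h2
  rw [← h2]
  apply Finset.sum_congr rfl
  intro k _
  rw [Matrix.smul_mul, Matrix.trace_smul, hθinv, smul_eq_mul, mul_comm]
  congr 1
  rw [hρK, MonoidHom.comp_apply, ← map_mul]
  exact (hD _).symm

end Cfsg.Agent.Helper4
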