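import Mathlib
import Cfsg.Agent.Helper15.D1LDDefs
import Cfsg.Agent.Helper4.D1LD4

/-!
# Piece LD6 of CALL S4442LD (helper4): the `Θ` step
-/

set_option autoImplicit false
open Cfsg Matrix
open scoped ComplexConjugate

universe u

namespace Cfsg.Agent.Helper4

open Cfsg.Agent.Helper15

/-- Convolution: `(∑_h u h • R h) * (∑_k n k • R (φ k)) = ∑_g (∑_k u (g (φ k)⁻¹) n k) • R g`,
which vanishes when all the inner sums do. -/
theorem d1_conv_zero {F : Type*} [CommRing F] {H K : Type*} [Group H] [Group K] [Fintype H]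
    [Fintype K] {a : ℕ} (R : H →* Matrix (Fin a) (Fin a) F) (φ : K →* H) (u : H → F) (n : K → F)
    (h0 : ∀ g : H, ∑ k : K, u (g * (φ k)⁻¹) * n k = 0) :
    (∑ h : H, u h • R h) * (∑ k : K, n k • R (φ k)) = 0 := by
  rw [Finset.sum_mul]
  simp_rw [Finset.mul_sum]
  rw [Finset.sum_comm]
  have hk : ∀ k : K, ∑ h : H, (u h • R h) * (n k • R (φ k)) =
      ∑ g : H, (u (g * (φ k)⁻¹) * n k) • R g := by
    intro k
    rw [← Equiv.sum_comp (Equiv.mulRight (φ k)⁻¹)]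
    apply Finset.sum_congr rfl
    intro g _
    simp only [Equiv.coe_mulRight]
    rw [Matrix.smul_mul, Matrix.mul_smul, smul_smul, ← map_mul, inv_mul_cancel_right]
  simp_rw [hk]
  rw [Finset.sum_comm]
  apply Finset.sum_eq_zero
  intro g _
  rw [← Finset.sum_smul, h0 g, zero_smul]

theorem d1_unit_cancel {F : Type*} [CommRing F] {a : ℕ} (E N : Matrix (Fin a) (Fin a) F) (c : F)
    (hc : IsUnit c) (hN : N = c • (1 : Matrix (Fin a) (Fin a) F)) (h : E * N = 0) : E = 0 := by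
  rw [hN, Matrix.mul_smul, mul_one] at h
  exact hc.smul_eq_zero.mp h

/-- LD6 (Θ step) -/
theorem d1_theta_step {H K : Type u} [Group H] [Group K] [Fintype H] [Finite K] (φ : K →* H)
    (𝔐 : Ideal Cfsg.AlgInt) {a : ℕ} (R : H →* Matrix (Fin a) (Fin a) (Cfsg.AlgInt ⧸ 𝔐))
    (Θ : Finset (Cfsg.IrrCharacter K)) (cΘ : K → ℤ)
    (hcΘ : ∀ k : K, ((cΘ k : ℤ) : ℂ) = ∑ θ ∈ Θ, (θ : K → ℂ) 1 * conj ((θ : K → ℂ) k))
    (c : Cfsg.AlgInt ⧸ 𝔐) (hc : IsUnit c)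
    (hΘ : ∑ᶠ k : K, ((cΘ k : ℤ) : Cfsg.AlgInt ⧸ 𝔐) • R (φ k)
      = c • (1 : Matrix (Fin a) (Fin a) (Cfsg.AlgInt ⧸ 𝔐)))
    (η : Cfsg.IrrCharacter H) (hη : d1Phi 𝔐 R (d1E η) ≠ 0) :
    ∃ θ ∈ Θ, ∑ᶠ k : K, (η : H → ℂ) (φ k) * conj ((θ : K → ℂ) k) ≠ 0 := by
  classical
  haveI : Fintype K := Fintype.ofFinite K
  by_contra hcon
  push Not at hcon
  have hall : ∀ θ ∈ Θ, ∀ g : H,
      ∑ k : K, (η : H → ℂ) (φ k * g) * conj ((θ : K → ℂ) k) = 0 := by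
    intro θ hθ g
    by_contra h
    rw [← finsum_eq_sum_of_fintype] at h
    exact d1_theta_coeff φ η θ g h (hcon θ hθ)
  -- the coefficients vanish in `AlgInt`
  have hcoef : ∀ g : H, ∑ k : K, d1Val η (φ k * g) * ((cΘ k : ℤ) : Cfsg.AlgInt) = 0 := by
    intro g
    apply Subtype.ext
    have h1 : ((∑ k : K, d1Val η (φ k * g) * ((cΘ k : ℤ) : Cfsg.AlgInt) : Cfsg.AlgInt) : ℂ) =
        ∑ k : K, (η : H → ℂ) (φ k * g) * ((cΘ k : ℤ) : ℂ) := by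
      push_cast
      rfl
    rw [h1]
    simp_rw [hcΘ, Finset.mul_sum]
    rw [Finset.sum_comm]
    show _ = (0 : ℂ)
    apply Finset.sum_eq_zero
    intro θ hθ
    have h2 : ∑ k : K, (η : H → ℂ) (φ k * g) * ((θ : K → ℂ) 1 * conj ((θ : K → ℂ) k)) =
        (θ : K → ℂ) 1 * ∑ k : K, (η : H → ℂ) (φ k * g) * conj ((θ : K → ℂ) k) := by
      rw [Finset.mul_sum]
      exact Finset.sum_congr rfl (fun k _ => by ring)
    rw [h2, hall θ hθ g, mul_zero]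
  apply hη
  have hE : d1Phi 𝔐 R (d1E η) = ∑ h : H, (Ideal.Quotient.mk 𝔐 (d1Val η h⁻¹)) • R h := by
    unfold d1Phi d1E
    rw [map_sum]
    apply Finset.sum_congr rfl
    intro h _
    rw [MonoidAlgebra.lift_single, ← algebraMap_smul (Cfsg.AlgInt ⧸ 𝔐) (d1Val η h⁻¹) (R h)]
    rfl
  rw [finsum_eq_sum_of_fintype] at hΘ
  have hprod : d1Phi 𝔐 R (d1E η) *
      (∑ k : K, ((cΘ k : ℤ) : Cfsg.AlgInt ⧸ 𝔐) • R (φ k)) = 0 := by
    rw [hE]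
    apply d1_conv_zero R φ (fun h => Ideal.Quotient.mk 𝔐 (d1Val η h⁻¹))
      (fun k => ((cΘ k : ℤ) : Cfsg.AlgInt ⧸ 𝔐))
    intro g
    have h3 : ∑ k : K, (Ideal.Quotient.mk 𝔐) (d1Val η (g * (φ k)⁻¹)⁻¹) *
        ((cΘ k : ℤ) : Cfsg.AlgInt ⧸ 𝔐) =
        Ideal.Quotient.mk 𝔐 (∑ k : K, d1Val η (φ k * g⁻¹) * ((cΘ k : ℤ) : Cfsg.AlgInt)) := by
      rw [map_sum]
      apply Finset.sum_congr rfl
      intro k _
      rw [map_mul, map_intCast, _root_.mul_inv_rev, inv_inv]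
    rw [h3, hcoef g⁻¹, map_zero]
  exact d1_unit_cancel _ _ c hc hΘ hprod

end Cfsg.Agent.Helper4
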