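import Mathlib
import Cfsg.Agent.S1362
import Cfsg.Agent.S1365
import Cfsg.Agent.Helper23.Trans
import Cfsg.Agent.Helper51.BG56DNORM

/-! CALL S1538 (helper22), piece TIA2 (double by helper4): `A(M) \ M_σ` meets none of its conjugates
by `g ∉ M`. -/

set_option autoImplicit false

namespace Cfsg.Agent.Helper4

open Cfsg Subgroup

universe u

variable {G : Type u} [Group G] [Finite G]

theorem bg38_TI_off (hG : IsMinSimpleOddOrder G) {M K U : Subgroup G} (hM : IsCoatom M)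
    (hKU : IsSigmaDecomposition M K U) (hK1 : K ≠ ⊥)
    (hnorm : ∀ {X : Set G}, X ⊆ (M : Set G) → (∀ m ∈ M, ∀ x ∈ X, m * x * m⁻¹ ∈ X) →
      (∃ x ∈ X, x ≠ 1) → normalizer X = M)
    {g a : G} (hg : g ∉ M) (ha : a ∈ ⁅M, M⁆) (haσ : a ∉ sigmaCore M)
    (hax : ∃ x ∈ sigmaCore M, x ≠ 1 ∧ a * x = x * a) (hga : g * a * g⁻¹ ∈ ⁅M, M⁆)
    (hgaσ : g * a * g⁻¹ ∉ sigmaCore M)
    (hgax : ∃ x ∈ sigmaCore M, x ≠ 1 ∧ g * a * g⁻¹ * x = x * (g * a * g⁻¹)) : False := by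
  have hTI := Cfsg.Agent.S1362.result hG M hM K U hKU
  have hder : ⁅M, M⁆ = U ⊔ sigmaCore M := (Cfsg.Agent.S1365.result hG M hM K U hKU hK1).1
  have hdM : ⁅M, M⁆ ≤ M := (Cfsg.Agent.Helper51.bg56_der_norm M).1
  have hMnd : M ≤ normalizer ((⁅M, M⁆ : Subgroup G) : Set G) :=
    (Cfsg.Agent.Helper51.bg56_der_norm M).2.1
  have hMns : M ≤ normalizer ((sigmaCore M : Subgroup G) : Set G) :=
    Cfsg.Agent.Helper23.le_normalizer_piCoreOf (sigma M) M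
  -- membership in `T`
  have hmemT : ∀ b : G, b ∈ ⁅M, M⁆ → b ∉ sigmaCore M →
      (∃ x ∈ sigmaCore M, x ≠ 1 ∧ b * x = x * b) →
      b ∈ sigmaA M U \ (sigmaCore M : Set G) := by
    intro b hb hbσ hbx
    refine ⟨⟨⟨hdM hb, hbx⟩, ?_⟩, hbσ⟩
    rw [← hder]
    exact hb
  have haT := hmemT a ha haσ hax
  have hgaT := hmemT _ hga hgaσ hgax
  have hTM : sigmaA M U \ (sigmaCore M : Set G) ⊆ (M : Set G) := fun b hb => hb.1.1.1
  have hinv : ∀ m ∈ M, ∀ x ∈ sigmaA M U \ (sigmaCore M : Set G),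
      m * x * m⁻¹ ∈ sigmaA M U \ (sigmaCore M : Set G) := by
    intro m hm x hx
    obtain ⟨⟨⟨hxM, y, hy, hy1, hxy⟩, hxU⟩, hxσ⟩ := hx
    have hxd : x ∈ ⁅M, M⁆ := by rw [hder]; exact hxU
    apply hmemT
    · exact (Subgroup.mem_normalizer_iff.mp (hMnd hm) x).mp hxd
    · intro hc
      exact hxσ ((Subgroup.mem_normalizer_iff.mp (hMns hm) x).mpr hc)
    · refine ⟨m * y * m⁻¹, (Subgroup.mem_normalizer_iff.mp (hMns hm) y).mp hy, ?_, ?_⟩
      · intro hc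
        apply hy1
        have : y = m⁻¹ * (m * y * m⁻¹) * m := by group
        rw [this, hc]; group
      · calc m * x * m⁻¹ * (m * y * m⁻¹) = m * (x * y) * m⁻¹ := by group
          _ = m * (y * x) * m⁻¹ := by rw [hxy]
          _ = m * y * m⁻¹ * (m * x * m⁻¹) := by group
  have ha1 : a ≠ 1 := fun h => haσ (h ▸ (sigmaCore M).one_mem)
  have hN : normalizer (sigmaA M U \ (sigmaCore M : Set G)) = M :=
    hnorm hTM hinv ⟨a, haT, ha1⟩
  have hgN : g ∉ normalizer (sigmaA M U \ (sigmaCore M : Set G)) := by rw [hN]; exact hg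
  exact ha1 (hTI g hgN a haT hgaT)

end Cfsg.Agent.Helper4
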