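import Mathlib
import Cfsg.Agent.Helper3.IndFun
import Cfsg.Agent.Helper79.FrobSchur
import Cfsg.Agent.Helper80.CharIrr

/-!
# Induction from a normal subgroup (helper4)

For `H` normal in `G` and `φ : H → ℂ`, `conjFun H x φ` is the conjugate function
`h ↦ φ (x⁻¹ h x)`.  We prove the Mackey-type formula
`⟨Ind θ, Ind φ⟩ = |H|⁻¹ ∑ₓ ⟨θ, φ^x⟩`, that conjugates of irreducible characters are irreducible,
orthonormality of irreducible characters in `classInner` form, and that an irreducible character
of a group of odd order that is real-valued is trivial.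
-/

set_option autoImplicit false

namespace Cfsg.Agent.Helper4

open Cfsg
open scoped ComplexConjugate

variable {G : Type*} [Group G]

/-- The conjugate `h ↦ φ (x⁻¹ h x)` of a function on a normal subgroup. -/
noncomputable def conjFun (H : Subgroup G) [hN : H.Normal] (x : G) (φ : H → ℂ) : H → ℂ :=
  fun h => φ ⟨x⁻¹ * h * x, by simpa using hN.conj_mem h h.2 x⁻¹⟩

theorem conjFun_apply (H : Subgroup G) [hN : H.Normal] (x : G) (φ : H → ℂ) (h : H) :
    conjFun H x φ h = φ ⟨x⁻¹ * h * x, by simpa using hN.conj_mem h h.2 x⁻¹⟩ := rfl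

theorem conjFun_one (H : Subgroup G) [hN : H.Normal] (φ : H → ℂ) : conjFun H 1 φ = φ := by
  funext h
  rw [conjFun_apply]
  congr 1
  apply Subtype.ext
  simp

theorem conjFun_mul (H : Subgroup G) [hN : H.Normal] (x y : G) (φ : H → ℂ) :
    conjFun H (x * y) φ = conjFun H x (conjFun H y φ) := by
  funext h
  rw [conjFun_apply, conjFun_apply, conjFun_apply]
  congr 1
  apply Subtype.ext
  simp only [mul_inv_rev]
  group

theorem conjFun_pow (H : Subgroup G) [hN : H.Normal] (x : G) (k : ℕ) (φ : H → ℂ) :
    conjFun H (x ^ k) φ = (conjFun H x)^[k] φ := by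
  induction k with
  | zero => rw [pow_zero, conjFun_one]; rfl
  | succ k ih => rw [pow_succ', conjFun_mul, ih, Function.iterate_succ_apply']

theorem conjFun_conj (H : Subgroup G) [hN : H.Normal] (x : G) (φ : H → ℂ) :
    conjFun H x (fun h => conj (φ h)) = fun h => conj (conjFun H x φ h) := rfl

theorem conjFun_eq_comp (H : Subgroup G) [hN : H.Normal] (x : G) (φ : H → ℂ) :
    conjFun H x φ = fun h => φ (MulAut.conjNormal x⁻¹ h) := by
  funext h
  rw [conjFun_apply]
  congr 1
  apply Subtype.ext
  simp

/-- Conjugates of irreducible characters of a normal subgroup are irreducible. -/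
theorem isIrrCharacter_conjFun (H : Subgroup G) [hN : H.Normal] (x : G) {φ : H → ℂ}
    (hφ : IsIrrCharacter H φ) : IsIrrCharacter H (conjFun H x φ) := by
  rw [conjFun_eq_comp]
  exact (Helper79.isIrrCharacter_mulEquiv (MulAut.conjNormal x⁻¹ : H ≃* H)).mpr hφ

/-- Values on a normal subgroup of an induced function. -/
theorem indFun_coe_normal [Fintype G] (H : Subgroup G) [hN : H.Normal] (φ : H → ℂ) (h : H) :
    indFun H φ (h : G) = (Nat.card H : ℂ)⁻¹ * ∑ x : G, conjFun H x φ h := by
  unfold indFun
  congr 1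
  apply Finset.sum_congr rfl
  intro x _
  exact Helper3.extendByZero_of_mem H φ _

/-- Mackey formula for a normal subgroup: `⟨Ind θ, Ind φ⟩ = |H|⁻¹ ∑ₓ ⟨θ, φ^x⟩`. -/
theorem classInner_indFun_normal [Fintype G] (H : Subgroup G) [hN : H.Normal] [Fintype H]
    (θ φ : H → ℂ) :
    classInner (indFun H θ) (indFun H φ)
      = (Nat.card H : ℂ)⁻¹ * ∑ x : G, classInner θ (conjFun H x φ) := by
  rw [Helper3.frobenius_reciprocity H θ (indFun H φ) (Helper3.indFun_isClassFunction H φ)]
  unfold classInner
  have h1 : ∀ h : H, θ h * conj (indFun H φ (h : G))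
      = (Nat.card H : ℂ)⁻¹ * ∑ x : G, θ h * conj (conjFun H x φ h) := by
    intro h
    rw [indFun_coe_normal, map_mul, map_inv₀, map_natCast, map_sum, Finset.mul_sum, Finset.mul_sum,
      Finset.mul_sum]
    apply Finset.sum_congr rfl
    intro x _
    ring
  rw [Finset.sum_congr rfl (fun h _ => h1 h), ← Finset.mul_sum, Finset.sum_comm, ← Finset.mul_sum]

/-- Orthonormality of irreducible characters, `classInner` form. -/
theorem classInner_irr [Fintype G] {χ ψ : G → ℂ} (hχ : IsIrrCharacter G χ)
    (hψ : IsIrrCharacter G ψ) : classInner χ ψ = if χ = ψ then 1 else 0 := by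
  classical
  unfold classInner
  have h := Helper80.irr_orthogonality_conj (⟨χ, hχ⟩ : IrrCharacter G) ⟨ψ, hψ⟩
  have hcard : (Nat.card G : ℂ) ≠ 0 := by exact_mod_cast Nat.card_pos.ne'
  simp only [Subtype.mk.injEq] at h
  rw [h]
  by_cases hc : χ = ψ
  · rw [if_pos hc, if_pos hc, ← Nat.card_eq_fintype_card, inv_mul_cancel₀ hcard]
  · rw [if_neg hc, if_neg hc, mul_zero]

/-- The complex conjugate of an induced function is induced from the complex conjugate. -/
theorem conj_indFun [Fintype G] (H : Subgroup G) (θ : H → ℂ) (g : G) :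
    conj (indFun H θ g) = indFun H (fun h => conj (θ h)) g := by
  unfold indFun
  rw [map_mul, map_inv₀, map_natCast, map_sum]
  congr 1
  apply Finset.sum_congr rfl
  intro x _
  by_cases hx : x⁻¹ * g * x ∈ H
  · rw [Helper3.extendByZero_of_mem H θ hx, Helper3.extendByZero_of_mem H _ hx]
  · rw [Helper3.extendByZero_of_not_mem H θ hx, Helper3.extendByZero_of_not_mem H _ hx, map_zero]

/-- A real-valued irreducible character of a group of odd order is trivial. -/
theorem irr_eq_one_of_real_of_odd [Fintype G] (hodd : Odd (Nat.card G)) {θ : G → ℂ}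
    (hθ : IsIrrCharacter G θ) (hreal : ∀ g, conj (θ g) = θ g) : θ = fun _ => 1 := by
  classical
  by_contra hne
  have hfs := (Helper79.irr_frobenius_schur hθ).2
  have hnu : (Nat.card G : ℂ)⁻¹ * ∑ s : G, θ (s * s) = 0 := by
    have hcop : (Nat.card G).Coprime 2 := Nat.Coprime.symm (Nat.coprime_two_left.mpr hodd)
    have h1 : ∑ s : G, θ (s * s) = ∑ s : G, θ s := by
      rw [← Equiv.sum_comp (powCoprime hcop) θ]
      apply Finset.sum_congr rfl
      intro s _
      rw [powCoprime_apply, pow_two]
    rw [h1]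
    have h2 := classInner_irr hθ (Helper79.isIrrCharacter_one (G := G))
    rw [if_neg hne] at h2
    unfold classInner at h2
    simpa using h2
  obtain ⟨s, hs⟩ := hfs.mp hnu
  exact hs (Complex.conj_eq_iff_im.mp (hreal s))

end Cfsg.Agent.Helper4
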