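import Mathlib
import Cfsg.Prelude.Def_Characters
import Cfsg.Agent.Helper80.CharIrr
import Cfsg.Agent.Helper15.CharScalar

/-!
# Characters and central sections (helper4)

* `normSq_eq_deg_sq_of_central_mod_ker`: if `d` commutes with everything modulo a set on which the
  irreducible character `χ` takes the value `χ 1`, then `|χ d|² = χ(1)²`.
* `constituent_eq_one_of_eq_one`: if `∑ m χ * χ b = ∑ m χ * χ 1` (natural multiplicities) then
  `χ b = χ 1` for all `χ` with `m χ ≠ 0`.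
* `sum_normSq_subgroup_le`: `∑_{c ∈ C} |f c|² ≤ ∑_{g ∈ G} |f g|²`.
-/

set_option autoImplicit false

namespace Cfsg.Agent.Helper4

open Cfsg

theorem normSq_eq_deg_sq_of_central_mod_ker {C : Type*} [Group C] [Finite C] {χ : C → ℂ}
    (hχ : IsIrrCharacter C χ) (B : Set C) (hB : ∀ b ∈ B, χ b = χ 1) (d : C)
    (hd : ∀ c : C, d * c * d⁻¹ * c⁻¹ ∈ B) :
    Complex.normSq (χ d) = ((charDegree χ : ℕ) : ℝ) ^ 2 := by
  obtain ⟨n, ρ, hirr, rfl⟩ := hχ
  haveI := hirr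
  have hker : ∀ b ∈ B, ρ b = 1 := fun b hb =>
    (Cfsg.Agent.Helper80.rep_char_eq_one_iff ρ b).1 (hB b hb)
  have hcomm : ∀ g : C, ρ d * ρ g = ρ g * ρ d := by
    intro g
    have h1 : d * g = (d * g * d⁻¹ * g⁻¹) * (g * d) := by group
    rw [← map_mul, ← map_mul]
    conv_lhs => rw [h1]
    rw [map_mul, hker _ (hd g), one_mul]
  obtain ⟨a, ha⟩ := Cfsg.Agent.Helper80.schur_scalar ρ (ρ d) hcomm
  have hna := Cfsg.Agent.Helper15.norm_eq_one_of_rep_scalar ρ ha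
  have hch := Cfsg.Agent.Helper15.char_of_rep_scalar ρ ha
  rw [hch, Cfsg.Agent.Helper80.charDegree_rep_character, Complex.normSq_eq_norm_sq, norm_mul, hna,
    one_mul]
  simp

theorem constituent_eq_one_of_eq_one {K : Type*} [Group K] [Finite K] [Fintype (IrrCharacter K)]
    (m : IrrCharacter K → ℕ) (b : K)
    (h : ∑ χ : IrrCharacter K, (m χ : ℂ) * (χ : K → ℂ) b = ∑ χ : IrrCharacter K, (m χ : ℂ) * (χ : K → ℂ) 1)
    (χ : IrrCharacter K) (hm : m χ ≠ 0) : (χ : K → ℂ) b = (χ : K → ℂ) 1 := by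
  have hdeg : ∀ ψ : IrrCharacter K, (ψ : K → ℂ) 1 = ((charDegree (ψ : K → ℂ) : ℕ) : ℂ) :=
    fun ψ => Cfsg.Agent.Helper80.irr_one_eq ψ
  have hle : ∀ ψ : IrrCharacter K, ‖(ψ : K → ℂ) b‖ ≤ ((charDegree (ψ : K → ℂ) : ℕ) : ℝ) :=
    fun ψ => Cfsg.Agent.Helper80.isCharacter_norm_le (Cfsg.Agent.Helper80.isCharacter_of_irr ψ.2) b
  have hre : ∀ ψ : IrrCharacter K, ((ψ : K → ℂ) b).re ≤ ((charDegree (ψ : K → ℂ) : ℕ) : ℝ) :=
    fun ψ => (Complex.re_le_norm _).trans (hle ψ)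
  have h1 := congrArg Complex.re h
  rw [Complex.re_sum, Complex.re_sum] at h1
  have h2 : ∑ ψ : IrrCharacter K,
      (m ψ : ℝ) * (((charDegree (ψ : K → ℂ) : ℕ) : ℝ) - ((ψ : K → ℂ) b).re) = 0 := by
    have e1 : ∀ ψ : IrrCharacter K, ((m ψ : ℂ) * (ψ : K → ℂ) b).re = (m ψ : ℝ) * ((ψ : K → ℂ) b).re := by
      intro ψ
      rw [Complex.mul_re]
      simp
    have e2 : ∀ ψ : IrrCharacter K,
        ((m ψ : ℂ) * (ψ : K → ℂ) 1).re = (m ψ : ℝ) * ((charDegree (ψ : K → ℂ) : ℕ) : ℝ) := by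
      intro ψ
      rw [hdeg ψ, Complex.mul_re]
      simp
    simp_rw [e1, e2] at h1
    simp_rw [mul_sub]
    rw [Finset.sum_sub_distrib, h1, sub_self]
  have h3 := (Finset.sum_eq_zero_iff_of_nonneg (fun ψ _ =>
    mul_nonneg (Nat.cast_nonneg _) (sub_nonneg.2 (hre ψ)))).1 h2 χ (Finset.mem_univ _)
  have hm' : (m χ : ℝ) ≠ 0 := by exact_mod_cast hm
  have h4 : ((χ : K → ℂ) b).re = ((charDegree (χ : K → ℂ) : ℕ) : ℝ) := by
    rcases mul_eq_zero.1 h3 with h | h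
    · exact absurd h hm'
    · linarith
  have h5 : ((χ : K → ℂ) b).im = 0 := by
    have h6 := hle χ
    have h7 : ‖(χ : K → ℂ) b‖ ^ 2 ≤ ((charDegree (χ : K → ℂ) : ℕ) : ℝ) ^ 2 :=
      pow_le_pow_left₀ (norm_nonneg _) h6 2
    rw [← Complex.normSq_eq_norm_sq, Complex.normSq_apply, h4] at h7
    have h8 : ((χ : K → ℂ) b).im * ((χ : K → ℂ) b).im ≤ 0 := by nlinarith
    have h9 : ((χ : K → ℂ) b).im * ((χ : K → ℂ) b).im = 0 :=
      le_antisymm h8 (mul_self_nonneg _)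
    exact mul_self_eq_zero.1 h9
  rw [hdeg χ]
  apply Complex.ext
  · rw [h4]; simp
  · rw [h5]; simp

theorem sum_normSq_subgroup_le {G : Type*} [Group G] [Fintype G] (C : Subgroup G) [Fintype C]
    (f : G → ℂ) :
    ∑ c : C, Complex.normSq (f c) ≤ ∑ g : G, Complex.normSq (f g) := by
  classical
  have h1 : ∑ g ∈ Finset.univ.filter (fun g : G => g ∈ C), Complex.normSq (f g)
      = ∑ c : C, Complex.normSq (f c) := Finset.sum_subtype _ (by simp) _
  rw [← h1]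
  exact Finset.sum_le_sum_of_subset_of_nonneg (Finset.filter_subset _ _)
    (fun g _ _ => Complex.normSq_nonneg _)

end Cfsg.Agent.Helper4
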