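import Mathlib
import Cfsg.Prelude.Def_Characters
import Cfsg.Agent.Helper75.CliffordCorr
import Cfsg.Agent.Helper15.Gallagher2
import Cfsg.Agent.Helper15.CharInner
import Cfsg.Agent.Helper3.Induced
import Cfsg.Agent.Helper79.Basic
import Cfsg.Agent.Helper81.CharBasic

/-!
# Fully ramified characters (helper4)

* `sum_hom_inv_mul`: Fourier inversion at a point on a finite abelian group `Q`:
  `∑ μ, μ b⁻¹ * μ a = if a = b then |Hom(Q, ℂˣ)| else 0`.
* `sum_normSq_of_irr`: `∑ g, |χ g|² = |G|` for irreducible `χ`.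
* `fullyRam_vanish`: `χ` irreducible with `χ|_Z = e θ`, `e² = [H:Z]` vanishes off `Z`.
* `indFun_vanish_of_fullyRam`: then for `Z ≤ K` and an irreducible `lam` of `K` extending `θ`,
  the induced function `indFun K lam` vanishes off `Z`.
* `exists_coset_ne_zero`: a character `lam` of `K` with irreducible restriction to the normal
  subgroup `N`, `K/N` abelian, does not vanish identically on any coset of `N`.
-/

set_option autoImplicit false

namespace Cfsg.Agent.Helper4

open Cfsg
open scoped ComplexConjugate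

/-- Fourier inversion at a point on a finite abelian group, off-diagonal part. -/
theorem sum_hom_inv_mul_of_ne {Q : Type*} [Group Q] [Finite Q] (hQ : ∀ a b : Q, a * b = b * a)
    [Fintype (Q →* ℂˣ)] {a b : Q} (hab : a ≠ b) :
    ∑ μ : Q →* ℂˣ, (((μ b)⁻¹ : ℂˣ) : ℂ) * ((μ a : ℂˣ) : ℂ) = 0 := by
  classical
  have hterm : ∀ μ : Q →* ℂˣ,
      (((μ b)⁻¹ : ℂˣ) : ℂ) * ((μ a : ℂˣ) : ℂ) = ((μ (b⁻¹ * a) : ℂˣ) : ℂ) := by
    intro μ
    rw [map_mul, map_inv, Units.val_mul]
  simp_rw [hterm]
  set d := b⁻¹ * a with hd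
  have hd1 : d ≠ 1 := by
    intro h
    apply hab
    rw [hd, inv_mul_eq_one] at h
    exact h.symm
  have hcomm : commutator Q = ⊥ := by
    rw [commutator_eq_bot_iff_center_eq_top]
    ext x
    simp only [Subgroup.mem_center_iff, Subgroup.mem_top, iff_true]
    intro y
    exact hQ y x
  have hd2 : d ∉ commutator Q := by
    rw [hcomm]
    exact fun h => hd1 (Subgroup.mem_bot.1 h)
  obtain ⟨μ₀, hμ₀⟩ := Cfsg.Agent.Helper79.exists_hom_apply_ne_one hd2
  have hS : ∑ μ : Q →* ℂˣ, ((μ₀ d : ℂˣ) : ℂ) * ((μ d : ℂˣ) : ℂ)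
      = ∑ μ : Q →* ℂˣ, ((μ d : ℂˣ) : ℂ) :=
    Fintype.sum_equiv (Equiv.mulLeft μ₀) _ _ (fun μ => by
      simp [MonoidHom.mul_apply])
  rw [← Finset.mul_sum] at hS
  have hne : ((μ₀ d : ℂˣ) : ℂ) - 1 ≠ 0 := by
    intro h
    apply hμ₀
    have : ((μ₀ d : ℂˣ) : ℂ) = 1 := by linear_combination h
    exact Units.val_eq_one.1 this
  have : (((μ₀ d : ℂˣ) : ℂ) - 1) * ∑ μ : Q →* ℂˣ, ((μ d : ℂˣ) : ℂ) = 0 := by
    linear_combination hS
  rcases mul_eq_zero.1 this with h | h
  · exact absurd h hne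
  · exact h

/-- Fourier inversion at a point on a finite abelian group, diagonal part. -/
theorem sum_hom_inv_mul_self {Q : Type*} [Group Q] [Fintype (Q →* ℂˣ)] (a : Q) :
    ∑ μ : Q →* ℂˣ, (((μ a)⁻¹ : ℂˣ) : ℂ) * ((μ a : ℂˣ) : ℂ) = (Fintype.card (Q →* ℂˣ) : ℂ) := by
  have hterm : ∀ μ : Q →* ℂˣ, (((μ a)⁻¹ : ℂˣ) : ℂ) * ((μ a : ℂˣ) : ℂ) = 1 := by
    intro μ
    rw [← Units.val_mul, inv_mul_cancel, Units.val_one]
  simp_rw [hterm]
  simp

/-- The squared absolute values of an irreducible character sum to the group order. -/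
theorem sum_normSq_of_irr {K : Type*} [Group K] [Fintype K] {χ : K → ℂ}
    (hχ : IsIrrCharacter K χ) : ∑ g : K, Complex.normSq (χ g) = (Nat.card K : ℝ) := by
  have h1 := Cfsg.Agent.Helper75.classInner_irr_self hχ
  unfold classInner at h1
  have hK0 : (Nat.card K : ℂ) ≠ 0 := by exact_mod_cast Nat.card_pos.ne'
  have h2 : ∑ g : K, χ g * conj (χ g) = (Nat.card K : ℂ) := by
    field_simp at h1
    exact h1
  have h3 : ((∑ g : K, Complex.normSq (χ g) : ℝ) : ℂ) = (Nat.card K : ℂ) := by
    rw [← h2]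
    push_cast
    apply Finset.sum_congr rfl
    intro g _
    rw [Complex.mul_conj]
  exact_mod_cast h3

/-- A fully ramified character vanishes off the normal subgroup. -/
theorem fullyRam_vanish {H : Type*} [Group H] [Fintype H] (Z : Subgroup H) [Fintype Z]
    (χ : H → ℂ) (hχ : IsIrrCharacter H χ) (θ : Z → ℂ) (hθ : IsIrrCharacter Z θ) (e : ℕ)
    (he : e ^ 2 = Z.index) (hres : ∀ z : Z, χ z = (e : ℂ) * θ z) (h : H) (hh : h ∉ Z) :
    χ h = 0 := by
  classical
  have hH := sum_normSq_of_irr hχ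
  have hZ := sum_normSq_of_irr hθ
  have hZ2 : ∑ z : Z, Complex.normSq (χ z) = (Nat.card H : ℝ) := by
    have : ∀ z : Z, Complex.normSq (χ z) = (e : ℝ) ^ 2 * Complex.normSq (θ z) := by
      intro z
      rw [hres z, Complex.normSq_mul, Complex.normSq_natCast]
      ring
    rw [Finset.sum_congr rfl (fun z _ => this z), ← Finset.mul_sum, hZ,
      ← Subgroup.index_mul_card Z, ← he]
    push_cast
    ring
  have hsplit := Finset.sum_filter_add_sum_filter_not Finset.univ (fun g : H => g ∈ Z)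
    (fun g : H => Complex.normSq (χ g))
  have hsub : ∑ g ∈ Finset.univ.filter (fun g : H => g ∈ Z), Complex.normSq (χ g)
      = ∑ z : Z, Complex.normSq (χ z) :=
    Finset.sum_subtype _ (by simp) _
  rw [hsub, hZ2, hH] at hsplit
  have hzero : ∑ g ∈ Finset.univ.filter (fun g : H => ¬ g ∈ Z), Complex.normSq (χ g) = 0 := by
    linarith
  have hmem : h ∈ Finset.univ.filter (fun g : H => ¬ g ∈ Z) := by
    rw [Finset.mem_filter]
    exact ⟨Finset.mem_univ _, hh⟩
  have := (Finset.sum_eq_zero_iff_of_nonneg (fun g _ => Complex.normSq_nonneg (χ g))).1 hzero h hmem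
  exact Complex.normSq_eq_zero.1 this

/-- If `χ` is fully ramified over `Z` (with `θ`) and `lam` is an irreducible character of an
intermediate subgroup `K` extending `θ`, then `indFun K lam` vanishes off `Z`. -/
theorem indFun_vanish_of_fullyRam {H : Type*} [Group H] [Fintype H] (Z : Subgroup H)
    [Fintype Z] (χ : H → ℂ) (hχ : IsIrrCharacter H χ) (θ : Z → ℂ) (hθ : IsIrrCharacter Z θ)
    (e : ℕ) (he : e ^ 2 = Z.index) (hres : ∀ z : Z, χ z = (e : ℂ) * θ z)
    (K : Subgroup H) [Fintype K] (hZK : Z ≤ K) (lam : K → ℂ) (hlam : IsIrrCharacter K lam)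
    (hlamZ : ∀ z : Z, lam ⟨z, hZK z.2⟩ = θ z) (h : H) (hh : h ∉ Z) : indFun K lam h = 0 := by
  classical
  letI : Fintype (IrrCharacter H) := Fintype.ofFinite _
  letI : Fintype (IrrCharacter K) := Fintype.ofFinite _
  have hvan := fullyRam_vanish Z χ hχ θ hθ e he hres
  have hΨ : IsCharacter H (indFun K lam) :=
    Cfsg.Agent.Helper3.isCharacter_indFun K lam (Cfsg.Agent.Helper79.isCharacter_of_irr hlam)
  have hsum := congrFun (Cfsg.Agent.Helper75.character_eq_sum_irr hΨ) h
  rw [hsum, Finset.sum_apply]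
  apply Finset.sum_eq_zero
  intro χ' _
  rw [Pi.smul_apply, smul_eq_mul]
  by_cases hne : classInner (indFun K lam) (χ' : H → ℂ) = 0
  · rw [hne, zero_mul]
  · have hχ'c : IsClassFunction H (χ' : H → ℂ) :=
      Cfsg.Agent.Helper75.isCharacter_isClassFunction' (Cfsg.Agent.Helper79.irr_isCharacter χ')
    rw [Cfsg.Agent.Helper3.frobenius_reciprocity K lam _ hχ'c] at hne
    have hne2 : classInner (fun k : K => (χ' : H → ℂ) k) lam ≠ 0 := by
      rw [Cfsg.Agent.Helper15.classInner_conj_symm]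
      intro h0
      apply hne
      simpa using h0
    obtain ⟨m, k, hm, hk, hmk⟩ := Cfsg.Agent.Helper75.exists_restrict_mults hZK
      (Cfsg.Agent.Helper79.isCharacter_of_irr hθ) (Cfsg.Agent.Helper79.irr_isCharacter χ')
    set ψ₀ : IrrCharacter K := ⟨lam, hlam⟩ with hψ₀
    have hm0 : m ψ₀ ≠ 0 := by
      intro h0
      apply hne2
      have := hm ψ₀
      rw [h0] at this
      simpa using this
    have hk0 : k ψ₀ = 1 := by
      have := hk ψ₀
      have hres' : Cfsg.Agent.Helper75.resTo hZK (ψ₀ : K → ℂ) = θ := by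
        funext z
        exact hlamZ z
      rw [hres', Cfsg.Agent.Helper75.classInner_irr_self hθ] at this
      exact_mod_cast this.symm
    have hpos : 0 < ∑ ψ : IrrCharacter K, m ψ * k ψ := by
      apply Finset.sum_pos' (fun _ _ => Nat.zero_le _) ⟨ψ₀, Finset.mem_univ _, ?_⟩
      rw [hk0]
      omega
    have hZθ : classInner (fun n : Z => (χ' : H → ℂ) n) θ ≠ 0 := by
      rw [hmk]
      exact_mod_cast hpos.ne'
    have he0 : (e : ℂ) ≠ 0 := by
      have : e ≠ 0 := by
        intro h0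
        rw [h0] at he
        have := Subgroup.index_ne_zero_of_finite (H := Z)
        simp at he
        exact this he.symm
      exact_mod_cast this
    have hχχ' : classInner (χ' : H → ℂ) χ ≠ 0 := by
      unfold classInner at hZθ ⊢
      have hsplit : ∑ g : H, (χ' : H → ℂ) g * conj (χ g)
          = ∑ z : Z, (χ' : H → ℂ) z * conj (χ z) := by
        rw [← Finset.sum_filter_add_sum_filter_not Finset.univ (fun g : H => g ∈ Z)]
        rw [Finset.sum_eq_zero (s := Finset.univ.filter (fun g : H => ¬ g ∈ Z)) (by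
          intro g hg
          rw [Finset.mem_filter] at hg
          rw [hvan g hg.2]
          simp), add_zero]
        exact Finset.sum_subtype _ (by simp) _
      rw [hsplit]
      have h2 : ∑ z : Z, (χ' : H → ℂ) z * conj (χ z)
          = (e : ℂ) * ∑ z : Z, (χ' : H → ℂ) z * conj (θ z) := by
        rw [Finset.mul_sum]
        apply Finset.sum_congr rfl
        intro z _
        rw [hres z, map_mul, Complex.conj_natCast]
        ring
      rw [h2]
      have hH0 : (Nat.card H : ℂ) ≠ 0 := by exact_mod_cast Nat.card_pos.ne'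
      have hS0 : ∑ z : Z, (χ' : H → ℂ) z * conj (θ z) ≠ 0 := by
        intro h0
        apply hZθ
        rw [h0, mul_zero]
      exact mul_ne_zero (inv_ne_zero hH0) (mul_ne_zero he0 hS0)
    have hχeq : χ' = ⟨χ, hχ⟩ := by
      by_contra hneq
      have := Cfsg.Agent.Helper75.classInner_irr χ' ⟨χ, hχ⟩
      rw [if_neg hneq] at this
      exact hχχ' this
    rw [hχeq]
    show _ * χ h = 0
    rw [hvan h hh, mul_zero]

/-- A character of `K` whose restriction to the normal subgroup `N` is irreducible, with `K/N`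
abelian (given as a surjection `π : K →* Q` with kernel `N`), does not vanish identically on any
coset of `N`. -/
theorem exists_coset_ne_zero {K : Type*} [Group K] [Fintype K] (N : Subgroup K) [hN : N.Normal]
    [Fintype N] {Q : Type*} [Group Q] [Finite Q] (hQ : ∀ a b : Q, a * b = b * a) (π : K →* Q)
    (hπs : Function.Surjective π) (hπk : ∀ k : K, π k = 1 ↔ k ∈ N)
    (lam : K → ℂ) (hlam : IsCharacter K lam) (hlamN : IsIrrCharacter N (fun n : N => lam n))
    (c : K) : ∃ n ∈ N, lam (c * n) ≠ 0 := by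
  classical
  by_contra hall
  push Not at hall
  letI : Fintype (Q →* ℂˣ) := Fintype.ofFinite _
  have hK0 : (Nat.card K : ℂ) ≠ 0 := by exact_mod_cast Nat.card_pos.ne'
  -- E1
  have hE1 : ∀ μ : Q →* ℂˣ, ∑ k : K, ((μ (π k) : ℂˣ) : ℂ) * (lam k * conj (lam k))
      = if μ = 1 then (Nat.card K : ℂ) else 0 := by
    intro μ
    have hβ : IsIrrCharacter K (fun k => ((μ.comp π) k : ℂ)) :=
      Cfsg.Agent.Helper79.isIrrCharacter_of_hom (μ.comp π)
    have hone : IsIrrCharacter N (fun _ : N => (1 : ℂ)) := Cfsg.Agent.Helper79.isIrrCharacter_one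
    have hprod : IsIrrCharacter N ((fun _ : N => (1 : ℂ)) * (fun n : N => lam n)) := by
      have : ((fun _ : N => (1 : ℂ)) * (fun n : N => lam n)) = (fun n : N => lam n) := by
        funext n
        simp
      rw [this]
      exact hlamN
    have h1 := Cfsg.Agent.Helper15.gallagher_core N (fun _ : N => (1 : ℂ)) (fun n : N => lam n)
      hone (fun _ _ => rfl) hprod lam hlam (fun _ => rfl)
      ⟨fun k => ((μ.comp π) k : ℂ), hβ⟩ (Cfsg.Agent.Helper79.trivIrr K)
      ((Cfsg.Agent.Helper15.inner_ind_one_ne_zero_iff N hβ).2 (by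
        intro x hx
        show ((μ (π x) : ℂˣ) : ℂ) = ((μ (π 1) : ℂˣ) : ℂ)
        rw [(hπk x).2 hx, map_one π]))
      ((Cfsg.Agent.Helper15.inner_ind_one_ne_zero_iff N (Cfsg.Agent.Helper79.trivIrr K).2).2 (by
        intro x hx
        rfl))
    unfold classInner at h1
    have h2 : ∑ k : K, ((μ (π k) : ℂˣ) : ℂ) * (lam k * conj (lam k))
        = ∑ g : K, ((fun k => ((μ.comp π) k : ℂ)) * lam) g *
            conj ((((Cfsg.Agent.Helper79.trivIrr K : IrrCharacter K) : K → ℂ) * lam) g) := by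
      apply Finset.sum_congr rfl
      intro k _
      simp only [Pi.mul_apply, Cfsg.Agent.Helper79.trivIrr_apply, one_mul, MonoidHom.comp_apply]
      ring
    rw [h2]
    by_cases hμ : μ = 1
    · rw [if_pos hμ]
      have hβeq : (⟨fun k => ((μ.comp π) k : ℂ), hβ⟩ : IrrCharacter K)
          = Cfsg.Agent.Helper79.trivIrr K := by
        subst hμ
        apply Subtype.ext
        funext k
        simp
      rw [if_pos hβeq] at h1
      field_simp at h1
      exact h1
    · rw [if_neg hμ]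
      have hβne : (⟨fun k => ((μ.comp π) k : ℂ), hβ⟩ : IrrCharacter K)
          ≠ Cfsg.Agent.Helper79.trivIrr K := by
        intro heq
        apply hμ
        ext q
        obtain ⟨k, rfl⟩ := hπs q
        have := congrFun (congrArg Subtype.val heq) k
        simp only [Cfsg.Agent.Helper79.trivIrr_apply, MonoidHom.comp_apply] at this
        simpa using this
      rw [if_neg hβne] at h1
      rcases mul_eq_zero.1 h1 with h | h
      · exact absurd (inv_eq_zero.1 h) hK0
      · exact h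
  -- the Fourier sum
  have hT1 : ∑ μ : Q →* ℂˣ, (((μ (π c))⁻¹ : ℂˣ) : ℂ) *
      ∑ k : K, ((μ (π k) : ℂˣ) : ℂ) * (lam k * conj (lam k)) = (Nat.card K : ℂ) := by
    simp_rw [hE1]
    rw [Finset.sum_eq_single 1]
    · simp
    · intro μ _ hμ
      rw [if_neg hμ, mul_zero]
    · intro h
      exact absurd (Finset.mem_univ _) h
  have hT2 : ∑ μ : Q →* ℂˣ, (((μ (π c))⁻¹ : ℂˣ) : ℂ) *
      ∑ k : K, ((μ (π k) : ℂˣ) : ℂ) * (lam k * conj (lam k)) = 0 := by
    simp_rw [Finset.mul_sum]
    rw [Finset.sum_comm]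
    apply Finset.sum_eq_zero
    intro k _
    have : ∀ μ : Q →* ℂˣ, (((μ (π c))⁻¹ : ℂˣ) : ℂ) * (((μ (π k) : ℂˣ) : ℂ) * (lam k * conj (lam k)))
        = ((((μ (π c))⁻¹ : ℂˣ) : ℂ) * ((μ (π k) : ℂˣ) : ℂ)) * (lam k * conj (lam k)) := by
      intro μ
      ring
    simp_rw [this]
    rw [← Finset.sum_mul]
    by_cases hk : π k = π c
    · have hmem : c⁻¹ * k ∈ N := by
        rw [← hπk, map_mul, map_inv, hk, inv_mul_cancel]
      have := hall (c⁻¹ * k) hmem
      rw [mul_inv_cancel_left] at this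
      rw [this]
      simp
    · rw [sum_hom_inv_mul_of_ne hQ hk, zero_mul]
  rw [hT1] at hT2
  exact hK0 hT2

end Cfsg.Agent.Helper4
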