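import Mathlib
import Cfsg.Prelude.Def_Characters
import Cfsg.Agent.Helper4.FullyRam
import Cfsg.Agent.Helper4.GenChar

/-!
# Tools for "going down" (Isaacs 6.18) (helper4)

* `conjFun_resTo_of_inv`: the restriction to `L` of a `G`-invariant function on `K` is `G`-invariant.
* `goingDown_mults`: multiplicities of the restriction of a `G`-invariant irreducible character of
  `K` to `L`: the `K`-conjugates of a constituent `φ` all occur with the same multiplicity `e`,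
  nothing else occurs.
* `sum_normSq_eq_classInner`.
* `sum_hom_apply_of_ne_one`, `sum_hom_apply_one`.
* `twist_count`: if no nontrivial linear character `μ` of the abelian quotient `K/N` fixes the
  irreducible character `ϑ` (`μ ϑ = ϑ`), then `|K/N| * ∑_{n ∈ N} |ϑ n|² = |K|`.
-/

set_option autoImplicit false

namespace Cfsg.Agent.Helper4

open Cfsg Cfsg.Agent.Helper75
open scoped ComplexConjugate

section

variable {G : Type*} [Group G]

theorem conjFun_resTo_of_inv (K L : Subgroup G) [hK : K.Normal] [hLn : L.Normal] (hLK : L ≤ K)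
    (ϑ : K → ℂ)
    (hinv : ∀ (g : G) (n : K), ϑ ⟨g * n * g⁻¹, hK.conj_mem (n : G) n.2 g⟩ = ϑ n) (g : G) :
    conjFun L g (resTo hLK ϑ) = resTo hLK ϑ := by
  funext x
  rw [conjFun_apply, resTo_apply, resTo_apply]
  exact hinv g ⟨x, hLK x.2⟩

theorem goingDown_mults (K L : Subgroup G) [hK : K.Normal] [hLn : L.Normal] [Fintype L]
    (hLK : L ≤ K) (ϑ : K → ℂ) (hϑ : IsIrrCharacter K ϑ)
    (hinv : ∀ (g : G) (n : K), ϑ ⟨g * n * g⁻¹, hK.conj_mem (n : G) n.2 g⟩ = ϑ n)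
    (φ : L → ℂ) (hφ : IsIrrCharacter L φ) (hne : classInner (resTo hLK ϑ) φ ≠ 0) :
    ∃ e : ℕ, e ≠ 0 ∧
      (∀ ψ : IrrCharacter L, (∃ t ∈ K, (ψ : L → ℂ) = conjFun L t φ) →
        classInner (resTo hLK ϑ) (ψ : L → ℂ) = (e : ℂ)) ∧
      (∀ ψ : IrrCharacter L, ¬ (∃ t ∈ K, (ψ : L → ℂ) = conjFun L t φ) →
        classInner (resTo hLK ϑ) (ψ : L → ℂ) = 0) := by
  classical
  have hΦchar : IsCharacter L (resTo hLK ϑ) :=
    isCharacter_resTo hLK (Cfsg.Agent.Helper79.isCharacter_of_irr hϑ)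
  obtain ⟨m, hm⟩ := exists_nat_mult hΦchar
  have hmφ := hm ⟨φ, hφ⟩
  refine ⟨m ⟨φ, hφ⟩, ?_, ?_, ?_⟩
  · intro h0
    apply hne
    rw [hmφ, h0]
    simp
  · rintro ψ ⟨t, _, hψ⟩
    rw [hψ, ← hmφ]
    have h1 := classInner_conjFun L t (resTo hLK ϑ) φ
    rw [conjFun_resTo_of_inv K L hLK ϑ hinv t] at h1
    exact h1
  · intro ψ hψ
    by_contra h
    exact hψ (clifford_conj_of_le hLK hϑ ψ.2 hφ h hne)

end

theorem sum_normSq_eq_classInner {K : Type*} [Group K] [Fintype K] (f : K → ℂ) :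
    ((∑ g : K, Complex.normSq (f g) : ℝ) : ℂ) = (Nat.card K : ℂ) * classInner f f := by
  unfold classInner
  have hK0 : (Nat.card K : ℂ) ≠ 0 := by exact_mod_cast Nat.card_pos.ne'
  rw [← mul_assoc, mul_inv_cancel₀ hK0, one_mul]
  push_cast
  apply Finset.sum_congr rfl
  intro g _
  rw [Complex.mul_conj]

theorem sum_hom_apply_of_ne_one {Q : Type*} [Group Q] [Finite Q] (hQ : ∀ a b : Q, a * b = b * a)
    [Fintype (Q →* ℂˣ)] {a : Q} (ha : a ≠ 1) :
    ∑ μ : Q →* ℂˣ, ((μ a : ℂˣ) : ℂ) = 0 := by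
  have h := sum_hom_inv_mul_of_ne hQ ha
  simpa using h

theorem sum_hom_apply_one {Q : Type*} [Group Q] [Fintype (Q →* ℂˣ)] :
    ∑ μ : Q →* ℂˣ, ((μ (1 : Q) : ℂˣ) : ℂ) = (Fintype.card (Q →* ℂˣ) : ℂ) := by
  simp

/-- If no nontrivial linear character of the abelian quotient `K/N` fixes the irreducible
character `ϑ`, then `|K/N| * ∑_{n ∈ N} |ϑ n|² = |K|`. -/
theorem twist_count {K : Type*} [Group K] [Fintype K] (N : Subgroup K) [N.Normal] [Fintype N]
    (hQ : ∀ a b : K ⧸ N, a * b = b * a) (ϑ : K → ℂ) (hϑ : IsIrrCharacter K ϑ)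
    (hfree : ∀ μ : (K ⧸ N) →* ℂˣ, (∀ k : K, ((μ (QuotientGroup.mk k) : ℂˣ) : ℂ) * ϑ k = ϑ k) → μ = 1) :
    (N.index : ℝ) * ∑ n : N, Complex.normSq (ϑ n) = (Nat.card K : ℝ) := by
  classical
  letI : Fintype ((K ⧸ N) →* ℂˣ) := Fintype.ofFinite _
  have hK0 : (Nat.card K : ℂ) ≠ 0 := by exact_mod_cast Nat.card_pos.ne'
  -- E1
  have hE1 : ∀ μ : (K ⧸ N) →* ℂˣ,
      ∑ k : K, ((μ (QuotientGroup.mk k) : ℂˣ) : ℂ) * (ϑ k * conj (ϑ k))
        = if μ = 1 then (Nat.card K : ℂ) else 0 := by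
    intro μ
    have hirr : IsIrrCharacter K (fun k => (((μ.comp (QuotientGroup.mk' N)) k : ℂˣ) : ℂ) * ϑ k) :=
      Cfsg.Agent.Helper79.isIrrCharacter_twist (μ.comp (QuotientGroup.mk' N)) hϑ
    have h1 := classInner_irr
      (⟨fun k => (((μ.comp (QuotientGroup.mk' N)) k : ℂˣ) : ℂ) * ϑ k, hirr⟩ : IrrCharacter K)
      ⟨ϑ, hϑ⟩
    unfold classInner at h1
    have h2 : ∑ k : K, ((μ (QuotientGroup.mk k) : ℂˣ) : ℂ) * (ϑ k * conj (ϑ k))
        = ∑ g : K, (fun k => (((μ.comp (QuotientGroup.mk' N)) k : ℂˣ) : ℂ) * ϑ k) g * conj (ϑ g) := by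
      apply Finset.sum_congr rfl
      intro k _
      simp only [MonoidHom.comp_apply, QuotientGroup.mk'_apply]
      ring
    rw [h2]
    by_cases hμ : μ = 1
    · rw [if_pos hμ]
      have heq : (⟨fun k => (((μ.comp (QuotientGroup.mk' N)) k : ℂˣ) : ℂ) * ϑ k, hirr⟩ : IrrCharacter K)
          = ⟨ϑ, hϑ⟩ := by
        subst hμ
        apply Subtype.ext
        funext k
        simp
      rw [if_pos heq] at h1
      field_simp at h1
      exact h1
    · rw [if_neg hμ]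
      have hneq : (⟨fun k => (((μ.comp (QuotientGroup.mk' N)) k : ℂˣ) : ℂ) * ϑ k, hirr⟩ : IrrCharacter K)
          ≠ ⟨ϑ, hϑ⟩ := by
        intro heq
        apply hμ
        apply hfree
        intro k
        have := congrFun (congrArg Subtype.val heq) k
        simpa using this
      rw [if_neg hneq] at h1
      rcases mul_eq_zero.1 h1 with h | h
      · exact absurd (inv_eq_zero.1 h) hK0
      · exact h
  have hT1 : ∑ μ : (K ⧸ N) →* ℂˣ,
      ∑ k : K, ((μ (QuotientGroup.mk k) : ℂˣ) : ℂ) * (ϑ k * conj (ϑ k)) = (Nat.card K : ℂ) := by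
    simp_rw [hE1]
    rw [Finset.sum_eq_single 1]
    · simp
    · intro μ _ hμ
      rw [if_neg hμ]
    · intro h
      exact absurd (Finset.mem_univ _) h
  have hT2 : ∑ μ : (K ⧸ N) →* ℂˣ,
      ∑ k : K, ((μ (QuotientGroup.mk k) : ℂˣ) : ℂ) * (ϑ k * conj (ϑ k))
        = (Fintype.card ((K ⧸ N) →* ℂˣ) : ℂ) * ∑ n : N, ϑ n * conj (ϑ n) := by
    rw [Finset.sum_comm]
    have hk : ∀ k : K, ∑ μ : (K ⧸ N) →* ℂˣ, ((μ (QuotientGroup.mk k) : ℂˣ) : ℂ) * (ϑ k * conj (ϑ k))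
        = if k ∈ N then (Fintype.card ((K ⧸ N) →* ℂˣ) : ℂ) * (ϑ k * conj (ϑ k)) else 0 := by
      intro k
      rw [← Finset.sum_mul]
      by_cases hkN : k ∈ N
      · rw [if_pos hkN, (QuotientGroup.eq_one_iff k).2 hkN, sum_hom_apply_one]
      · rw [if_neg hkN, sum_hom_apply_of_ne_one hQ (fun h => hkN ((QuotientGroup.eq_one_iff k).1 h)),
          zero_mul]
    simp_rw [hk]
    rw [← Finset.sum_filter, Finset.mul_sum]
    have hsub : ∑ k ∈ Finset.univ.filter (fun k : K => k ∈ N),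
        (Fintype.card ((K ⧸ N) →* ℂˣ) : ℂ) * (ϑ k * conj (ϑ k))
        = ∑ n : N, (Fintype.card ((K ⧸ N) →* ℂˣ) : ℂ) * (ϑ n * conj (ϑ n)) :=
      Finset.sum_subtype _ (by simp) _
    exact hsub
  have hcard : (Fintype.card ((K ⧸ N) →* ℂˣ) : ℂ) = (N.index : ℂ) := by
    letI : CommGroup (K ⧸ N) := { (inferInstance : Group (K ⧸ N)) with mul_comm := hQ }
    have : NeZero (Monoid.exponent (K ⧸ N) : ℂ) :=
      ⟨by exact_mod_cast (Monoid.exponent_ne_zero_of_finite)⟩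
    have h := CommGroup.card_monoidHom_of_hasEnoughRootsOfUnity (K ⧸ N) ℂ
    rw [Nat.card_eq_fintype_card] at h
    rw [Subgroup.index, ← h]
  rw [hT1, hcard] at hT2
  have h3 : ((N.index : ℝ) * ∑ n : N, Complex.normSq (ϑ n) : ℝ) = ((Nat.card K : ℝ) : ℂ) := by
    push_cast
    rw [hT2]
    congr 1
    apply Finset.sum_congr rfl
    intro n _
    rw [Complex.mul_conj]
  exact_mod_cast h3

end Cfsg.Agent.Helper4
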