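import Mathlib
import Cfsg.Prelude.Def_Characters
import Cfsg.Agent.Helper4.GoingDown
import Cfsg.Agent.Helper75.Ito

/-!
# More tools for "going down" (Isaacs 6.18) (helper4)

* `sum_normSq_resTo`: `∑_{x ∈ L} |ϑ x|²` as a sum over `K`.
* `sum_normSq_resTo_le`: it is at most `∑_{k ∈ K} |ϑ k|²`.
* `goingDown_decomp`: for a `G`-invariant irreducible `ϑ` of `K` and a constituent `φ` of `ϑ|_L`:
  `ϑ|_L = e • ∑ (K-conjugates of φ)` and `|L| * e² * (number of conjugates) = ∑_{x ∈ L} |ϑ x|²`.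
* `goingDown_inertia_normal`: `K ⊓ inertia L φ` is normal in `G` when `K/L` is abelian.
-/

set_option autoImplicit false

namespace Cfsg.Agent.Helper4

open Cfsg Cfsg.Agent.Helper75
open scoped ComplexConjugate

variable {G : Type*} [Group G]

theorem sum_normSq_resTo {L K : Subgroup G} [Fintype L] [Fintype K] (hLK : L ≤ K) (f : K → ℂ)
    [DecidablePred (fun k : K => (k : G) ∈ L)] :
    ∑ x : L, Complex.normSq (resTo hLK f x)
      = ∑ k : K, if (k : G) ∈ L then Complex.normSq (f k) else 0 := by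
  classical
  rw [← Finset.sum_filter]
  refine Finset.sum_bij (fun x _ => (⟨(x : G), hLK x.2⟩ : K)) ?_ ?_ ?_ ?_
  · intro x _
    simp
  · intro a _ b _ hab
    apply Subtype.ext
    exact congrArg (fun k : K => (k : G)) hab
  · intro k hk
    have hk' : (k : G) ∈ L := (Finset.mem_filter.1 hk).2
    exact ⟨⟨(k : G), hk'⟩, Finset.mem_univ _, rfl⟩
  · intro x _
    rfl

theorem sum_normSq_resTo_le {L K : Subgroup G} [Fintype L] [Fintype K] (hLK : L ≤ K) (f : K → ℂ) :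
    ∑ x : L, Complex.normSq (resTo hLK f x) ≤ ∑ k : K, Complex.normSq (f k) := by
  classical
  rw [sum_normSq_resTo]
  apply Finset.sum_le_sum
  intro k _
  split_ifs
  · exact le_rfl
  · exact Complex.normSq_nonneg _

theorem sum_normSq_resTo_eq {L K : Subgroup G} [Fintype L] [Fintype K] (hLK : L ≤ K) (f : K → ℂ)
    (hvan : ∀ k : K, (k : G) ∉ L → f k = 0) :
    ∑ x : L, Complex.normSq (resTo hLK f x) = ∑ k : K, Complex.normSq (f k) := by
  classical
  rw [sum_normSq_resTo]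
  apply Finset.sum_congr rfl
  intro k _
  split_ifs with h
  · rfl
  · rw [hvan k h]
    simp

/-- Decomposition of the restriction of a `G`-invariant irreducible character of `K` to `L`. -/
theorem goingDown_decomp (K L : Subgroup G) [hK : K.Normal] [hLn : L.Normal] [Fintype L]
    [Fintype (IrrCharacter L)]
    (hLK : L ≤ K) (ϑ : K → ℂ) (hϑ : IsIrrCharacter K ϑ)
    (hinv : ∀ (g : G) (n : K), ϑ ⟨g * n * g⁻¹, hK.conj_mem (n : G) n.2 g⟩ = ϑ n)
    (φ : L → ℂ) (hφ : IsIrrCharacter L φ) (hne : classInner (resTo hLK ϑ) φ ≠ 0)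
    (O : Finset (IrrCharacter L))
    (hO : ∀ ψ : IrrCharacter L, ψ ∈ O ↔ ∃ t ∈ K, (ψ : L → ℂ) = conjFun L t φ) :
    ∃ e : ℕ, e ≠ 0 ∧ resTo hLK ϑ = ∑ ψ ∈ O, (e : ℂ) • (ψ : L → ℂ) ∧
      (Nat.card L : ℝ) * ((e : ℝ) ^ 2 * (O.card : ℝ)) = ∑ x : L, Complex.normSq (resTo hLK ϑ x) := by
  classical
  obtain ⟨e, he0, he1, he2⟩ := goingDown_mults K L hLK ϑ hϑ hinv φ hφ hne
  have hΦchar : IsCharacter L (resTo hLK ϑ) :=
    isCharacter_resTo hLK (Cfsg.Agent.Helper79.isCharacter_of_irr hϑ)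
  have hcoef : ∀ ψ : IrrCharacter L,
      classInner (resTo hLK ϑ) (ψ : L → ℂ) = if ψ ∈ O then (e : ℂ) else 0 := by
    intro ψ
    by_cases hψ : ψ ∈ O
    · rw [if_pos hψ]
      exact he1 ψ ((hO ψ).1 hψ)
    · rw [if_neg hψ]
      exact he2 ψ (fun h => hψ ((hO ψ).2 h))
  have hdec : resTo hLK ϑ = ∑ ψ : IrrCharacter L, (if ψ ∈ O then (e : ℂ) else 0) • (ψ : L → ℂ) := by
    conv_lhs => rw [character_eq_sum_irr hΦchar]
    apply Finset.sum_congr rfl
    intro ψ _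
    rw [hcoef]
  refine ⟨e, he0, ?_, ?_⟩
  · rw [hdec]
    rw [← Finset.sum_filter_add_sum_filter_not Finset.univ (fun ψ => ψ ∈ O)]
    have h1 : ∑ ψ ∈ Finset.univ.filter (fun ψ => ¬ ψ ∈ O),
        (if ψ ∈ O then (e : ℂ) else 0) • (ψ : L → ℂ) = 0 := by
      apply Finset.sum_eq_zero
      intro ψ hψ
      rw [if_neg (Finset.mem_filter.1 hψ).2, zero_smul]
    rw [h1, add_zero]
    have h2 : Finset.univ.filter (fun ψ => ψ ∈ O) = O := by
      ext ψ
      simp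
    rw [h2]
    apply Finset.sum_congr rfl
    intro ψ hψ
    rw [if_pos hψ]
  · have h1 := sum_normSq_eq_classInner (resTo hLK ϑ)
    have h2 : classInner (resTo hLK ϑ) (resTo hLK ϑ)
        = ∑ ψ : IrrCharacter L, (if ψ ∈ O then (e : ℂ) else 0) * conj (if ψ ∈ O then (e : ℂ) else 0) := by
      conv_lhs => rw [hdec]
      exact classInner_sum_irr _ _
    have h3 : ∑ ψ : IrrCharacter L, (if ψ ∈ O then (e : ℂ) else 0) * conj (if ψ ∈ O then (e : ℂ) else 0)
        = (e : ℂ) ^ 2 * (O.card : ℂ) := by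
      have : ∀ ψ : IrrCharacter L,
          (if ψ ∈ O then (e : ℂ) else 0) * conj (if ψ ∈ O then (e : ℂ) else 0)
            = if ψ ∈ O then (e : ℂ) ^ 2 else 0 := by
        intro ψ
        split_ifs
        · rw [Complex.conj_natCast]
          ring
        · simp
      simp_rw [this]
      rw [← Finset.sum_filter]
      have h2 : Finset.univ.filter (fun ψ => ψ ∈ O) = O := by
        ext ψ
        simp
      rw [h2, Finset.sum_const, nsmul_eq_mul]
      ring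
    rw [h2, h3] at h1
    have h4 : (((Nat.card L : ℝ) * ((e : ℝ) ^ 2 * (O.card : ℝ)) : ℝ) : ℂ)
        = ((∑ x : L, Complex.normSq (resTo hLK ϑ x) : ℝ) : ℂ) := by
      rw [h1]
      push_cast
      ring
    exact_mod_cast h4

/-- For every `g : G` there is `t ∈ K` with `g * t⁻¹` in the inertia group of `φ`. -/
theorem goingDown_frattini (K L : Subgroup G) [hK : K.Normal] [hLn : L.Normal] [Fintype L]
    (hLK : L ≤ K) (ϑ : K → ℂ) (hϑ : IsIrrCharacter K ϑ)
    (hinv : ∀ (g : G) (n : K), ϑ ⟨g * n * g⁻¹, hK.conj_mem (n : G) n.2 g⟩ = ϑ n)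
    (φ : L → ℂ) (hφ : IsIrrCharacter L φ) (hne : classInner (resTo hLK ϑ) φ ≠ 0) (g : G) :
    ∃ t ∈ K, g * t⁻¹ ∈ inertia L φ := by
  have h1 : classInner (resTo hLK ϑ) (conjFun L g φ) ≠ 0 := by
    have h := classInner_conjFun L g (resTo hLK ϑ) φ
    rw [conjFun_resTo_of_inv K L hLK ϑ hinv g] at h
    rw [h]
    exact hne
  obtain ⟨t, ht, hteq⟩ := clifford_conj_of_le hLK hϑ (isIrrCharacter_conjFun L g hφ) hφ h1 hne
  refine ⟨t, ht, ?_⟩
  rw [mem_inertia, conjFun_mul, hteq, ← conjFun_mul, mul_inv_cancel, conjFun_one]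

/-- `K ⊓ inertia L φ` is normal in `G` when `K/L` is abelian. -/
theorem goingDown_inertia_normal (K L : Subgroup G) [hK : K.Normal] [hLn : L.Normal] [Fintype L]
    (hLK : L ≤ K) (hab : ⁅K, K⁆ ≤ L) (ϑ : K → ℂ) (hϑ : IsIrrCharacter K ϑ)
    (hinv : ∀ (g : G) (n : K), ϑ ⟨g * n * g⁻¹, hK.conj_mem (n : G) n.2 g⟩ = ϑ n)
    (φ : L → ℂ) (hφ : IsIrrCharacter L φ) (hne : classInner (resTo hLK ϑ) φ ≠ 0) :
    (K ⊓ inertia L φ).Normal := by
  have hLT : L ≤ inertia L φ :=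
    le_inertia L φ (isCharacter_isClassFunction' (Cfsg.Agent.Helper79.isCharacter_of_irr hφ))
  constructor
  intro x hx g
  obtain ⟨hxK, hxT⟩ := hx
  refine ⟨hK.conj_mem x hxK g, ?_⟩
  obtain ⟨t, ht, hs⟩ := goingDown_frattini K L hLK ϑ hϑ hinv φ hφ hne g
  have h1 : t * x * t⁻¹ ∈ inertia L φ := by
    have hc : t * x * t⁻¹ * x⁻¹ ∈ L := hab (Subgroup.commutator_mem_commutator ht hxK)
    have : t * x * t⁻¹ = (t * x * t⁻¹ * x⁻¹) * x := by group
    rw [this]
    exact Subgroup.mul_mem _ (hLT hc) hxT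
  have h2 : g * x * g⁻¹ = (g * t⁻¹) * (t * x * t⁻¹) * (g * t⁻¹)⁻¹ := by group
  rw [h2]
  exact Subgroup.mul_mem _ (Subgroup.mul_mem _ hs h1) (Subgroup.inv_mem _ hs)

end Cfsg.Agent.Helper4
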