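import Mathlib
import Cfsg.Prelude.Def_Characters
import Cfsg.Agent.Helper75.CliffordCorr
import Cfsg.Agent.Helper15.Gallagher
import Cfsg.Agent.Helper15.CharInner
import Cfsg.Agent.Helper3.Induced
import Cfsg.Agent.Helper80.LinChar
import Cfsg.Agent.Helper79.Linear

/-!
# Clifford correspondence: induction from the inertia group (helper4)

`H` normal in `G`, `T` the inertia group of `θ ∈ Irr(H)`.

* `ind_inertia_irr`: for `ψ ∈ Irr(T)` over `θ`, `Ind_T^G ψ` is irreducible and `θ` has the same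
  multiplicity in `(Ind ψ)|_H` as in `ψ|_H`.
* `clifford_corr_inj`: `ψ ↦ Ind_T^G ψ` is injective on `Irr(T | θ)`.
* `hom_restrict_eq_of_twist_eq`: if `ψ|_H` is irreducible and `f ψ = f₀ ψ` on `T` for homs
  `f, f₀ : G →* ℂˣ` trivial on `H`, then `f = f₀` on `T`.
* `card_hom_restrict_le`: at most `[G : T]` linear characters of `G` have a given restriction to
  `T`.
-/

set_option autoImplicit false

namespace Cfsg.Agent.Helper4

open Cfsg Cfsg.Agent.Helper75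
open scoped ComplexConjugate

variable {G : Type*} [Group G] [Fintype G]

theorem ind_inertia_irr {H T : Subgroup G} [hN : H.Normal] [Fintype H] [Fintype T] (hHT : H ≤ T)
    {θ : H → ℂ} (hθ : IsIrrCharacter H θ) (hT : ∀ g : G, g ∈ T ↔ conjFun H g θ = θ)
    {ψ : T → ℂ} (hψ : IsIrrCharacter T ψ) (hf : classInner (resTo hHT ψ) θ ≠ 0) :
    IsIrrCharacter G (indFun T ψ) ∧
      classInner (fun n : H => indFun T ψ n) θ = classInner (resTo hHT ψ) θ := by
  classical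
  have hψc : IsCharacter T ψ := Cfsg.Agent.Helper79.isCharacter_of_irr hψ
  have hind : IsCharacter G (indFun T ψ) := Cfsg.Agent.Helper3.isCharacter_indFun T ψ hψc
  have hone : indFun T ψ 1 ≠ 0 := by
    rw [indFun_one]
    have h1 : ψ 1 ≠ 0 := Cfsg.Agent.Helper80.irr_one_ne_zero (⟨ψ, hψ⟩ : IrrCharacter T)
    have h2 : (Nat.card G : ℂ) ≠ 0 := by exact_mod_cast Nat.card_pos.ne'
    have h3 : (Nat.card T : ℂ) ≠ 0 := by exact_mod_cast Nat.card_pos.ne'
    exact mul_ne_zero (div_ne_zero h2 h3) h1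
  obtain ⟨χ, hχ, hχne⟩ := exists_irr_constituent hind hone
  have hχcl : IsClassFunction G χ :=
    isCharacter_isClassFunction' (Cfsg.Agent.Helper79.isCharacter_of_irr hχ)
  rw [Cfsg.Agent.Helper3.frobenius_reciprocity T ψ χ hχcl] at hχne
  have hc : classInner (fun t : T => χ t) ψ ≠ 0 := by
    rw [Cfsg.Agent.Helper15.classInner_conj_symm]
    intro h
    apply hχne
    have := congrArg (starRingEnd ℂ) h
    simpa using this
  obtain ⟨h1, h2⟩ := clifford_correspondence hHT hθ hT hψ hχ hf hc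
  rw [h1]
  exact ⟨hχ, h2⟩

theorem clifford_corr_inj {H T : Subgroup G} [hN : H.Normal] [Fintype H] [Fintype T] (hHT : H ≤ T)
    {θ : H → ℂ} (hθ : IsIrrCharacter H θ) (hT : ∀ g : G, g ∈ T ↔ conjFun H g θ = θ)
    {ψ₁ ψ₂ : T → ℂ} (hψ₁ : IsIrrCharacter T ψ₁) (hψ₂ : IsIrrCharacter T ψ₂)
    (hf₁ : classInner (resTo hHT ψ₁) θ ≠ 0) (hf₂ : classInner (resTo hHT ψ₂) θ ≠ 0)
    (heq : indFun T ψ₁ = indFun T ψ₂) : ψ₁ = ψ₂ := by
  classical
  letI : Fintype (IrrCharacter T) := Fintype.ofFinite _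
  by_contra hne
  obtain ⟨hχ, he1⟩ := ind_inertia_irr hHT hθ hT hψ₁ hf₁
  obtain ⟨-, he2⟩ := ind_inertia_irr hHT hθ hT hψ₂ hf₂
  rw [← heq] at he2
  set χ := indFun T ψ₁ with hχdef
  have hχc : IsCharacter G χ := Cfsg.Agent.Helper79.isCharacter_of_irr hχ
  have hχcl : IsClassFunction G χ := isCharacter_isClassFunction' hχc
  have hθc : IsCharacter H θ := Cfsg.Agent.Helper79.isCharacter_of_irr hθ
  have hresT : IsCharacter T (fun t : T => χ t) := Cfsg.Agent.Helper79.isCharacter_restrict hχc T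
  obtain ⟨m, hm⟩ := exists_nat_mult hresT
  have hsumT := character_eq_sum_irr hresT
  have hk : ∀ ψ'' : IrrCharacter T, ∃ k : ℕ,
      classInner (resTo hHT (ψ'' : T → ℂ)) θ = (k : ℂ) := fun ψ'' =>
    Cfsg.Agent.Helper3.classInner_isCharacter_nat
      (isCharacter_resTo hHT (Cfsg.Agent.Helper79.isCharacter_of_irr ψ''.2)) hθc
  choose k hk using hk
  have he : classInner (fun n : H => χ n) θ =
      ((∑ ψ'' : IrrCharacter T, m ψ'' * k ψ'' : ℕ) : ℂ) := by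
    have h1 : (fun n : H => χ n) = resTo hHT (fun t : T => χ t) := rfl
    rw [h1]
    conv_lhs => rw [hsumT]
    rw [resTo_sum, classInner_sum_left]
    push_cast
    apply Finset.sum_congr rfl
    intro ψ'' _
    rw [resTo_smul, classInner_smul_left, hm, hk]
  -- multiplicities of ψ₁, ψ₂ in χ_T are 1
  have hm1 : ∀ ψ : T → ℂ, ∀ hψ : IsIrrCharacter T ψ, indFun T ψ = χ → m ⟨ψ, hψ⟩ = 1 := by
    intro ψ hψ hind
    have h1 : classInner (indFun T ψ) χ = 1 := by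
      rw [hind]
      exact classInner_irr_self hχ
    rw [Cfsg.Agent.Helper3.frobenius_reciprocity T ψ χ hχcl,
      Cfsg.Agent.Helper15.classInner_conj_symm, hm ⟨ψ, hψ⟩] at h1
    have h2 : ((m ⟨ψ, hψ⟩ : ℕ) : ℂ) = 1 := by
      have := congrArg (starRingEnd ℂ) h1
      simpa using this
    exact_mod_cast h2
  have hma := hm1 ψ₁ hψ₁ rfl
  have hmb := hm1 ψ₂ hψ₂ heq.symm
  have hka : (k ⟨ψ₁, hψ₁⟩ : ℂ) = classInner (resTo hHT ψ₁) θ := (hk ⟨ψ₁, hψ₁⟩).symm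
  have hkb : (k ⟨ψ₂, hψ₂⟩ : ℂ) = classInner (resTo hHT ψ₂) θ := (hk ⟨ψ₂, hψ₂⟩).symm
  have hkb0 : k ⟨ψ₂, hψ₂⟩ ≠ 0 := by
    intro h0
    apply hf₂
    rw [← hkb, h0]
    simp
  -- the sum is at least k₁ + k₂
  have hab : (⟨ψ₁, hψ₁⟩ : IrrCharacter T) ≠ ⟨ψ₂, hψ₂⟩ := fun h => hne (congrArg Subtype.val h)
  have hge : k ⟨ψ₁, hψ₁⟩ + k ⟨ψ₂, hψ₂⟩ ≤ ∑ ψ'' : IrrCharacter T, m ψ'' * k ψ'' := by
    have h1 : ∑ ψ'' ∈ ({⟨ψ₁, hψ₁⟩, ⟨ψ₂, hψ₂⟩} : Finset (IrrCharacter T)), m ψ'' * k ψ''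
        ≤ ∑ ψ'' : IrrCharacter T, m ψ'' * k ψ'' :=
      Finset.sum_le_sum_of_subset_of_nonneg (Finset.subset_univ _) (fun _ _ _ => Nat.zero_le _)
    rw [Finset.sum_pair hab, hma, hmb, one_mul, one_mul] at h1
    exact h1
  have hfin : ((∑ ψ'' : IrrCharacter T, m ψ'' * k ψ'' : ℕ) : ℂ) = (k ⟨ψ₁, hψ₁⟩ : ℂ) := by
    rw [← he, he1, hka]
  have hfin' : ∑ ψ'' : IrrCharacter T, m ψ'' * k ψ'' = k ⟨ψ₁, hψ₁⟩ := by exact_mod_cast hfin
  omega

theorem hom_restrict_eq_of_twist_eq {H T : Subgroup G} [hN : H.Normal] [Fintype H] [Fintype T]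
    (hHT : H ≤ T) {ψ : T → ℂ} (hψ : IsIrrCharacter T ψ) (hres : IsIrrCharacter H (resTo hHT ψ))
    (f f₀ : G →* ℂˣ) (hf : ∀ n ∈ H, f n = 1) (hf₀ : ∀ n ∈ H, f₀ n = 1)
    (heq : (fun t : T => ((f t : ℂˣ) : ℂ) * ψ t) = (fun t : T => ((f₀ t : ℂˣ) : ℂ) * ψ t)) :
    ∀ t : T, f t = f₀ t := by
  classical
  -- work in the group `T` with the normal subgroup `H.subgroupOf T`
  haveI : (H.subgroupOf T).Normal := hN.subgroupOf T
  letI : Fintype ↥(H.subgroupOf T) := Fintype.ofFinite _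
  let φ' : ↥(H.subgroupOf T) → ℂ := fun n => ψ (n : T)
  have hφ' : IsIrrCharacter ↥(H.subgroupOf T) φ' :=
    (Cfsg.Agent.Helper79.isIrrCharacter_mulEquiv (Subgroup.subgroupOfEquivOfLe hHT)).2 hres
  have hψc : IsCharacter T ψ := Cfsg.Agent.Helper79.isCharacter_of_irr hψ
  let β : T → ℂ := fun t => ((f t : ℂˣ) : ℂ)
  let γ : T → ℂ := fun t => ((f₀ t : ℂˣ) : ℂ)
  have hβ : IsIrrCharacter T β := Cfsg.Agent.Helper79.isIrrCharacter_of_hom (f.comp T.subtype)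
  have hγ : IsIrrCharacter T γ := Cfsg.Agent.Helper79.isIrrCharacter_of_hom (f₀.comp T.subtype)
  have hone : IsIrrCharacter ↥(H.subgroupOf T) (fun _ => (1 : ℂ)) :=
    Cfsg.Agent.Helper79.isIrrCharacter_one
  have hprod : IsIrrCharacter ↥(H.subgroupOf T) ((fun _ => (1 : ℂ)) * φ') := by
    have : ((fun _ => (1 : ℂ)) * φ') = φ' := by
      funext n
      simp
    rw [this]
    exact hφ'
  have hindne : ∀ (δ : T → ℂ), IsIrrCharacter T δ → (∀ n : ↥(H.subgroupOf T), δ n = 1) →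
      classInner (indFun (H.subgroupOf T) (fun _ => (1 : ℂ))) δ ≠ 0 := by
    intro δ hδ hδ1
    rw [Cfsg.Agent.Helper3.frobenius_reciprocity _ _ δ
      (isCharacter_isClassFunction' (Cfsg.Agent.Helper79.isCharacter_of_irr hδ))]
    have : (fun h : ↥(H.subgroupOf T) => δ h) = fun _ => (1 : ℂ) := funext hδ1
    rw [this, classInner_irr_self hone]
    exact one_ne_zero
  have hβ1 : ∀ n : ↥(H.subgroupOf T), β n = 1 := by
    intro n
    show ((f ((n : T) : G) : ℂˣ) : ℂ) = 1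
    rw [hf _ (Subgroup.mem_subgroupOf.1 n.2)]
    simp
  have hγ1 : ∀ n : ↥(H.subgroupOf T), γ n = 1 := by
    intro n
    show ((f₀ ((n : T) : G) : ℂˣ) : ℂ) = 1
    rw [hf₀ _ (Subgroup.mem_subgroupOf.1 n.2)]
    simp
  have hmain := Cfsg.Agent.Helper15.gallagher_inj (H.subgroupOf T) (fun _ => (1 : ℂ)) φ' hone
    (fun _ _ => rfl) hprod ψ hψc (fun _ => rfl) β γ hβ hγ (hindne β hβ hβ1) (hindne γ hγ hγ1)
    (by
      funext t
      exact congrFun heq t)
  intro t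
  have := congrFun hmain t
  exact Units.ext this

theorem card_hom_restrict_le (T : Subgroup G) (f₀ : G →* ℂˣ) (F : Finset (IrrCharacter G))
    (hF : ∀ χ ∈ F, ∃ f : G →* ℂˣ, Cfsg.Agent.Helper80.homIrr f = χ ∧ ∀ t ∈ T, f t = f₀ t) :
    F.card ≤ T.index := by
  classical
  letI : Fintype T := Fintype.ofFinite _
  letI : Fintype (IrrCharacter G) := Fintype.ofFinite _
  let θ : T → ℂ := fun t => ((f₀ t : ℂˣ) : ℂ)
  have hθ : IsIrrCharacter T θ := Cfsg.Agent.Helper79.isIrrCharacter_of_hom (f₀.comp T.subtype)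
  have hθc : IsCharacter T θ := Cfsg.Agent.Helper79.isCharacter_of_irr hθ
  have hind : IsCharacter G (indFun T θ) := Cfsg.Agent.Helper3.isCharacter_indFun T θ hθc
  obtain ⟨m, hm⟩ := exists_nat_mult hind
  have hdec := character_eq_sum_irr hind
  -- evaluate at 1
  have h1 : indFun T θ 1 = ((∑ χ : IrrCharacter G, m χ * charDegree (χ : G → ℂ) : ℕ) : ℂ) := by
    conv_lhs => rw [hdec]
    rw [Finset.sum_apply]
    push_cast
    apply Finset.sum_congr rfl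
    intro χ _
    rw [Pi.smul_apply, smul_eq_mul, hm, Cfsg.Agent.Helper80.irr_one_eq χ]
  have h2 : indFun T θ 1 = ((T.index : ℕ) : ℂ) := by
    rw [indFun_one]
    have hθ1 : θ 1 = 1 := by
      show ((f₀ ((1 : T) : G) : ℂˣ) : ℂ) = 1
      simp
    rw [hθ1, mul_one, ← Subgroup.index_mul_card T]
    have h3 : (Nat.card T : ℂ) ≠ 0 := by exact_mod_cast Nat.card_pos.ne'
    push_cast
    field_simp
  have h3 : ∑ χ : IrrCharacter G, m χ * charDegree (χ : G → ℂ) = T.index := by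
    have : ((∑ χ : IrrCharacter G, m χ * charDegree (χ : G → ℂ) : ℕ) : ℂ) = ((T.index : ℕ) : ℂ) := by
      rw [← h1, h2]
    exact_mod_cast this
  rw [← h3]
  have h4 : ∀ χ ∈ F, m χ * charDegree (χ : G → ℂ) = 1 := by
    intro χ hχ
    obtain ⟨f, rfl, hf⟩ := hF χ hχ
    rw [Cfsg.Agent.Helper80.charDegree_homIrr, mul_one]
    have h5 := hm (Cfsg.Agent.Helper80.homIrr f)
    rw [Cfsg.Agent.Helper3.frobenius_reciprocity T θ _
      (isCharacter_isClassFunction' (Cfsg.Agent.Helper79.isCharacter_of_irr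
        (Cfsg.Agent.Helper80.homIrr f).2))] at h5
    have h6 : (fun h : T => (Cfsg.Agent.Helper80.homIrr f : G → ℂ) h) = θ := by
      funext t
      show (Cfsg.Agent.Helper80.homIrr f : G → ℂ) (t : G) = ((f₀ t : ℂˣ) : ℂ)
      rw [Cfsg.Agent.Helper80.homIrr_apply, hf t t.2]
    rw [h6, classInner_irr_self hθ] at h5
    exact_mod_cast h5.symm
  calc F.card = ∑ χ ∈ F, 1 := by simp
    _ = ∑ χ ∈ F, m χ * charDegree (χ : G → ℂ) := Finset.sum_congr rfl (fun χ hχ => (h4 χ hχ).symm)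
    _ ≤ ∑ χ : IrrCharacter G, m χ * charDegree (χ : G → ℂ) :=
        Finset.sum_le_sum_of_subset_of_nonneg (Finset.subset_univ _) (fun _ _ _ => Nat.zero_le _)

end Cfsg.Agent.Helper4
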