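import Mathlib
import Cfsg.Agent.Helper74.FSForm
import Cfsg.Agent.Helper79.FrobSchur

/-!
# Invariant bilinear forms are symmetric when `∑ χ(g)² = ∑ χ(g²)` (helper4)

For a matrix representation `ρ` of a finite group `K` with character `χ`: the space of invariant
bilinear forms has dimension `|K|⁻¹ ∑ χ(g)²` and transposition has trace `|K|⁻¹ ∑ χ(g²)` on it.
If the two numbers agree, every invariant form is symmetric.
-/

set_option autoImplicit false

namespace Cfsg.Agent.Helper4

open Representation Cfsg.Agent.Helper74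

theorem invariant_form_symmetric_of_sq_eq {K : Type*} [Group K] [Fintype K] {n : ℕ}
    (ρ : Representation ℂ K (Fin n → ℂ))
    (hsq : ∑ g : K, ρ.character g * ρ.character g = ∑ g : K, ρ.character (g * g))
    (M : Matrix (Fin n) (Fin n) ℂ)
    (hM : ∀ g : K, (LinearMap.toMatrix' (ρ g)).transpose * M * LinearMap.toMatrix' (ρ g) = M) :
    M.transpose = M := by
  classical
  have hcard : (Nat.card K : ℂ) ≠ 0 := by exact_mod_cast Nat.card_pos.ne'
  let _i1 : Invertible (Nat.card K : ℂ) := invertibleOfNonzero hcard
  let _i2 : Invertible (Fintype.card K : ℂ) :=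
    invertibleOfNonzero (by rw [Fintype.card_eq_nat_card]; exact hcard)
  set σ : Representation ℂ K (Matrix (Fin n) (Fin n) ℂ) := formRep ρ with hσ
  set T : Module.End ℂ (Matrix (Fin n) (Fin n) ℂ) :=
    (Matrix.transposeLinearEquiv (Fin n) (Fin n) ℂ ℂ).toLinearMap with hT
  have hTapp : ∀ M, T M = M.transpose := fun M => rfl
  have hTT : T * T = 1 := by
    refine LinearMap.ext fun w => ?_
    show T (T w) = w
    rw [hTapp, hTapp, Matrix.transpose_transpose]
  set P : Module.End ℂ (Matrix (Fin n) (Fin n) ℂ) := averageMap σ with hP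
  have hproj : LinearMap.IsProj (invariants σ) P := isProj_averageMap σ
  have hMinv : M ∈ invariants σ := by
    intro g
    rw [hσ, formRep_apply]
    exact hM g⁻¹
  have hPP : P * P = P := by
    refine LinearMap.ext fun w => ?_
    show P (P w) = P w
    exact hproj.map_id _ (hproj.map_mem w)
  -- T commutes with σ g
  have hTσ : ∀ g : K, T * σ g = σ g * T := by
    intro g
    refine LinearMap.ext fun w => ?_
    show T (σ g w) = σ g (T w)
    rw [hσ, formRep_apply, formRep_apply, hTapp, hTapp, Matrix.transpose_mul, Matrix.transpose_mul,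
      Matrix.transpose_transpose, Matrix.mul_assoc]
  have hPsum : P = (Nat.card K : ℂ)⁻¹ • ∑ g : K, σ g := Helper79.averageMap_eq_sum σ
  have hTP : T * P = P * T := by
    rw [hPsum, mul_smul_comm, smul_mul_assoc, Finset.mul_sum, Finset.sum_mul]
    congr 1
    exact Finset.sum_congr rfl (fun g _ => hTσ g)
  -- traces
  have htrTP : LinearMap.trace ℂ _ (T * P) = (Nat.card K : ℂ)⁻¹ * ∑ s : K, ρ.character (s * s) := by
    rw [hPsum, mul_smul_comm, Finset.mul_sum, map_smul, map_sum, smul_eq_mul]
    congr 1
    rw [← Equiv.sum_comp (Equiv.inv K)]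
    refine Finset.sum_congr rfl fun g _ => ?_
    have := trace_transpose_formRep ρ g⁻¹
    rw [inv_inv] at this
    exact this
  have htrP : LinearMap.trace ℂ _ P = (Nat.card K : ℂ)⁻¹ * ∑ s : K, ρ.character s * ρ.character s := by
    rw [hPsum, map_smul, map_sum, smul_eq_mul]
    congr 1
    rw [← Equiv.sum_comp (Equiv.inv K)]
    refine Finset.sum_congr rfl fun g _ => ?_
    have := formRep_character ρ g⁻¹
    rw [inv_inv] at this
    exact this
  -- the operator E = (1/2)(P - T P) is idempotent of trace zero
  set E : Module.End ℂ (Matrix (Fin n) (Fin n) ℂ) := (2 : ℂ)⁻¹ • (P - T * P) with hE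
  have hEE : IsIdempotentElem E := by
    show E * E = E
    have h1 : (P - T * P) * (P - T * P) = (2 : ℂ) • (P - T * P) := by
      have e1 : T * P * P = T * P := by rw [mul_assoc, hPP]
      have e2 : P * (T * P) = T * P := by rw [← mul_assoc, ← hTP, mul_assoc, hPP]
      have e3 : T * P * (T * P) = P := by
        rw [mul_assoc, e2, ← mul_assoc, hTT, one_mul]
      rw [mul_sub, sub_mul, sub_mul, hPP, e1, e2, e3, two_smul]
      abel
    rw [hE, smul_mul_smul_comm, h1, smul_smul]
    congr 1
    norm_num
  have htrE : LinearMap.trace ℂ _ E = 0 := by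
    rw [hE, map_smul, map_sub, htrP, htrTP, hsq, sub_self, smul_zero]
  obtain ⟨p, hp⟩ := (LinearMap.isProj_iff_isIdempotentElem E).2 hEE
  have hfin : Module.finrank ℂ p = 0 := by
    have := hp.trace
    rw [htrE] at this
    exact_mod_cast this.symm
  have hpbot : p = ⊥ := Submodule.finrank_eq_zero.1 hfin
  have hEM : E M = 0 := by
    have := hp.map_mem M
    rw [hpbot, Submodule.mem_bot] at this
    exact this
  have hPM : P M = M := hproj.map_id M hMinv
  have h2 : E M = (2 : ℂ)⁻¹ • (M - M.transpose) := by
    rw [hE]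
    show (2 : ℂ)⁻¹ • (P M - T (P M)) = _
    rw [hPM, hTapp]
  rw [h2] at hEM
  have h3 : M - M.transpose = 0 := by
    rcases smul_eq_zero.1 hEM with h | h
    · norm_num at h
    · exact h
  exact (sub_eq_zero.1 h3).symm

end Cfsg.Agent.Helper4
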