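import Mathlib
import Cfsg.Prelude.Def_Characters
import Cfsg.Agent.Helper4.SymForm
import Cfsg.Agent.Helper4.CliffordExt
import Cfsg.Agent.Helper4.IndNormal
import Cfsg.Agent.Helper74.RealForm2

/-!
# The Frobenius–Schur indicator of a character induced from the inertia group (helper4)

`N` normal in `G`, `I` the inertia group of `φ ∈ Irr(N)`, `ψ ∈ Irr(I)` extending `φ` with
Frobenius–Schur indicator `1`.  Then `Ind_I^G ψ` (irreducible) has indicator `1`.
-/

set_option autoImplicit false

namespace Cfsg.Agent.Helper4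

open Cfsg
open scoped ComplexConjugate

variable {G : Type*} [Group G] [Fintype G]

/-- Restriction to a normal subgroup of a character induced from the inertia group of an
irreducible constituent of multiplicity one. -/
theorem restrict_eq_sum_conjFun {N : Subgroup G} [hN : N.Normal] [Fintype N]
    {χ : G → ℂ} (hχ : IsIrrCharacter G χ) {φ : N → ℂ} (hφ : IsIrrCharacter N φ)
    (hone : classInner (fun n : N => χ n) φ = 1) :
    (fun n : N => χ n) = ((Nat.card {g : G // Helper75.conjFun N g φ = φ} : ℂ))⁻¹ •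
      ∑ x : G, Helper75.conjFun N x φ := by
  have h1 := Helper75.clifford_restrict N hχ hφ (by rw [hone]; exact one_ne_zero)
  rw [hone, one_smul] at h1
  rw [Helper75.sum_conjFun_eq, smul_smul, h1]
  have h2 : (Nat.card {g : G // Helper75.conjFun N g φ = φ} : ℂ) ≠ 0 := by
    have : Nonempty {g : G // Helper75.conjFun N g φ = φ} := ⟨⟨1, Helper75.conjFun_one N φ⟩⟩
    exact_mod_cast Nat.card_pos.ne'
  rw [inv_mul_cancel₀ h2, one_smul]

omit [Fintype G] in
theorem sum_conjFun_sq {N : Subgroup G} [hN : N.Normal] [Fintype N] (φ : N → ℂ) (x : G) :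
    ∑ n : N, Helper75.conjFun N x φ (n * n) = ∑ n : N, φ (n * n) := by
  have h1 : ∀ n : N, Helper75.conjFun N x φ (n * n)
      = φ ((MulAut.conjNormal x : MulAut N) n * (MulAut.conjNormal x : MulAut N) n) := by
    intro n
    rw [Helper75.conjFun_apply, ← map_mul]
    congr 1
  simp_rw [h1]
  exact Equiv.sum_comp (MulAut.conjNormal x : MulAut N).toEquiv (fun m => φ (m * m))

theorem indicator_ind_inertia_eq_one {N I : Subgroup G} [hN : N.Normal] [Fintype N] [Fintype I]
    (hNI : N ≤ I) {φ : N → ℂ} (hφ : IsIrrCharacter N φ)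
    (hT : ∀ g : G, g ∈ I ↔ Helper75.conjFun N g φ = φ)
    {ψ : I → ℂ} (hψ : IsIrrCharacter I ψ) (hres : Helper75.resTo hNI ψ = φ)
    (hν : (Nat.card I : ℂ)⁻¹ * ∑ s : I, ψ (s * s) = 1) :
    (Nat.card G : ℂ)⁻¹ * ∑ s : G, indFun I ψ (s * s) = 1 := by
  classical
  have hf : classInner (Helper75.resTo hNI ψ) φ ≠ 0 := by
    rw [hres, Helper75.classInner_irr_self hφ]
    exact one_ne_zero
  obtain ⟨hχ, hmult⟩ := ind_inertia_irr hNI hφ hT hψ hf
  rw [hres, Helper75.classInner_irr_self hφ] at hmult
  set χ := indFun I ψ with hχdef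
  -- reality
  have hψreal : ∀ t : I, conj (ψ t) = ψ t :=
    Helper79.irr_real_of_indicator_ne_zero hψ (by rw [hν]; exact one_ne_zero)
  have hχreal : ∀ g : G, conj (χ g) = χ g := by
    intro g
    rw [hχdef, conj_indFun]
    congr 1
    funext t
    exact hψreal t
  have hφreal : ∀ n : N, conj (φ n) = φ n := by
    intro n
    rw [← hres, Helper75.resTo_apply]
    exact hψreal _
  -- the indicator of φ
  have hνφ : (Nat.card N : ℂ)⁻¹ * ∑ s : N, φ (s * s) = 1 := by
    obtain ⟨m, ρ, hρ⟩ := Helper74.exists_real_of_indicator_eq_one (⟨ψ, hψ⟩ : IrrCharacter I) hν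
    apply Helper74.indicator_eq_one_of_real (⟨φ, hφ⟩ : IrrCharacter N)
      (ρ.comp (Subgroup.inclusion hNI))
    intro g
    show ((LinearMap.trace ℝ (Fin m → ℝ) (ρ (Subgroup.inclusion hNI g)) : ℝ) : ℂ) = φ g
    rw [hρ, ← hres]
    rfl
  have hN0 : (Nat.card N : ℂ) ≠ 0 := by exact_mod_cast Nat.card_pos.ne'
  have hsumφ : ∑ s : N, φ (s * s) = (Nat.card N : ℂ) := by
    have := hνφ
    field_simp at this
    exact this
  -- the restriction of χ to N
  have hcardT : Nat.card {g : G // Helper75.conjFun N g φ = φ} = Nat.card I :=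
    (Nat.card_congr (Equiv.subtypeEquivRight hT)).symm
  have hrestr := restrict_eq_sum_conjFun hχ hφ hmult
  rw [hcardT] at hrestr
  -- B
  have hB : ∑ n : N, χ ((n : G) * (n : G)) = (Nat.card I : ℂ)⁻¹ * ((Nat.card G : ℂ) * (Nat.card N : ℂ)) := by
    have h1 : ∀ n : N, χ ((n : G) * (n : G))
        = (Nat.card I : ℂ)⁻¹ * ∑ x : G, Helper75.conjFun N x φ (n * n) := by
      intro n
      have := congrFun hrestr (n * n)
      rw [Pi.smul_apply, Finset.sum_apply, smul_eq_mul] at this
      exact this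
    simp_rw [h1]
    rw [← Finset.mul_sum, Finset.sum_comm]
    simp_rw [sum_conjFun_sq, hsumφ]
    rw [Finset.sum_const, Finset.card_univ, nsmul_eq_mul, ← Nat.card_eq_fintype_card (α := G)]
  -- A
  have hinvχ : ∀ x : G, Helper75.conjFun N x (fun n : N => χ n) = fun n : N => χ n := by
    intro x
    funext n
    rw [Helper75.conjFun_apply]
    exact Helper75.isCharacter_isClassFunction' (Helper79.isCharacter_of_irr hχ) n x
  have hA : ∑ n : N, χ (n : G) * χ (n : G) = (Nat.card I : ℂ)⁻¹ * ((Nat.card G : ℂ) * (Nat.card N : ℂ)) := by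
    have h1 : classInner (fun n : N => χ n) (fun n : N => χ n) = (Nat.card I : ℂ)⁻¹ * (Nat.card G : ℂ) := by
      conv_lhs => rhs; rw [hrestr]
      rw [Helper75.classInner_smul_right, Helper75.classInner_sum_right]
      have h2 : ∀ x : G, classInner (fun n : N => χ n) (Helper75.conjFun N x φ) = 1 := by
        intro x
        have := Helper75.classInner_conjFun N x (fun n : N => χ n) φ
        rw [hinvχ x] at this
        rw [this, hmult]
      simp_rw [h2]
      rw [Finset.sum_const, Finset.card_univ, nsmul_eq_mul, mul_one, map_inv₀, Complex.conj_natCast,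
        ← Nat.card_eq_fintype_card (α := G)]
    unfold classInner at h1
    have h3 : ∑ g : N, χ (g : G) * conj (χ (g : G)) = ∑ n : N, χ (n : G) * χ (n : G) := by
      apply Finset.sum_congr rfl
      intro g _
      rw [hχreal]
    rw [h3] at h1
    have h4 : ∑ n : N, χ (n : G) * χ (n : G)
        = (Nat.card N : ℂ) * ((Nat.card N : ℂ)⁻¹ * ∑ n : N, χ (n : G) * χ (n : G)) := by
      rw [← mul_assoc, mul_inv_cancel₀ hN0, one_mul]
    rw [h4, h1]
    ring
  -- representation
  obtain ⟨m, ρ, hirr, hρ⟩ := hχ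
  have hreal : ∀ g : G, (ρ.character g).im = 0 := by
    intro g
    rw [hρ]
    exact Complex.conj_eq_iff_im.1 (hχreal g)
  obtain ⟨⟨M, hM0, hMinv⟩, hall⟩ := Helper74.invariant_form_transpose ρ hirr hreal
  let ρN : Representation ℂ N (Fin m → ℂ) := ρ.comp N.subtype
  have hsym := invariant_form_symmetric_of_sq_eq ρN
    (by
      have e1 : ∀ g : N, ρN.character g = χ (g : G) := by
        intro g
        rw [← hρ]
        rfl
      simp_rw [e1]
      have e2 : ∀ g : N, χ ((g * g : N) : G) = χ ((g : G) * (g : G)) := fun g => rfl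
      simp_rw [e2]
      rw [hA, hB]) M (fun g => hMinv (g : G))
  have h5 := hall M hMinv
  rw [hsym] at h5
  rw [hρ] at h5
  have h6 : ((1 : ℂ) - (Nat.card G : ℂ)⁻¹ * ∑ s : G, χ (s * s)) • M = 0 := by
    rw [sub_smul, one_smul, ← h5, sub_self]
  rcases smul_eq_zero.1 h6 with h | h
  · exact (sub_eq_zero.1 h).symm
  · exact absurd h hM0

end Cfsg.Agent.Helper4
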