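import Mathlib
import Cfsg.Prelude.Def_Characters
import Cfsg.Agent.Helper4.IndIndicator

/-!
# Frobenius–Schur indicator one from a subgroup (helper4)

* `indicator_eq_one_of_subgroup_sq`: a real-valued irreducible character `χ` of `G` with
  `∑_{k ∈ K} χ(k)² = ∑_{k ∈ K} χ(k²)` for some subgroup `K` has Frobenius–Schur indicator `1`.
* `invSub N z`: the subgroup `N ∪ N z` for an involution `z` and a normal subgroup `N`;
  `sum_invSub`: sums over it.
* `indFun_conj_eq`, `indFun_eq_zero_of_forall_not_mem`: induced class functions.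
* `indicator_ind_of_inverting`: `N` normal, `z` an involution inverting `N` no conjugate of which
  lies in the inertia group `I` of the linear character `φ` of `N`; `ψ` an extension of `φ` to `I`
  with `Ind ψ` real-valued.  Then `Ind_I^G ψ` has indicator `1`.
-/

set_option autoImplicit false

namespace Cfsg.Agent.Helper4

open Cfsg
open scoped ComplexConjugate

variable {G : Type*} [Group G]

/-- A real-valued irreducible character whose restriction to a subgroup `K` satisfies
`∑ χ(k)² = ∑ χ(k²)` has Frobenius–Schur indicator one. -/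
theorem indicator_eq_one_of_subgroup_sq [Fintype G] {χ : G → ℂ} (hχ : IsIrrCharacter G χ)
    (hχreal : ∀ g : G, conj (χ g) = χ g) (K : Subgroup G) [Fintype K]
    (hsq : ∑ k : K, χ (k : G) * χ (k : G) = ∑ k : K, χ ((k : G) * (k : G))) :
    (Nat.card G : ℂ)⁻¹ * ∑ s : G, χ (s * s) = 1 := by
  classical
  obtain ⟨m, ρ, hirr, hρ⟩ := hχ
  have hreal : ∀ g : G, (ρ.character g).im = 0 := by
    intro g
    rw [hρ]
    exact Complex.conj_eq_iff_im.1 (hχreal g)
  obtain ⟨⟨M, hM0, hMinv⟩, hall⟩ := Helper74.invariant_form_transpose ρ hirr hreal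
  let ρK : Representation ℂ K (Fin m → ℂ) := ρ.comp K.subtype
  have hsym := invariant_form_symmetric_of_sq_eq ρK
    (by
      have e1 : ∀ g : K, ρK.character g = χ (g : G) := by
        intro g
        rw [← hρ]
        rfl
      simp_rw [e1]
      have e2 : ∀ g : K, χ ((g * g : K) : G) = χ ((g : G) * (g : G)) := fun g => rfl
      simp_rw [e2]
      exact hsq) M (fun g => hMinv (g : G))
  have h5 := hall M hMinv
  rw [hsym] at h5
  rw [hρ] at h5
  have h6 : ((1 : ℂ) - (Nat.card G : ℂ)⁻¹ * ∑ s : G, χ (s * s)) • M = 0 := by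
    rw [sub_smul, one_smul, ← h5, sub_self]
  rcases smul_eq_zero.1 h6 with h | h
  · exact (sub_eq_zero.1 h).symm
  · exact absurd h hM0

/-- Inducing a function and its conjugate under an element normalizing the subgroup gives the
same induced function. -/
theorem indFun_conj_eq [Fintype G] (H : Subgroup G) (θ θ' : H → ℂ) (z : G)
    (hz : ∀ y : G, y ∈ H → z * y * z⁻¹ ∈ H) (hz' : ∀ y : G, z * y * z⁻¹ ∈ H → y ∈ H)
    (h : ∀ (y : H) (hy : z * (y : G) * z⁻¹ ∈ H), θ' y = θ ⟨z * y * z⁻¹, hy⟩) :
    indFun H θ' = indFun H θ := by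
  funext g
  unfold indFun
  congr 1
  have h1 : ∀ w : G, extendByZero H θ' w = extendByZero H θ (z * w * z⁻¹) := by
    intro w
    by_cases hw : w ∈ H
    · rw [Helper3.extendByZero_of_mem H θ' hw, Helper3.extendByZero_of_mem H θ (hz w hw)]
      exact h ⟨w, hw⟩ (hz w hw)
    · rw [Helper3.extendByZero_of_not_mem H θ' hw,
        Helper3.extendByZero_of_not_mem H θ (fun hc => hw (hz' w hc))]
  simp_rw [h1]
  rw [← Equiv.sum_comp (Equiv.mulRight z⁻¹) (fun x => extendByZero H θ (x⁻¹ * g * x))]
  apply Finset.sum_congr rfl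
  intro x _
  congr 1
  simp only [Equiv.coe_mulRight]
  group

/-- An induced function vanishes at elements no conjugate of which lies in the subgroup. -/
theorem indFun_eq_zero_of_forall_not_mem [Fintype G] (H : Subgroup G) (θ : H → ℂ) (g : G)
    (h : ∀ x : G, x⁻¹ * g * x ∉ H) : indFun H θ g = 0 := by
  unfold indFun
  rw [Finset.sum_eq_zero, mul_zero]
  intro x _
  exact Helper3.extendByZero_of_not_mem H θ (h x)

/-- The subgroup `N ∪ N z` for a normal subgroup `N` and an involution `z`. -/
def invSub (N : Subgroup G) [hN : N.Normal] (z : G) (hz2 : z * z = 1) : Subgroup G where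
  carrier := {g | g ∈ N ∨ g * z ∈ N}
  one_mem' := Or.inl N.one_mem
  mul_mem' := by
    rintro a b (ha | ha) (hb | hb)
    · exact Or.inl (N.mul_mem ha hb)
    · right
      rw [mul_assoc]
      exact N.mul_mem ha hb
    · right
      have h1 : a * b * z = (a * z) * (z⁻¹ * b * z⁻¹⁻¹) := by group
      rw [h1]
      exact N.mul_mem ha (hN.conj_mem b hb z⁻¹)
    · left
      have h1 : a * b = (a * z) * (z⁻¹ * (b * z) * z⁻¹⁻¹) * (z * z)⁻¹ := by group
      rw [h1, hz2, inv_one, mul_one]
      exact N.mul_mem ha (hN.conj_mem (b * z) hb z⁻¹)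
  inv_mem' := by
    rintro a (ha | ha)
    · exact Or.inl (N.inv_mem ha)
    · right
      have h1 : a⁻¹ * z = (z * (a * z)⁻¹ * z⁻¹) * (z * z) := by group
      rw [h1, hz2, mul_one]
      exact hN.conj_mem _ (N.inv_mem ha) z

theorem mem_invSub (N : Subgroup G) [hN : N.Normal] (z : G) (hz2 : z * z = 1) (g : G) :
    g ∈ invSub N z hz2 ↔ g ∈ N ∨ g * z ∈ N := Iff.rfl

/-- Sums over `N ∪ N z`. -/
theorem sum_invSub [Fintype G] (N : Subgroup G) [hN : N.Normal] [Fintype N] (z : G)
    (hz2 : z * z = 1) (hzN : z ∉ N) [Fintype (invSub N z hz2)] (F : G → ℂ) :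
    ∑ k : invSub N z hz2, F k = ∑ n : N, F n + ∑ n : N, F ((n : G) * z) := by
  classical
  have h1 : ∑ k : invSub N z hz2, F k
      = ∑ g ∈ Finset.univ.filter (fun g : G => g ∈ N ∨ g * z ∈ N), F g := by
    symm
    exact Finset.sum_subtype _ (by intro x; simp [mem_invSub]) F
  have h2 : ∑ n : N, F n = ∑ g ∈ Finset.univ.filter (fun g : G => g ∈ N), F g := by
    symm
    exact Finset.sum_subtype _ (by intro x; simp) F
  have h3 : ∑ n : N, F ((n : G) * z) = ∑ g ∈ Finset.univ.filter (fun g : G => g ∈ N), F (g * z) := by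
    symm
    exact Finset.sum_subtype _ (by intro x; simp) (fun g => F (g * z))
  rw [h1, h2, h3, Finset.filter_or, Finset.sum_union]
  · congr 1
    apply Finset.sum_nbij' (fun g => g * z) (fun g => g * z)
    · intro a ha
      simpa using ha
    · intro a ha
      have ha' : a ∈ N := by simpa using ha
      simp only [Finset.mem_filter, Finset.mem_univ, true_and]
      rw [mul_assoc, hz2, mul_one]
      exact ha'
    · intro a _
      show a * z * z = a
      rw [mul_assoc, hz2, mul_one]
    · intro a _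
      show a * z * z = a
      rw [mul_assoc, hz2, mul_one]
    · intro a _
      show F a = F (a * z * z)
      rw [mul_assoc, hz2, mul_one]
  · rw [Finset.disjoint_filter]
    intro x _ hx hxz
    apply hzN
    have : z = x⁻¹ * (x * z) := by group
    rw [this]
    exact N.mul_mem (N.inv_mem hx) hxz

/-- `N` normal, `φ` a linear character of `N` with inertia group `I`, `ψ ∈ Irr(I)` extending `φ`;
`z` an involution inverting `N` with no conjugate in `I`; `Ind ψ` real-valued.  Then `Ind_I^G ψ`
has Frobenius–Schur indicator `1`. -/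
theorem indicator_ind_of_inverting [Fintype G] {N I : Subgroup G} [hN : N.Normal] [Fintype N]
    [Fintype I] (hNI : N ≤ I) {φ : N → ℂ} (hφ : IsIrrCharacter N φ) (hφ1 : φ 1 = 1)
    (hT : ∀ g : G, g ∈ I ↔ Helper75.conjFun N g φ = φ)
    {ψ : I → ℂ} (hψ : IsIrrCharacter I ψ) (hres : Helper75.resTo hNI ψ = φ)
    (z : G) (hz2 : z * z = 1) (hzinv : ∀ n : G, n ∈ N → z * n * z⁻¹ = n⁻¹)
    (hzconj : ∀ x : G, x⁻¹ * z * x ∉ I)
    (hχreal : ∀ g : G, conj (indFun I ψ g) = indFun I ψ g) :
    (Nat.card G : ℂ)⁻¹ * ∑ s : G, indFun I ψ (s * s) = 1 := by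
  classical
  have hf : classInner (Helper75.resTo hNI ψ) φ ≠ 0 := by
    rw [hres, Helper75.classInner_irr_self hφ]
    exact one_ne_zero
  obtain ⟨hχ, hmult⟩ := ind_inertia_irr hNI hφ hT hψ hf
  rw [hres, Helper75.classInner_irr_self hφ] at hmult
  set χ := indFun I ψ with hχdef
  have hzI : z ∉ I := by simpa using hzconj 1
  have hzN : z ∉ N := fun h => hzI (hNI h)
  have hN0 : (Nat.card N : ℂ) ≠ 0 := by exact_mod_cast Nat.card_pos.ne'
  have hI0 : (Nat.card I : ℂ) ≠ 0 := by exact_mod_cast Nat.card_pos.ne'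
  -- `ν(φ) = 0`
  have hφ2 : ∑ n : N, φ (n * n) = 0 := by
    have h1 := (Helper79.irr_frobenius_schur hφ).2
    have h2 : ∃ s : N, (φ s).im ≠ 0 := by
      by_contra hcon
      simp only [not_exists, not_not] at hcon
      apply hzI
      rw [hT]
      funext n
      rw [Helper75.conjFun_apply]
      have e : (⟨z * (n : G) * z⁻¹, hN.conj_mem n n.2 z⟩ : N) = n⁻¹ := Subtype.ext (hzinv n n.2)
      rw [e, Helper80.isCharacter_inv (Helper79.isCharacter_of_irr hφ) n]
      exact Complex.conj_eq_iff_im.2 (hcon n)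
    have h3 := h1.2 h2
    rcases mul_eq_zero.1 h3 with h | h
    · exact absurd (inv_eq_zero.1 h) hN0
    · exact h
  -- the restriction of χ to N
  have hcardT : Nat.card {g : G // Helper75.conjFun N g φ = φ} = Nat.card I :=
    (Nat.card_congr (Equiv.subtypeEquivRight hT)).symm
  have hrestr := restrict_eq_sum_conjFun hχ hφ hmult
  rw [hcardT] at hrestr
  have hB : ∑ n : N, χ ((n : G) * (n : G)) = 0 := by
    have h1 : ∀ n : N, χ ((n : G) * (n : G))
        = (Nat.card I : ℂ)⁻¹ * ∑ x : G, Helper75.conjFun N x φ (n * n) := by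
      intro n
      have := congrFun hrestr (n * n)
      rw [Pi.smul_apply, Finset.sum_apply, smul_eq_mul] at this
      exact this
    simp_rw [h1]
    rw [← Finset.mul_sum, Finset.sum_comm]
    simp_rw [sum_conjFun_sq, hφ2]
    simp
  have hinvχ : ∀ x : G, Helper75.conjFun N x (fun n : N => χ n) = fun n : N => χ n := by
    intro x
    funext n
    rw [Helper75.conjFun_apply]
    exact Helper75.isCharacter_isClassFunction' (Helper79.isCharacter_of_irr hχ) n x
  have hA : ∑ n : N, χ (n : G) * χ (n : G)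
      = (Nat.card I : ℂ)⁻¹ * ((Nat.card G : ℂ) * (Nat.card N : ℂ)) := by
    have h1 : classInner (fun n : N => χ n) (fun n : N => χ n)
        = (Nat.card I : ℂ)⁻¹ * (Nat.card G : ℂ) := by
      conv_lhs => rhs; rw [hrestr]
      rw [Helper75.classInner_smul_right, Helper75.classInner_sum_right]
      have h2 : ∀ x : G, classInner (fun n : N => χ n) (Helper75.conjFun N x φ) = 1 := by
        intro x
        have := Helper75.classInner_conjFun N x (fun n : N => χ n) φ
        rw [hinvχ x] at this
        rw [this, hmult]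
      simp_rw [h2]
      rw [Finset.sum_const, Finset.card_univ, nsmul_eq_mul, mul_one, map_inv₀,
        Complex.conj_natCast, ← Nat.card_eq_fintype_card (α := G)]
    unfold classInner at h1
    have h3 : ∑ g : N, χ (g : G) * conj (χ (g : G)) = ∑ n : N, χ (n : G) * χ (n : G) := by
      apply Finset.sum_congr rfl
      intro g _
      rw [hχreal]
    rw [h3] at h1
    have h4 : ∑ n : N, χ (n : G) * χ (n : G)
        = (Nat.card N : ℂ) * ((Nat.card N : ℂ)⁻¹ * ∑ n : N, χ (n : G) * χ (n : G)) := by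
      rw [← mul_assoc, mul_inv_cancel₀ hN0, one_mul]
    rw [h4, h1]
    ring
  -- the subgroup `K = N ∪ N z`
  letI : Fintype (invSub N z hz2) := Fintype.ofFinite _
  apply indicator_eq_one_of_subgroup_sq hχ hχreal (invSub N z hz2)
  have hL : ∑ k : invSub N z hz2, χ (k : G) * χ (k : G)
      = ∑ n : N, χ (n : G) * χ (n : G) + ∑ n : N, χ ((n : G) * z) * χ ((n : G) * z) :=
    sum_invSub N z hz2 hzN (fun g => χ g * χ g)
  have hR : ∑ k : invSub N z hz2, χ ((k : G) * (k : G))
      = ∑ n : N, χ ((n : G) * (n : G)) + ∑ n : N, χ (((n : G) * z) * ((n : G) * z)) :=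
    sum_invSub N z hz2 hzN (fun g => χ (g * g))
  have hvan : ∀ n : N, χ ((n : G) * z) = 0 := by
    intro n
    apply indFun_eq_zero_of_forall_not_mem
    intro x hx
    apply hzconj x
    have h1 : x⁻¹ * z * x = (x⁻¹ * (n : G) * x⁻¹⁻¹)⁻¹ * (x⁻¹ * ((n : G) * z) * x) := by group
    rw [h1]
    exact I.mul_mem (I.inv_mem (hNI (hN.conj_mem n n.2 x⁻¹))) hx
  have hsq1 : ∀ n : N, ((n : G) * z) * ((n : G) * z) = 1 := by
    intro n
    have h1 := hzinv n n.2
    calc ((n : G) * z) * ((n : G) * z) = (n : G) * (z * (n : G) * z⁻¹) * (z * z) := by group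
      _ = 1 := by rw [h1, hz2, mul_one, mul_inv_cancel]
  have hχ1 : χ 1 = (Nat.card G : ℂ) / (Nat.card I : ℂ) := by
    rw [hχdef, Helper75.indFun_one]
    have : ψ 1 = 1 := by
      rw [← hφ1, ← hres]
      rfl
    rw [this, mul_one]
  rw [hL, hR, hA, hB]
  simp_rw [hvan, hsq1, hχ1]
  rw [Finset.sum_const, Finset.sum_const, Finset.card_univ, ← Nat.card_eq_fintype_card (α := N)]
  simp only [mul_zero, smul_zero, add_zero, zero_add, nsmul_eq_mul]
  field_simp

end Cfsg.Agent.Helper4
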