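import Cfsg.Agent.Helper23.BG1210
import Cfsg.Agent.Helper1.Fpf

/-!
Piece PFPF of CALL S1421 (helper23): variant of `Helper1.pow_eq_one_of_fpf` in which `x ^ r` and
`y ^ r` only centralize `V`.
-/

set_option autoImplicit false

namespace Cfsg.Agent.Helper4

open Cfsg Subgroup Cfsg.Agent.Helper23

universe u

variable {G : Type u} [Group G] [Finite G]

open scoped IsMulCommutative in
theorem bg1210_conjEnd_one {G : Type*} [Group G] (V : Subgroup G) [IsMulCommutative V]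
    (g : Subgroup.normalizer (V : Set G)) (hg : (g : G) ∈ Subgroup.centralizer (V : Set G)) :
    Helper1.conjEnd V g = 1 := by
  refine AddMonoidHom.ext (fun w => ?_)
  have h := (Subgroup.mem_centralizer_iff.mp hg) (w.toMul : G) w.toMul.2
  have h2 : ((Helper1.conjEnd V g w).toMul : G) = (w.toMul : G) := by
    rw [Helper1.conjEnd_apply_coe, ← h]; group
  exact Additive.toMul.injective (Subtype.ext h2)

open scoped IsMulCommutative in
theorem bg1210_fpf_aux {G : Type*} [Group G] (V : Subgroup G) [IsMulCommutative V] (x y : G)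
    (hx : x ∈ normalizer (V : Set G)) (hy : y ∈ normalizer (V : Set G)) (hxy : x * y = y * x)
    (r : ℕ) (hr : r.Prime) (hxr : x ^ r ∈ centralizer (V : Set G))
    (hyr : y ^ r ∈ centralizer (V : Set G)) (hfx : V ⊓ centralizer {x} = ⊥)
    (hfxy : ∀ t < r, V ⊓ centralizer {x ^ t * y} = ⊥) (v : G) (hv : v ∈ V) : v ^ r = 1 := by
  obtain ⟨X, hXdef⟩ : ∃ X : AddMonoid.End (Additive V), X = Helper1.conjEnd V ⟨x, hx⟩ := ⟨_, rfl⟩
  obtain ⟨Y, hYdef⟩ : ∃ Y : AddMonoid.End (Additive V), Y = Helper1.conjEnd V ⟨y, hy⟩ := ⟨_, rfl⟩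
  have hcomm : Commute X Y := by
    have : Commute (⟨x, hx⟩ : Subgroup.normalizer (V : Set G)) ⟨y, hy⟩ := Subtype.ext hxy
    rw [hXdef, hYdef]
    exact this.map (Helper1.conjEnd V)
  have hXr : X ^ r = 1 := by
    rw [hXdef, ← map_pow]
    exact bg1210_conjEnd_one V _ (by simpa using hxr)
  have hYr : Y ^ r = 1 := by
    rw [hYdef, ← map_pow]
    exact bg1210_conjEnd_one V _ (by simpa using hyr)
  have hXt : ∀ t, X ^ t * Y = Helper1.conjEnd V (⟨x, hx⟩ ^ t * ⟨y, hy⟩) := by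
    intro t; rw [hXdef, hYdef, map_mul, map_pow]
  have hfX : ∀ w, X w = w → w = 0 := by
    intro w hw
    rw [hXdef] at hw
    exact Helper1.conjEnd_fix V ⟨x, hx⟩ hfx w hw
  have hfXY : ∀ t < r, ∀ w, (X ^ t * Y) w = w → w = 0 := by
    intro t ht w hw
    rw [hXt] at hw
    exact Helper1.conjEnd_fix V _ (hfxy t ht) w hw
  exact Helper1.pow_eq_one_of_nsmul V r
    (Helper1.nsmul_eq_zero_of_fpf X Y hcomm r hr hXr hYr hfX hfXY) v hv

theorem bg1210_fpf {V : Subgroup G} [IsMulCommutative V] (x y : G)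
    (hx : x ∈ normalizer (V : Set G)) (hy : y ∈ normalizer (V : Set G)) (hxy : x * y = y * x)
    (r : ℕ) (hr : r.Prime) (hxr : x ^ r ∈ centralizer (V : Set G))
    (hyr : y ^ r ∈ centralizer (V : Set G)) (hfx : V ⊓ centralizer {x} = ⊥)
    (hfxy : ∀ t < r, V ⊓ centralizer {x ^ t * y} = ⊥) (v : G) (hv : v ∈ V) : v ^ r = 1 :=
  bg1210_fpf_aux V x y hx hy hxy r hr hxr hyr hfx hfxy v hv

end Cfsg.Agent.Helper4
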