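import Cfsg.Agent.Helper24.BG11b

/-!
# CALL BG15 (helper25), piece C2 (helper4, double): `M' < M` for a maximal subgroup `M`.
-/

set_option autoImplicit false

namespace Cfsg.Agent.Helper4

open Cfsg Subgroup

universe u

section App

variable {G : Type u} [Group G] [Finite G]

/-- C2. `M' < M` (`M` is solvable and `M ≠ 1`). -/
theorem bg15_comm_lt (hG : IsMinSimpleOddOrder G) (M : Subgroup G) (hM : IsCoatom M) :
    ⁅M, M⁆ < M := by
  haveI hsol : Group.IsSolvable ↥M := hG.2.2.2 M hM.1
  haveI : Nontrivial ↥M :=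
    (Subgroup.nontrivial_iff_ne_bot M).mpr (Cfsg.Agent.Helper24.bg11b_coatom_ne_bot hG hM)
  have h1 : commutator ↥M < ⊤ := IsSolvable.commutator_lt_top_of_nontrivial ↥M
  have h2 : (commutator ↥M).map M.subtype < (⊤ : Subgroup ↥M).map M.subtype :=
    (Subgroup.map_lt_map_iff_of_injective M.subtype_injective).mpr h1
  rw [Subgroup.map_subtype_commutator, ← MonoidHom.range_eq_map, Subgroup.range_subtype] at h2
  exact h2

end App

end Cfsg.Agent.Helper4
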