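import Mathlib
import Cfsg.Agent.S1403
import Cfsg.Agent.Helper22.BG10b
import Cfsg.Agent.Helper22.BG157HK
import Cfsg.Agent.Helper22.BG157NK
import Cfsg.Agent.Helper47.BG157CC
import Cfsg.Agent.Helper54.BG14T2
import Cfsg.Agent.Helper71.Fitting

set_option autoImplicit false

namespace Cfsg.Agent.Helper4

open Cfsg Subgroup

universe u

variable {G : Type u} [Group G] [Finite G]

/-- FS1. In the non-nilpotent case an element of prime order `t` of `F(M)` is a `σ(M)`-element.
If `t ∉ σ(M)`: `t ∈ κ(M)` (all primes of `|M|` lie in `σ ∪ κ`: S1429 + `hne` as in the piece T0 of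
CALL S1437, or `U = ⊥`); `T := closure {f ∈ F(M) | (orderOf f).Coprime |M_σ|}` contains `x`, is
normalized by `M`, has order prime to `|M_σ|` (`Helper47.bg157_coprime_closure`,
`Helper71.fittingSubgroup_isNilpotent`), so `[x, M_σ] ≤ T ⊓ M_σ = ⊥`; `x` lies in a Hall
`κ(M)`-subgroup `K'` (`Helper22.bg157_hall_contains`); S1430 clause 1: `M_σ = M_σ ⊓ C(K')`;
S1431 clause 3 (a Sylow subgroup of `M_σ ≠ 1` is not inside `M_σ ⊓ C(K')`): contradiction. -/
theorem bg15c_fit_prime_sigma (hG : IsMinSimpleOddOrder G) {M K U : Subgroup G}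
    (hM : IsCoatom M) (hKU : IsSigmaDecomposition M K U)
    (hne : fittingHallOf M ≠ sigmaCore M) (hU : U = ⊥) {x : G} (hx : x ∈ fittingOf M)
    (hxo : (orderOf x).Prime) : orderOf x ∈ sigma M := by
  classical
  by_contra htσ
  have hBU : Cfsg.Agent.Helper22.BGUniq G :=
    fun K hK h1 h2 => Cfsg.Agent.S1403.result hG K hK h1 h2
  obtain ⟨hσh, -, -⟩ := Cfsg.Agent.Helper22.bg10_sigma_hall hG hBU hM
  -- notation inside `↥M`
  obtain ⟨x', hx'F, rfl⟩ := hx
  have hxo' : (orderOf x').Prime := by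
    have : orderOf ((M.subtype) x') = orderOf x' := orderOf_injective M.subtype
      M.subtype_injective x'
    rwa [this] at hxo
  have hoeq : orderOf ((M.subtype) x') = orderOf x' := orderOf_injective M.subtype
      M.subtype_injective x'
  rw [hoeq] at htσ
  set t := orderOf x' with htdef
  set Ns : Subgroup ↥M := piCore (sigma M) ↥M with hNs
  have hNsn : Ns.Normal := piCore_normal (sigma M) ↥M
  have hFn : (fittingSubgroup ↥M).Normal := Cfsg.Agent.Helper71.fittingSubgroup_normal ↥M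
  have hσdef : sigmaCore M = Ns.map M.subtype := rfl
  have hcardNs : Nat.card ↥Ns = Nat.card ↥(sigmaCore M) := by
    rw [hσdef, Subgroup.card_map_of_injective M.subtype_injective]
  -- `t ∤ |M_σ|`
  have htk : ¬ t ∣ Nat.card ↥Ns := by
    intro hdvd
    rw [hcardNs] at hdvd
    exact htσ (hσh.2.1 t hxo' hdvd)
  have hk : 0 < Nat.card ↥Ns := Nat.card_pos
  -- Step 1: `t ∈ κ(M)`
  have hKM : K ≤ M := hKU.hall.1
  have hsup : K.subgroupOf M ⊔ Ns = ⊤ := by
    rw [eq_top_iff]
    intro m _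
    obtain ⟨a, ha, b, hb, hmab⟩ := hKU.compl.2.2.2 (m : G) m.2
    rw [hU, Subgroup.mem_bot] at ha
    rw [ha, one_mul] at hmab
    have hmap : (K.subgroupOf M ⊔ Ns).map M.subtype = K ⊔ sigmaCore M := by
      rw [Subgroup.map_sup, Subgroup.map_subgroupOf_eq_of_le hKM]
      rfl
    rw [← hmap] at hb
    obtain ⟨m', hm', hm'b⟩ := hb
    have : m' = m := Subtype.ext (by rw [hmab]; exact hm'b)
    rw [← this]; exact hm'
  have htK : t ∣ Nat.card ↥K := by
    have h1 : Ns.relIndex (K.subgroupOf M ⊔ Ns) = Ns.relIndex (K.subgroupOf M) :=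
      Subgroup.relIndex_sup_right _ _
    rw [hsup, Subgroup.relIndex_top_right] at h1
    have h2 : Ns.index ∣ Nat.card ↥(K.subgroupOf M) := by
      rw [h1]; exact Subgroup.relIndex_dvd_card _ _
    have h3 : Nat.card ↥(K.subgroupOf M) = Nat.card ↥K :=
      Nat.card_congr (Subgroup.subgroupOfEquivOfLe hKM).toEquiv
    rw [h3] at h2
    have h4 : t ∣ Nat.card ↥M := orderOf_dvd_natCard x'
    rw [← Subgroup.card_mul_index Ns] at h4
    rcases (Nat.Prime.dvd_mul hxo').mp h4 with h5 | h5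
    · exact absurd h5 htk
    · exact h5.trans h2
  have htκ : t ∈ kappa M := hKU.hall.2.1 t hxo' htK
  -- Step 2: `x` centralizes `M_σ`
  have hcop : t.Coprime (Nat.card ↥Ns) := (Nat.Prime.coprime_iff_not_dvd hxo').mpr htk
  set T : Subgroup ↥M :=
    Subgroup.closure {f : ↥M | f ∈ fittingSubgroup ↥M ∧ (orderOf f).Coprime (Nat.card ↥Ns)}
    with hT
  have hTcop : (Nat.card ↥T).Coprime (Nat.card ↥Ns) :=
    Cfsg.Agent.Helper47.bg157_coprime_closure
      (Cfsg.Agent.Helper71.fittingSubgroup_isNilpotent ↥M) (Nat.card ↥Ns) hk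
  have hcomm : ∀ u ∈ Ns, x' * u = u * x' := by
    intro u hu
    have hxT : x' ∈ T := Subgroup.subset_closure ⟨hx'F, hcop⟩
    have hgen : u * x'⁻¹ * u⁻¹ ∈ T := by
      apply Subgroup.subset_closure
      refine ⟨hFn.conj_mem _ (Subgroup.inv_mem _ hx'F) u, ?_⟩
      have : orderOf (u * x'⁻¹ * u⁻¹) = t := by
        have h1 := orderOf_injective (MulAut.conj u).toMonoidHom (MulAut.conj u).injective x'⁻¹
        rw [orderOf_inv] at h1
        simpa using h1
      rw [this]; exact hcop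
    have hcT : x' * (u * x'⁻¹ * u⁻¹) ∈ T := T.mul_mem hxT hgen
    have hcN : x' * (u * x'⁻¹ * u⁻¹) ∈ Ns := by
      have h1 : x' * u * x'⁻¹ ∈ Ns := hNsn.conj_mem u hu x'
      have h2 : x' * (u * x'⁻¹ * u⁻¹) = (x' * u * x'⁻¹) * u⁻¹ := by group
      rw [h2]; exact Ns.mul_mem h1 (Ns.inv_mem hu)
    set c := x' * (u * x'⁻¹ * u⁻¹) with hc
    have ho1 : orderOf c ∣ Nat.card ↥T := by
      have := orderOf_dvd_natCard (⟨c, hcT⟩ : ↥T)
      rwa [Subgroup.orderOf_mk] at this
    have ho2 : orderOf c ∣ Nat.card ↥Ns := by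
      have := orderOf_dvd_natCard (⟨c, hcN⟩ : ↥Ns)
      rwa [Subgroup.orderOf_mk] at this
    have ho : orderOf c = 1 := Nat.eq_one_of_dvd_coprimes hTcop ho1 ho2
    have hc1 : c = 1 := orderOf_eq_one_iff.mp ho
    have : x' * u = c * (u * x') := by rw [hc]; group
    rw [this, hc1, one_mul]
  have hxcent : (M.subtype x') ∈ centralizer ((sigmaCore M : Subgroup G) : Set G) := by
    rw [mem_centralizer_iff]
    rintro _ ⟨u, hu, rfl⟩
    have := congrArg M.subtype (hcomm u hu)
    simpa using this.symm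
  -- Step 3: a Hall `κ(M)`-subgroup through `x`
  have hxM : (M.subtype x') ∈ M := x'.2
  obtain ⟨K', hK', hxK'⟩ := Cfsg.Agent.Helper22.bg157_hall_contains hG hM (kappa M)
    (X := zpowers (M.subtype x')) ((zpowers_le).mpr hxM) (by
      intro q hq hqd
      rw [Nat.card_zpowers, hoeq] at hqd
      rw [(Nat.prime_dvd_prime_iff_eq hq hxo').mp hqd]
      exact htκ)
  have hx1 : (M.subtype x') ≠ 1 := by
    intro h1
    have : orderOf (M.subtype x') = 1 := by rw [h1, orderOf_one]
    rw [hoeq] at this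
    exact hxo'.one_lt.ne' this
  have hσne : sigmaCore M ≠ ⊥ := by
    intro hbot
    apply hne
    have hle : fittingHallOf M ≤ sigmaCore M := Cfsg.Agent.Helper54.bg14t_fittingHall_le hG hM
    rw [hbot] at hle ⊢
    exact le_antisymm hle bot_le
  have hHall : (Nat.card ↥(sigmaCore M)).Coprime ((sigmaCore M).relIndex (sigmaCore M)) := by
    rw [Subgroup.relIndex_self]; exact Nat.coprime_one_right _
  exact Cfsg.Agent.Helper22.bg157_not_kappa hG hM (le_refl (sigmaCore M)) hσne hHall hK'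
    (hxK' (mem_zpowers _)) hx1 hxcent

end Cfsg.Agent.Helper4
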