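import Cfsg.Agent.Helper22.BG10b
import Cfsg.Agent.S1403

set_option autoImplicit false

namespace Cfsg.Agent.Helper4

open Cfsg Subgroup

universe u

variable {G : Type u} [Group G] [Finite G]

/-- HG. A Hall subgroup `T` of `M` inside `M_σ` is a Hall subgroup of `G`
(`M_σ` is a Hall `σ(M)`-subgroup of `G`: second clause `IsPiHall (sigma M) (sigmaCore M)` of
`Helper22.bg10_sigma_hall`; `T.index = T.relIndex (sigmaCore M) * (sigmaCore M).index`). -/
theorem bg16_hall_in_G (hG : IsMinSimpleOddOrder G) (M : Subgroup G) (hM : IsCoatom M)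
    (T : Subgroup G) (hT : T ≤ sigmaCore M)
    (hHall : (Nat.card T).Coprime (T.relIndex M)) : (Nat.card T).Coprime T.index := by
  obtain ⟨h1, h2, -⟩ := Cfsg.Agent.Helper22.bg10_sigma_hall hG
    (fun K hK h1 h2 => Cfsg.Agent.S1403.result hG K hK h1 h2) hM
  have hσM : sigmaCore M ≤ M := h1.1
  have hTM : T ≤ M := hT.trans hσM
  apply Nat.Coprime.symm
  apply Nat.Coprime.symm
  apply Nat.coprime_of_dvd
  intro p hp hpT hpi
  have hpσ : p ∈ sigma M := h2.1 p hp (hpT.trans (Subgroup.card_dvd_of_le hT))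
  have hnσ : ¬ p ∣ (sigmaCore M).index := h2.2 p hp hpσ
  have hnM : ¬ p ∣ M.index := by
    intro h
    apply hnσ
    rw [← Subgroup.relIndex_mul_index hσM]
    exact h.mul_left _
  rw [← Subgroup.relIndex_mul_index hTM] at hpi
  rcases (Nat.Prime.dvd_mul hp).mp hpi with h | h
  · exact (Nat.Prime.coprime_iff_not_dvd hp).mp
      ((Nat.Coprime.coprime_dvd_left hpT hHall)) h |>.elim
  · exact hnM h

end Cfsg.Agent.Helper4
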