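import Mathlib
import Cfsg.Agent.Helper23.Trans
import Cfsg.Agent.Helper47.BG157CC
import Cfsg.Agent.Helper64.PiTwo
import Cfsg.Agent.Helper71.Fitting
import Cfsg.Agent.Helper78.BG157HC
import Cfsg.Agent.Helper1.BG15C1
import Cfsg.Agent.S1365

set_option autoImplicit false

namespace Cfsg.Agent.Helper4

open Cfsg Subgroup

universe u

variable {G : Type u} [Group G] [Finite G]

/-- An element of `F(M)` of order prime to `|M_σ|` centralizes `M_σ` (inside `↥M`). -/
theorem bg17fl2_cent {M : Subgroup G} {x' : ↥M} (hx'F : x' ∈ fittingSubgroup ↥M)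
    (hcop : (orderOf x').Coprime (Nat.card ↥(piCore (sigma M) ↥M))) :
    ∀ u ∈ piCore (sigma M) ↥M, x' * u = u * x' := by
  classical
  set Ns : Subgroup ↥M := piCore (sigma M) ↥M with hNs
  have hNsn : Ns.Normal := piCore_normal (sigma M) ↥M
  have hFn : (fittingSubgroup ↥M).Normal := Cfsg.Agent.Helper71.fittingSubgroup_normal ↥M
  have hk : 0 < Nat.card ↥Ns := Nat.card_pos
  set T : Subgroup ↥M :=
    Subgroup.closure {f : ↥M | f ∈ fittingSubgroup ↥M ∧ (orderOf f).Coprime (Nat.card ↥Ns)}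
    with hT
  have hTcop : (Nat.card ↥T).Coprime (Nat.card ↥Ns) :=
    Cfsg.Agent.Helper47.bg157_coprime_closure
      (Cfsg.Agent.Helper71.fittingSubgroup_isNilpotent ↥M) (Nat.card ↥Ns) hk
  intro u hu
  have hxT : x' ∈ T := Subgroup.subset_closure ⟨hx'F, hcop⟩
  have hgen : u * x'⁻¹ * u⁻¹ ∈ T := by
    apply Subgroup.subset_closure
    refine ⟨hFn.conj_mem _ (Subgroup.inv_mem _ hx'F) u, ?_⟩
    have : orderOf (u * x'⁻¹ * u⁻¹) = orderOf x' := by
      have h1 := orderOf_injective (MulAut.conj u).toMonoidHom (MulAut.conj u).injective x'⁻¹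
      rw [orderOf_inv] at h1
      simpa using h1
    rw [this]; exact hcop
  have hcT : x' * (u * x'⁻¹ * u⁻¹) ∈ T := T.mul_mem hxT hgen
  have hcN : x' * (u * x'⁻¹ * u⁻¹) ∈ Ns := by
    have h1 : x' * u * x'⁻¹ ∈ Ns := hNsn.conj_mem u hu x'
    have h2 : x' * (u * x'⁻¹ * u⁻¹) = (x' * u * x'⁻¹) * u⁻¹ := by group
    rw [h2]; exact Ns.mul_mem h1 (Ns.inv_mem hu)
  set c := x' * (u * x'⁻¹ * u⁻¹) with hc
  have ho1 : orderOf c ∣ Nat.card ↥T := by
    have := orderOf_dvd_natCard (⟨c, hcT⟩ : ↥T)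
    rwa [Subgroup.orderOf_mk] at this
  have ho2 : orderOf c ∣ Nat.card ↥Ns := by
    have := orderOf_dvd_natCard (⟨c, hcN⟩ : ↥Ns)
    rwa [Subgroup.orderOf_mk] at this
  have ho : orderOf c = 1 := Nat.eq_one_of_dvd_coprimes hTcop ho1 ho2
  have hc1 : c = 1 := orderOf_eq_one_iff.mp ho
  have : x' * u = c * (u * x') := by rw [hc]; group
  rw [this, hc1, one_mul]

/-- FL2. `F(M) ≤ M'`.  (`[M : M'] = |K|` by WC.  If `y ∈ F(M)` has prime order `p ∈ κ(M)`,
the Sylow `p`-subgroup `P` of the nilpotent `F(M)` is normal in `M` and meets `M_σ` trivially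
(`p ∉ σ(M)`), so `y` centralizes `M_σ`; an `M`-conjugate of `y` lies in `K` (Hall): `hnc`.
Hence every `x ∈ F(M)` has order prime to `|K|`, so `x ∈ M'`.) -/
theorem bg17_fitting_le_comm (hG : IsMinSimpleOddOrder G) {M K U : Subgroup G} (hM : IsCoatom M)
    (hKU : IsSigmaDecomposition M K U) (hK1 : K ≠ ⊥)
    (hnc : ∀ k ∈ K, k ≠ 1 → ¬ sigmaCore M ≤ centralizer ({k} : Set G)) :
    fittingOf M ≤ ⁅M, M⁆ := by
  classical
  have hKM : K ≤ M := hKU.hall.1
  have hder : ⁅M, M⁆ = U ⊔ sigmaCore M := (Cfsg.Agent.S1365.result hG M hM K U hKU hK1).1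
  set Ns : Subgroup ↥M := piCore (sigma M) ↥M with hNs
  have hσdef : sigmaCore M = Ns.map M.subtype := rfl
  set D : Subgroup ↥M := commutator ↥M with hD
  have hDmap : D.map M.subtype = ⁅M, M⁆ := Subgroup.map_subtype_commutator M
  -- `K ⊔ M' = M` inside `↥M`
  have hsup : K.subgroupOf M ⊔ D = ⊤ := by
    rw [eq_top_iff]
    intro m _
    obtain ⟨a, ha, b, hb, hmab⟩ := hKU.compl.2.2.2 (m : G) m.2
    have hmap : (K.subgroupOf M ⊔ D).map M.subtype = K ⊔ ⁅M, M⁆ := by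
      rw [Subgroup.map_sup, Subgroup.map_subgroupOf_eq_of_le hKM, hDmap]
    have haD : a ∈ K ⊔ ⁅M, M⁆ := by
      have : a ∈ ⁅M, M⁆ := by rw [hder]; exact (le_sup_left : U ≤ U ⊔ sigmaCore M) ha
      exact (le_sup_right : ⁅M, M⁆ ≤ K ⊔ ⁅M, M⁆) this
    have hbD : b ∈ K ⊔ ⁅M, M⁆ := by
      have hle : K ⊔ sigmaCore M ≤ K ⊔ ⁅M, M⁆ :=
        sup_le_sup_left (by rw [hder]; exact le_sup_right) K
      exact hle hb
    have hm : (m : G) ∈ K ⊔ ⁅M, M⁆ := by rw [hmab]; exact Subgroup.mul_mem _ haD hbD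
    rw [← hmap] at hm
    obtain ⟨m', hm', hm'b⟩ := hm
    have : m' = m := Subtype.ext hm'b
    rw [← this]; exact hm'
  have hidx : D.index ∣ Nat.card ↥K := by
    have h1 : D.relIndex (K.subgroupOf M ⊔ D) = D.relIndex (K.subgroupOf M) :=
      Subgroup.relIndex_sup_right _ _
    rw [hsup, Subgroup.relIndex_top_right] at h1
    have h2 : D.index ∣ Nat.card ↥(K.subgroupOf M) := by
      rw [h1]; exact Subgroup.relIndex_dvd_card _ _
    have h3 : Nat.card ↥(K.subgroupOf M) = Nat.card ↥K :=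
      Nat.card_congr (Subgroup.subgroupOfEquivOfLe hKM).toEquiv
    rwa [h3] at h2
  -- the main argument
  rintro _ ⟨x', hx'F, rfl⟩
  have hcopK : (orderOf x').Coprime (Nat.card ↥K) := by
    apply Nat.coprime_of_dvd
    intro p hp hpx hpK
    have hκ : p ∈ kappa M := hKU.hall.2.1 p hp hpK
    have hpσ : p ∉ sigma M := hκ.2.2.1
    set y' : ↥M := x' ^ (orderOf x' / p) with hy'
    have hy'o : orderOf y' = p := orderOf_pow_orderOf_div (orderOf_pos x').ne' hpx
    have hy'F : y' ∈ fittingSubgroup ↥M := Subgroup.pow_mem _ hx'F _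
    have hpN : ¬ p ∣ Nat.card ↥Ns := fun hd =>
      hpσ (Cfsg.Agent.Helper23.mem_of_dvd_card_piCore (G := ↥M) (sigma M) hp hd)
    have hcop : (orderOf y').Coprime (Nat.card ↥Ns) := by
      rw [hy'o]; exact (Nat.Prime.coprime_iff_not_dvd hp).mpr hpN
    have hcent := bg17fl2_cent hy'F hcop
    -- conjugate into `K`
    have hyo : orderOf (y' : G) = p := by rw [Subgroup.orderOf_coe]; exact hy'o
    obtain ⟨m, hm, hmK⟩ := Cfsg.Agent.Helper78.bg157_hall_conj hG hM hKU.hall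
      (X := zpowers (y' : G)) ((zpowers_le).mpr y'.2) (by
        intro q hq hqd
        rw [Nat.card_zpowers, hyo] at hqd
        rw [(Nat.prime_dvd_prime_iff_eq hq hp).mp hqd]
        exact hκ)
    have hkK : m * (y' : G) * m⁻¹ ∈ K := by
      apply hmK
      exact ⟨(y' : G), mem_zpowers _, by simp [MulAut.conj_apply]⟩
    have hy1 : (y' : G) ≠ 1 := by
      intro h1
      rw [h1, orderOf_one] at hyo
      exact hp.one_lt.ne hyo
    have hk1 : m * (y' : G) * m⁻¹ ≠ 1 := by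
      intro h1
      apply hy1
      have : (y' : G) = m⁻¹ * (m * (y' : G) * m⁻¹) * m := by group
      rw [this, h1]; group
    apply hnc _ hkK hk1
    intro s hs
    rw [mem_centralizer_iff]
    intro k hk
    rw [Set.mem_singleton_iff] at hk
    subst hk
    -- `s' := m⁻¹ s m ∈ M_σ`
    have hn : m⁻¹ ∈ normalizer ((piCoreOf (sigma M) M : Subgroup G) : Set G) :=
      Cfsg.Agent.Helper23.le_normalizer_piCoreOf (sigma M) M (M.inv_mem hm)
    have hs' : m⁻¹ * s * m⁻¹⁻¹ ∈ sigmaCore M := (mem_normalizer_iff.mp hn s).mp hs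
    rw [inv_inv] at hs'
    obtain ⟨u, hu, hus⟩ := hs'
    have hc := congrArg M.subtype (hcent u hu)
    simp only [map_mul, Subgroup.coe_subtype] at hc
    have hus' : (u : G) = m⁻¹ * s * m := hus
    rw [hus'] at hc
    -- hc : y' * (m⁻¹ * s * m) = (m⁻¹ * s * m) * y'
    calc m * (y' : G) * m⁻¹ * s = m * ((y' : G) * (m⁻¹ * s * m)) * m⁻¹ := by group
      _ = m * ((m⁻¹ * s * m) * (y' : G)) * m⁻¹ := by rw [hc]
      _ = s * (m * (y' : G) * m⁻¹) := by group
  have hxD : x' ∈ D := by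
    haveI : D.Normal := by rw [hD]; infer_instance
    apply Cfsg.Agent.Helper64.mem_of_coprime_index
    exact Nat.Coprime.coprime_dvd_right hidx hcopK
  rw [← hDmap]
  exact ⟨x', hxD, rfl⟩

end Cfsg.Agent.Helper4
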