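import Mathlib
import Cfsg.Agent.Helper54.BG14T4
import Cfsg.Agent.Helper23.Uniq
import Cfsg.Agent.Helper24.BG11b

/-! CALL BG36 (helper2), piece B3 (double by helper4): `m = r⁻¹ n g` lies in `M` and conjugates
`N'` to `N`. -/

set_option autoImplicit false

namespace Cfsg.Agent.Helper4

open Cfsg Subgroup

universe u

variable {G : Type u} [Group G] [Finite G]

theorem bg36_b_fin (hG : IsMinSimpleOddOrder G) {M N N' : Subgroup G} (hM : IsCoatom M)
    {g n r : G} (hg : N'.map (MulAut.conj g).toMonoidHom = N) (hn : n ∈ N) (hrN : r ∈ N)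
    (hrM : M.map (MulAut.conj r).toMonoidHom = M.map (MulAut.conj (n * g)).toMonoidHom) :
    ∃ m ∈ M, N'.map (MulAut.conj m).toMonoidHom = N := by
  have hM1 : M ≠ ⊥ := Cfsg.Agent.Helper24.bg11b_coatom_ne_bot hG hM
  have hNM : normalizer (M : Set G) = M :=
    Cfsg.Agent.Helper23.uq_normalizer_eq hG hM hM1 le_rfl le_normalizer
  have hm : r⁻¹ * (n * g) ∈ normalizer (M : Set G) :=
    Cfsg.Agent.Helper54.bg14t_mem_normalizer_of_map_eq hrM
  rw [hNM] at hm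
  refine ⟨r⁻¹ * (n * g), hm, ?_⟩
  have key : ∀ w : G, w ∈ N ↔ g⁻¹ * w * g ∈ N' := by
    intro w
    rw [← hg, Cfsg.Agent.Helper54.bg14t_mem_map_conj]
  ext z
  rw [Cfsg.Agent.Helper54.bg14t_mem_map_conj]
  have e : (r⁻¹ * (n * g))⁻¹ * z * (r⁻¹ * (n * g)) =
      g⁻¹ * (n⁻¹ * r * z * (n⁻¹ * r)⁻¹) * g := by group
  rw [e, ← key]
  have hnr : n⁻¹ * r ∈ N := N.mul_mem (N.inv_mem hn) hrN
  constructor
  · intro h
    have e2 : z = (n⁻¹ * r)⁻¹ * (n⁻¹ * r * z * (n⁻¹ * r)⁻¹) * (n⁻¹ * r) := by group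
    rw [e2]
    exact N.mul_mem (N.mul_mem (N.inv_mem hnr) h) hnr
  · intro h
    exact N.mul_mem (N.mul_mem hnr h) (N.inv_mem hnr)

end Cfsg.Agent.Helper4
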