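import Mathlib
import Cfsg.Agent.Helper23.Trans
import Cfsg.Agent.Helper23.FittingHall
import Cfsg.Agent.Helper25.BG16HM

/-! CALL BG83 (helper25), piece CYC (helper4), core: the statement with the pieces GEN, CEN, AB as
hypotheses. -/

set_option autoImplicit false

namespace Cfsg.Agent.Helper4

open Cfsg Subgroup

universe u

variable {G : Type u} [Group G] [Finite G]

theorem bg83_central_cyclic_core (hG : IsMinSimpleOddOrder G) {M N : Subgroup G}
    (hN : IsCoatom N) (hc : IsComplIn (M ⊓ N) (sigmaCore N) N) (hne : sigmaCore N ≠ ⊥)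
    (hnil : Group.IsNilpotent ↥(sigmaCore M))
    (hnab : ¬ ∀ a ∈ sigmaCore M, ∀ b ∈ sigmaCore M, a * b = b * a)
    {q : ℕ} (hq : q.Prime) (Q : Subgroup G) (hQN : Q ≤ N) (hQH : Q ≤ sigmaCore M)
    (hQZ : ∀ s ∈ Q, ∀ h ∈ sigmaCore M, s * h = h * s) (hQq : IsPGroup q Q)
    (hAB : ∀ A : Subgroup G, A ≤ M ⊓ N → Group.IsNilpotent ↥A → ∀ a ∈ A, ∀ b ∈ A, a * b = b * a)
    (hCEN : (∀ a ∈ Q, ∀ b ∈ Q, a * b = b * a) → ¬ IsCyclic ↥Q → ∀ b ∈ Q, b ≠ 1 →
      sigmaCore N ⊓ centralizer ({b} : Set G) ≠ ⊥ → centralizer ({b} : Set G) ≤ N)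
    (hGEN : (∀ a ∈ Q, ∀ b ∈ Q, a * b = b * a) → ¬ IsCyclic ↥Q →
      (Nat.card (sigmaCore N)).Coprime q →
      ∃ b ∈ Q, b ≠ 1 ∧ sigmaCore N ⊓ centralizer ({b} : Set G) ≠ ⊥) : IsCyclic ↥Q := by
  by_contra hnc
  haveI : Fact q.Prime := ⟨hq⟩
  have hHM : sigmaCore M ≤ M := Cfsg.Agent.Helper23.piCoreOf_le (sigma M) M
  have hsN : sigmaCore N ≤ N := Cfsg.Agent.Helper23.piCoreOf_le (sigma N) N
  have hQMN : Q ≤ M ⊓ N := le_inf (hQH.trans hHM) hQN
  have hQab : ∀ a ∈ Q, ∀ b ∈ Q, a * b = b * a := fun a ha b hb => hQZ a ha b (hQH hb)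
  have hQ1 : Q ≠ ⊥ := by
    rintro rfl
    exact hnc isCyclic_of_subsingleton
  have hqQ : q ∣ Nat.card Q := by
    obtain ⟨n, hn⟩ := (IsPGroup.iff_card (p := q)).mp hQq
    have hn0 : n ≠ 0 := by
      rintro rfl
      rw [pow_zero] at hn
      exact hQ1 (Subgroup.card_eq_one.mp hn)
    rw [hn]
    exact dvd_pow_self q hn0
  have hcard := Cfsg.Agent.Helper23.card_of_isComplIn (M ⊓ N) (sigmaCore N) N hc
  have hHall := (Cfsg.Agent.Helper25.bg16_hall_facts hG N hN).1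
  have hrel : (sigmaCore N).relIndex N = Nat.card ↥(M ⊓ N) := by
    have h1 := Subgroup.card_mul_index ((sigmaCore N).subgroupOf N)
    have h2 : Nat.card ((sigmaCore N).subgroupOf N) = Nat.card (sigmaCore N) :=
      Nat.card_congr (Subgroup.subgroupOfEquivOfLe hsN).toEquiv
    rw [h2, hcard] at h1
    have hpos : 0 < Nat.card (sigmaCore N) := Nat.card_pos
    have h3 : ((sigmaCore N).subgroupOf N).index = Nat.card ↥(M ⊓ N) := by
      apply Nat.eq_of_mul_eq_mul_left hpos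
      rw [h1, mul_comm]
    exact h3
  have hcop : (Nat.card (sigmaCore N)).Coprime q := by
    rw [hrel] at hHall
    exact Nat.Coprime.coprime_dvd_right (hqQ.trans (Subgroup.card_dvd_of_le hQMN)) hHall
  obtain ⟨b, hb, hb1, hfix⟩ := hGEN hQab hnc hcop
  have hCN := hCEN hQab hnc b hb hb1 hfix
  have hHN : sigmaCore M ≤ N := by
    intro h hh
    apply hCN
    rw [Subgroup.mem_centralizer_iff]
    intro x hx
    rw [Set.mem_singleton_iff] at hx
    rw [hx]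
    exact hQZ b hb h hh
  exact hnab (hAB (sigmaCore M) (le_inf hHM hHN) hnil)

end Cfsg.Agent.Helper4
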