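import Mathlib
import Cfsg.Agent.Helper4.BG83CYCCore
import Cfsg.Agent.Helper81.BG83GEN
import Cfsg.Agent.Helper87.BG83AB
import Cfsg.Agent.Helper91.BG83CEN

/-! CALL BG83 (helper25), piece CYC (helper4): a `q`-subgroup of `N` central in the nonabelian
nilpotent `M_σ` is cyclic. -/

set_option autoImplicit false

namespace Cfsg.Agent.Helper4

open Cfsg Subgroup

universe u

variable {G : Type u} [Group G] [Finite G]

theorem bg83_central_cyclic (hG : IsMinSimpleOddOrder G) {M N : Subgroup G} (hM : IsCoatom M)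
    (hN : IsCoatom N) (hc : IsComplIn (M ⊓ N) (sigmaCore N) N) (hne : sigmaCore N ≠ ⊥)
    (hnil : Group.IsNilpotent ↥(sigmaCore M))
    (hnab : ¬ ∀ a ∈ sigmaCore M, ∀ b ∈ sigmaCore M, a * b = b * a)
    {q : ℕ} (hq : q.Prime) (Q : Subgroup G) (hQN : Q ≤ N) (hQH : Q ≤ sigmaCore M)
    (hQZ : ∀ s ∈ Q, ∀ h ∈ sigmaCore M, s * h = h * s) (hQq : IsPGroup q Q) : IsCyclic ↥Q := by
  have hQMN : Q ≤ M ⊓ N :=
    le_inf (hQH.trans (Cfsg.Agent.Helper23.piCoreOf_le (sigma M) M)) hQN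
  exact bg83_central_cyclic_core hG hN hc hne hnil hnab hq Q hQN hQH hQZ hQq
    (fun A hA hAn => Cfsg.Agent.Helper87.bg83_inter_abelian hG hN hc A hA hAn)
    (fun hQab hnc b hb hb1 hfix =>
      Cfsg.Agent.Helper91.bg83_cent_le hG hN hc hq Q hQMN hQq hQab hnc hb hb1 hfix)
    (fun hQab hnc hcop =>
      Cfsg.Agent.Helper81.bg83_fixed_point hq Q (sigmaCore N)
        (hQN.trans (Cfsg.Agent.Helper23.le_normalizer_piCoreOf (sigma N) N)) hQq hQab hnc hcop hne)

end Cfsg.Agent.Helper4
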