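import Mathlib
import Cfsg.Agent.Helper11.BG65CYC

/-! CALL S1390 (helper24), piece CYCS (double by helper4): with cyclic Sylow `r`-subgroups, two
elements of order `r` generate conjugate subgroups. -/

set_option autoImplicit false

namespace Cfsg.Agent.Helper4

open Cfsg Subgroup

universe u

theorem bg90_conj_of_cyclic_sylow {H : Type u} [Group H] [Finite H] {r : ℕ} [Fact r.Prime]
    (hc : ∀ P : Sylow r H, IsCyclic (P : Subgroup H)) {a b : H} (ha : orderOf a = r)
    (hb : orderOf b = r) : ∃ m : H, b ∈ zpowers (m * a * m⁻¹) := by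
  classical
  have hpa : IsPGroup r (zpowers a) := by
    apply IsPGroup.of_card (n := 1)
    rw [Nat.card_zpowers, ha, pow_one]
  have hpb : IsPGroup r (zpowers b) := by
    apply IsPGroup.of_card (n := 1)
    rw [Nat.card_zpowers, hb, pow_one]
  obtain ⟨P, hP⟩ := hpb.exists_le_sylow
  obtain ⟨Q, hQ⟩ := hpa.exists_le_sylow
  obtain ⟨m, hm⟩ := MulAction.exists_smul_eq H Q P
  have haQ : a ∈ (Q : Subgroup H) := hQ (Subgroup.mem_zpowers a)
  have hbP : b ∈ (P : Subgroup H) := hP (Subgroup.mem_zpowers b)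
  have hcP : m * a * m⁻¹ ∈ (P : Subgroup H) := by
    rw [← hm, Sylow.smul_def]
    exact ⟨a, haQ, rfl⟩
  have hoc : orderOf (m * a * m⁻¹) = r := by
    have h1 := MulEquiv.orderOf_eq (MulAut.conj m) a
    rw [MulAut.conj_apply] at h1
    rw [h1]
    exact ha
  haveI : IsCyclic ↥(P : Subgroup H) := hc P
  have heq := Cfsg.Agent.Helper11.bg65_cyc_unique (C := ↥(P : Subgroup H))
    (zpowers ⟨m * a * m⁻¹, hcP⟩) (zpowers ⟨b, hbP⟩)
    (by rw [Nat.card_zpowers, Nat.card_zpowers, Subgroup.orderOf_mk, Subgroup.orderOf_mk, hoc, hb])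
  have hmem : (⟨b, hbP⟩ : ↥(P : Subgroup H)) ∈ zpowers (⟨m * a * m⁻¹, hcP⟩ : ↥(P : Subgroup H)) := by
    rw [heq]
    exact Subgroup.mem_zpowers _
  obtain ⟨k, hk⟩ := Subgroup.mem_zpowers_iff.mp hmem
  refine ⟨m, ?_⟩
  have hk' : (m * a * m⁻¹) ^ k = b := by
    have := congrArg Subtype.val hk
    simpa using this
  rw [← hk']
  exact Subgroup.zpow_mem _ (Subgroup.mem_zpowers _) k

end Cfsg.Agent.Helper4
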