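import Mathlib
import Cfsg.Agent.Helper94.ULag

/-!
helper4: CALL S5984 piece DUAL: dual bases of a pair of complementary totally singular subspaces
of a Hermitian space.
-/

set_option autoImplicit false
open Cfsg Cfsg.Geo Matrix
open Cfsg.Agent.Helper94
open scoped MatrixGroups

namespace Cfsg.Agent.Helper4

universe u

variable {F : Type u} [Field F] {ι : Type} [Fintype ι] [DecidableEq ι]
variable {σ : F ≃+* F} {f : (ι → F) → (ι → F) → F}

theorem bu_sum_left (h : UF σ f) {κ : Type} (s : Finset κ) (c : κ → F) (v : κ → ι → F)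
    (x : ι → F) : f (∑ i ∈ s, c i • v i) x = ∑ i ∈ s, c i * f (v i) x := by
  classical
  induction s using Finset.induction_on with
  | empty => simp [h.zero_left]
  | insert a s ha ih => rw [Finset.sum_insert ha, Finset.sum_insert ha, h.add_left, h.smul_left, ih]

theorem bu_sum_right (h : UF σ f) {κ : Type} (s : Finset κ) (c : κ → F) (v : κ → ι → F)
    (x : ι → F) : f x (∑ i ∈ s, c i • v i) = ∑ i ∈ s, σ (c i) * f x (v i) := by
  classical
  induction s using Finset.induction_on with
  | empty => simp [h.zero_right]
  | insert a s ha ih => rw [Finset.sum_insert ha, Finset.sum_insert ha, h.add_right, h.smul_right, ih]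

theorem bu_repr {A : Submodule F (ι → F)} {m : ℕ} (bA : Module.Basis (Fin m) F A) {a : ι → F}
    (ha : a ∈ A) : ∃ c : Fin m → F, a = ∑ i, c i • ((bA i : A) : ι → F) := by
  refine ⟨fun i => bA.repr ⟨a, ha⟩ i, ?_⟩
  have e1 := bA.sum_repr ⟨a, ha⟩
  have e2 := congrArg (Subtype.val : A → ι → F) e1
  simp only [Submodule.coe_sum, Submodule.coe_smul] at e2
  exact e2.symm

/-- An element of `B` orthogonal to a basis of `A` is zero. -/
theorem bu_dual_inj (h : UF σ f) {A B : Submodule F (ι → F)} (p : ULagPair f A B) {m : ℕ}
    (bA : Module.Basis (Fin m) F A) {b : ι → F} (hb : b ∈ B)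
    (h0 : ∀ i, f b ((bA i : A) : ι → F) = 0) : b = 0 := by
  apply h.lp_zero_of_perp p.symm hb
  intro a ha
  obtain ⟨c, e⟩ := bu_repr bA ha
  rw [e, bu_sum_right h]
  apply Finset.sum_eq_zero
  intro i _
  rw [h0 i, mul_zero]

/-- The evaluation map of `B` against a basis of `A`. -/
noncomputable def buEval (h : UF σ f) (A B : Submodule F (ι → F)) {m : ℕ}
    (bA : Module.Basis (Fin m) F A) : B →ₗ[F] (Fin m → F) where
  toFun b := fun i => f (b : ι → F) ((bA i : A) : ι → F)
  map_add' x y := by
    funext i
    exact h.add_left _ _ _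
  map_smul' c x := by
    funext i
    simp [h.smul_left]

theorem buEval_injective (h : UF σ f) {A B : Submodule F (ι → F)} (p : ULagPair f A B) {m : ℕ}
    (bA : Module.Basis (Fin m) F A) : Function.Injective (buEval h A B bA) := by
  rw [← LinearMap.ker_eq_bot, LinearMap.ker_eq_bot']
  intro b hb
  apply Subtype.ext
  exact bu_dual_inj h p bA b.2 (fun i => congrFun hb i)

theorem bu_finrank_le (h : UF σ f) {A B : Submodule F (ι → F)} (p : ULagPair f A B) :
    Module.finrank F B ≤ Module.finrank F A := by
  have hinj := buEval_injective h p (Module.finBasisOfFinrankEq F A rfl)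
  have := LinearMap.finrank_le_finrank_of_injective hinj
  rwa [Module.finrank_fin_fun] at this

/-- DUAL -/
theorem bu_dual (h : UF σ f) {A B : Submodule F (ι → F)} (p : ULagPair f A B) {m : ℕ}
    (hm : Module.finrank F A = m) :
    ∃ a b : Fin m → ι → F, (∀ i, a i ∈ A) ∧ (∀ i, b i ∈ B) ∧
      (∀ i j, f (a i) (b j) = if i = j then 1 else 0) ∧
      (∀ v ∈ A, v = ∑ i, f v (b i) • a i) ∧ (∀ v ∈ B, v = ∑ i, f v (a i) • b i) := by
  classical
  have hB : Module.finrank F B = m :=
    le_antisymm (hm ▸ bu_finrank_le h p) (hm ▸ bu_finrank_le h p.symm)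
  let bA : Module.Basis (Fin m) F A := Module.finBasisOfFinrankEq F A hm
  have hinj := buEval_injective h p bA
  have hsurj : Function.Surjective (buEval h A B bA) :=
    (LinearMap.injective_iff_surjective_of_finrank_eq_finrank
      (by rw [hB, Module.finrank_fin_fun])).1 hinj
  choose b hb using fun j : Fin m => hsurj (Pi.single j 1)
  have hba : ∀ i j, f ((b j : B) : ι → F) ((bA i : A) : ι → F) = if i = j then 1 else 0 := by
    intro i j
    have := congrFun (hb j) i
    rw [Pi.single_apply] at this
    exact this
  have hab : ∀ i j, f ((bA i : A) : ι → F) ((b j : B) : ι → F) = if i = j then 1 else 0 := by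
    intro i j
    rw [h.herm, hba i j]
    split_ifs <;> simp
  refine ⟨fun i => ((bA i : A) : ι → F), fun j => ((b j : B) : ι → F), fun i => (bA i).2,
    fun j => (b j).2, hab, ?_, ?_⟩
  · intro v hv
    obtain ⟨c, e⟩ := bu_repr bA hv
    have hc : ∀ j, f v ((b j : B) : ι → F) = c j := by
      intro j
      rw [e, bu_sum_left h]
      simp only [hab]
      rw [Finset.sum_eq_single j]
      · simp
      · intro i _ hij
        simp [hij]
      · intro hj
        exact absurd (Finset.mem_univ j) hj
    simp only [hc]
    exact e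
  · intro v hv
    have hw : v - ∑ i, f v ((bA i : A) : ι → F) • ((b i : B) : ι → F) = 0 := by
      apply bu_dual_inj h p bA
        (B.sub_mem hv (B.sum_mem (fun i _ => B.smul_mem _ (b i).2)))
      intro j
      rw [h.sub_left, bu_sum_left h]
      simp only [hba]
      rw [Finset.sum_eq_single j]
      · simp
      · intro i _ hij
        simp [Ne.symm hij]
      · intro hj
        exact absurd (Finset.mem_univ j) hj
    exact sub_eq_zero.1 hw

end Cfsg.Agent.Helper4
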