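import Mathlib

/-! helper4: CALL S0899 piece B2c. -/

set_option autoImplicit false

namespace Cfsg.Agent.Helper4

open Cfsg

universe u

variable {G : Type u} [Group G] [Finite G] {p : ℕ} [Fact p.Prime]

/-- B2c: if `P` meets the commutator subgroup trivially then `p ∤ |G'|`. -/
theorem ftb_B2c (P : Sylow p G)
    (h : ∀ x : G, x ∈ (P : Subgroup G) → x ∈ commutator G → x = 1) :
    ¬ p ∣ Nat.card (commutator G) := by
  intro hdvd
  have hp : p.Prime := Fact.out
  obtain ⟨y, hy⟩ := exists_prime_orderOf_dvd_card' p hdvd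
  have hyo : orderOf (y : G) = p := by
    rw [Subgroup.orderOf_coe]
    exact hy
  have hz : IsPGroup p (Subgroup.zpowers (y : G)) := by
    rw [IsPGroup.iff_card]
    exact ⟨1, by rw [Nat.card_zpowers, hyo, pow_one]⟩
  obtain ⟨P', hP'⟩ := hz.exists_le_sylow
  obtain ⟨g, hg⟩ := MulAction.exists_smul_eq G P P'
  have hyP' : (y : G) ∈ (P' : Subgroup G) := hP' (Subgroup.mem_zpowers _)
  rw [← hg, Sylow.smul_def, Sylow.pointwise_smul_def,
    Subgroup.mem_pointwise_smul_iff_inv_smul_mem] at hyP'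
  have hx : g⁻¹ * (y : G) * g ∈ (P : Subgroup G) := by
    simpa [MulAut.smul_def] using hyP'
  have hxc : g⁻¹ * (y : G) * g ∈ commutator G := by
    have h' := (inferInstance : (commutator G).Normal).conj_mem (y : G) y.2 g⁻¹
    simpa using h'
  have h1 := h _ hx hxc
  have hy1 : (y : G) = 1 := by
    have e : (y : G) = g * (g⁻¹ * (y : G) * g) * g⁻¹ := by group
    rw [e, h1]
    group
  rw [hy1, orderOf_one] at hyo
  exact hp.one_lt.ne hyo

end Cfsg.Agent.Helper4
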