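import Mathlib
import Cfsg.Prelude.Def_Local

/-! helper4: CALL S0899 piece B2d. -/

set_option autoImplicit false

namespace Cfsg.Agent.Helper4

open Cfsg

universe u

variable {G : Type u} [Group G] [Finite G] {p : ℕ} [Fact p.Prime]

/-- B2d: if `G' ⊔ P = ⊤` then the index of `G'` is a power of `p`. -/
theorem ftb_B2d (P : Sylow p G) (h : commutator G ⊔ (P : Subgroup G) = ⊤) :
    ∃ m : ℕ, (commutator G).index = p ^ m := by
  have hp : p.Prime := Fact.out
  obtain ⟨k, hk⟩ := (IsPGroup.iff_card (p := p) (G := (P : Subgroup G))).1 P.isPGroup'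
  have h1 : (commutator G).index = (commutator G).relIndex (P : Subgroup G) := by
    rw [← Subgroup.relIndex_top_right, ← h, Subgroup.relIndex_sup_left]
  have h2 : (commutator G).relIndex (P : Subgroup G) ∣ p ^ k := by
    rw [← hk]
    exact Subgroup.relIndex_dvd_card _ _
  rw [h1]
  obtain ⟨m, -, hm⟩ := (Nat.dvd_prime_pow hp).1 h2
  exact ⟨m, hm⟩

end Cfsg.Agent.Helper4
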