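import Cfsg.Agent.Helper18.D4Tor2
import Cfsg.Agent.Helper18.G2Tor3
import Cfsg.Agent.Helper17.ChevUniMem

/-! helper4: CALL S4278 piece WL: the reduced words of `G₂` whose square fixes the positive system. -/

set_option autoImplicit false

namespace Cfsg.Agent.Helper4.G2O

open Cfsg Cfsg.Lie Cfsg.Agent.Helper36 Cfsg.Agent.Helper17 Cfsg.Agent.Helper18

section

/-- The thirteen alternating words are closed under reduced left multiplication. -/
theorem g2o_red13 : ∀ L ∈ ([[], [0], [1], [0, 1], [1, 0], [0, 1, 0], [1, 0, 1], [0, 1, 0, 1],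
      [1, 0, 1, 0], [0, 1, 0, 1, 0], [1, 0, 1, 0, 1], [0, 1, 0, 1, 0, 1], [1, 0, 1, 0, 1, 0]] :
      List (List ℕ)), ∀ i < 2,
    chevG2.IsPosRoot (wW chevG2 L.reverse (chevG2.simple i)) →
      (i :: L) ∈ ([[], [0], [1], [0, 1], [1, 0], [0, 1, 0], [1, 0, 1], [0, 1, 0, 1],
        [1, 0, 1, 0], [0, 1, 0, 1, 0], [1, 0, 1, 0, 1], [0, 1, 0, 1, 0, 1], [1, 0, 1, 0, 1, 0]] :
        List (List ℕ)) := by
  decide +kernel

theorem g2o_red_mem : ∀ L : List ℕ, ValidW chevG2 L → RedW chevG2 L →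
    L ∈ ([[], [0], [1], [0, 1], [1, 0], [0, 1, 0], [1, 0, 1], [0, 1, 0, 1],
      [1, 0, 1, 0], [0, 1, 0, 1, 0], [1, 0, 1, 0, 1], [0, 1, 0, 1, 0, 1], [1, 0, 1, 0, 1, 0]] :
      List (List ℕ))
  | [], _, _ => by simp
  | i :: L, hL, hred => by
    have hred' : RedW chevG2 L ∧ chevG2.IsPosRoot (wW chevG2 L.reverse (chevG2.simple i)) := hred
    have ih := g2o_red_mem L hL.tail hred'.1
    have hi : i < 2 := hL.head
    exact g2o_red13 L ih i hi hred'.2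

/-- The squares of the four rotation words move a positive root to a negative root. -/
theorem g2o_rot : ∀ L ∈ ([[0, 1], [1, 0], [0, 1, 0, 1], [1, 0, 1, 0]] : List (List ℕ)),
    ∃ s < 12, chevG2.IsPosRoot s ∧ chevG2.IsNegRoot (wW chevG2 L (wW chevG2 L s)) := by
  decide +kernel

theorem g2o_split : ∀ L ∈ ([[], [0], [1], [0, 1], [1, 0], [0, 1, 0], [1, 0, 1], [0, 1, 0, 1],
      [1, 0, 1, 0], [0, 1, 0, 1, 0], [1, 0, 1, 0, 1], [0, 1, 0, 1, 0, 1], [1, 0, 1, 0, 1, 0]] :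
      List (List ℕ)),
    L ∈ ([[], [0], [1], [0, 1, 0], [1, 0, 1], [0, 1, 0, 1, 0], [1, 0, 1, 0, 1],
      [0, 1, 0, 1, 0, 1], [1, 0, 1, 0, 1, 0]] : List (List ℕ)) ∨
    L ∈ ([[0, 1], [1, 0], [0, 1, 0, 1], [1, 0, 1, 0]] : List (List ℕ)) := by
  decide

/-- PIECE WL: the reduced words of `G₂` whose square fixes the positive system. -/
theorem g2o_words {L : List ℕ} (hL : ValidW chevG2 L) (hred : RedW chevG2 L)
    (hsq : ∀ s, chevG2.IsPosRoot s → ¬ chevG2.IsNegRoot (wW chevG2 L (wW chevG2 L s))) :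
    L ∈ [[], [0], [1], [0, 1, 0], [1, 0, 1], [0, 1, 0, 1, 0], [1, 0, 1, 0, 1],
      [0, 1, 0, 1, 0, 1], [1, 0, 1, 0, 1, 0]] := by
  rcases g2o_split L (g2o_red_mem L hL hred) with h | h
  · exact h
  · obtain ⟨s, -, hp, hn⟩ := g2o_rot L h
    exact absurd hn (hsq s hp)

end

end Cfsg.Agent.Helper4.G2O
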