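import Mathlib
import Cfsg.Agent.Helper17.GoodSyl
import Cfsg.Agent.Helper43.SylowSz
import Cfsg.Agent.Helper60.SzSimple

/-!
# Helper4: piece SZ (`goodSyl2_Sz`) of CALL S4625
-/

set_option autoImplicit false

namespace Cfsg.Agent.Helper4

open Cfsg Cfsg.Agent.Helper17 Cfsg.Agent.Helper60

open scoped commutatorElement

section

variable {F : Type*} [Field F] [CharP F 2] {n : ℕ} [SzField F n]

/-- the commutator of two elements of the unipotent subgroup -/
theorem gsz_comm (a b a' b' : F) :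
    ⁅uel F n a b, uel F n a' b'⁆ = uel F n 0 (th F n a * a' + th F n a' * a) := by
  have h2 : (2 : F) = 0 := CharP.cast_eq_zero F 2
  have key : uel F n a b * uel F n a' b' =
      uel F n 0 (th F n a * a' + th F n a' * a) * (uel F n a' b' * uel F n a b) := by
    rw [uel_mul, uel_mul, uel_mul]
    congr 1
    · ring
    · rw [map_zero]
      linear_combination (-(th F n a' * a)) * h2
  rw [commutatorElement_def, key]
  group

/-- the square of an element of the unipotent subgroup -/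
theorem gsz_sq (a b : F) : uel F n a b ^ 2 = uel F n 0 (th F n a * a) := by
  have h2 : (2 : F) = 0 := CharP.cast_eq_zero F 2
  rw [pow_two, uel_mul]
  congr 1
  · linear_combination a * h2
  · linear_combination b * h2

end

/-- PIECE SZ -/
theorem goodSyl2_Sz (F : Type) [Field F] [Fintype F] (m : ℕ) (hm : 1 ≤ m)
    (hF : Fintype.card F = 2 ^ (2 * m + 1)) : GoodSyl2 (Lie.Sz F (2 ^ (m + 1))) := by
  classical
  haveI : CharP F 2 := Cfsg.Agent.Helper43.SylowSz.charP_two_of_card_pow hF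
  haveI : SzField F (m + 1) := szField_of_card hF
  have h2 : (2 : F) = 0 := CharP.cast_eq_zero F 2
  have hq1 : 1 ≤ 2 ^ (2 * m + 1) := Nat.one_le_two_pow
  have hodd : Odd ((2 ^ (2 * m + 1) - 1) * ((2 ^ (2 * m + 1)) ^ 2 + 1)) := by
    have h1 : Odd (2 ^ (2 * m + 1) - 1) :=
      Nat.Even.sub_odd hq1 ((Nat.even_pow' (by omega)).2 even_two) odd_one
    have h3 : Odd ((2 ^ (2 * m + 1)) ^ 2 + 1) :=
      ((Nat.even_pow' (by norm_num)).2 ((Nat.even_pow' (by omega)).2 even_two)).add_one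
    exact h1.mul h3
  have hcardG : Nat.card ↥(Cfsg.Lie.Sz F (2 ^ (m + 1)))
      = 2 ^ (2 * (2 * m + 1)) * ((2 ^ (2 * m + 1) - 1) * ((2 ^ (2 * m + 1)) ^ 2 + 1)) := by
    rw [card_Sz, hF, ← pow_mul, mul_assoc]
    congr 2
    ring
  have hcardU : Nat.card ↥(Usub F (m + 1)) = 2 ^ (2 * (2 * m + 1)) := by
    rw [card_Usub, hF, ← pow_mul]
    congr 1
    ring
  haveI : Finite ↥(Cfsg.Lie.Sz F (2 ^ (m + 1))) := by
    apply Nat.finite_of_card_ne_zero
    rw [hcardG]
    have := hodd.pos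
    positivity
  refine goodSyl2_of_card (Usub F (m + 1)) _ _ hcardU hcardG hodd ?_
  intro x hx
  rw [Usub_eq hx, gsz_sq]
  generalize mat x 1 0 = a
  -- an element not fixed by the Tits endomorphism
  obtain ⟨c, hc0, hc1⟩ : ∃ c : F, c ≠ 0 ∧ c ≠ 1 := by
    by_contra hcon
    push Not at hcon
    have hsub : (Finset.univ : Finset F) ⊆ {0, 1} := by
      intro l _
      by_cases hl0 : l = 0
      · simp [hl0]
      · simp [hcon l hl0]
    have h3 := Finset.card_le_card hsub
    have h4 : ({0, 1} : Finset F).card ≤ 2 := Finset.card_le_two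
    rw [Finset.card_univ, hF] at h3
    have h5 : 2 ^ 3 ≤ 2 ^ (2 * m + 1) := Nat.pow_le_pow_right (by norm_num) (by omega)
    omega
  have hc : c + th F (m + 1) c ≠ 0 := by
    intro h0
    have h1 : th F (m + 1) c = c := by linear_combination h0 - c * h2
    have h3 : c ^ 2 = c := by
      rw [← SzField.sq (n := m + 1) c, h1, h1]
    have h4 : c * (c - 1) = 0 := by linear_combination h3
    rcases mul_eq_zero.mp h4 with h5 | h5
    · exact hc0 h5
    · exact hc1 (sub_eq_zero.mp h5)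
  -- the map `a ↦ θ(a) a` is onto
  have hsurj : ∀ s : F, ∃ a₁ : F, th F (m + 1) a₁ * a₁ = s := by
    intro s
    refine ⟨s ^ (2 ^ (m + 1) - 1), ?_⟩
    have h1 : th F (m + 1) (s ^ (2 ^ (m + 1) - 1)) = (s ^ (2 ^ (m + 1) - 1)) ^ 2 ^ (m + 1) :=
      iterateFrobenius_def _ _ _
    have hpow : 1 ≤ 2 ^ (m + 1) := Nat.one_le_two_pow
    have hexp : (2 ^ (m + 1) - 1) * 2 ^ (m + 1) + (2 ^ (m + 1) - 1) =
        Fintype.card F + (Fintype.card F - 1) := by
      rw [hF]
      have h5 : 2 ^ (2 * m + 1) = 2 ^ m * 2 ^ (m + 1) := by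
        rw [← pow_add]
        congr 1
        omega
      have h6 : 2 ^ (m + 1) = 2 * 2 ^ m := by ring
      have h7 : (2 ^ (m + 1) - 1) * 2 ^ (m + 1) = 2 ^ (m + 1) * 2 ^ (m + 1) - 2 ^ (m + 1) := by
        rw [Nat.sub_mul, one_mul]
      have h8 : 2 ^ (m + 1) * 2 ^ (m + 1) = 2 * (2 ^ m * 2 ^ (m + 1)) := by ring
      have h9 : 2 ^ (m + 1) ≤ 2 ^ m * 2 ^ (m + 1) := Nat.le_mul_of_pos_left _ (by positivity)
      rw [h7, h8, h5]
      omega
    rw [h1, ← pow_mul, ← pow_add, hexp, pow_add, FiniteField.pow_card, ← pow_succ']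
    have h10 : Fintype.card F - 1 + 1 = Fintype.card F := by
      have := Fintype.card_pos (α := F)
      omega
    rw [h10, FiniteField.pow_card]
  obtain ⟨a₁, ha₁⟩ := hsurj (th F (m + 1) a * a / (c + th F (m + 1) c))
  have hmem : ⁅uel F (m + 1) a₁ 0, uel F (m + 1) (c * a₁) 0⁆ ∈
      ⁅Usub F (m + 1), Usub F (m + 1)⁆ :=
    Subgroup.commutator_mem_commutator (uel_mem _ _) (uel_mem _ _)
  rw [gsz_comm] at hmem
  convert hmem using 2
  rw [map_mul]
  have : th F (m + 1) a * a = th F (m + 1) a₁ * a₁ * (c + th F (m + 1) c) := by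
    rw [ha₁]
    field_simp
  rw [this]
  ring

end Cfsg.Agent.Helper4
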