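import Mathlib

/-!
# Central involutions inverting a minimal normal subgroup; extending linear characters over a
complement (helper4)

* `exists_central_invol_inverting`: `G = N P`, `N` abelian of odd order, the unique minimal normal
  subgroup, `P ≠ 1` a `2`-group: some involution in `Z(P)` inverts `N`.
* `exists_hom_ne_one_of_comm`: a nontrivial element of a finite commutative group is detected by a
  linear character.
* `exists_hom_extension_of_complement`: `G = N ⋊ P`, `f : N →* ℂˣ` stabilized by `I ≥ N`: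
  `f` extends to `I`, trivially on `I ∩ P`.
-/

set_option autoImplicit false

namespace Cfsg.Agent.Helper4

theorem exists_central_invol_inverting {G : Type*} [Group G] [Finite G] (N P : Subgroup G)
    [hN : N.Normal] (hNab : ∀ a ∈ N, ∀ b ∈ N, a * b = b * a) (hNodd : Odd (Nat.card N))
    (hP : IsPGroup 2 P) (hP1 : P ≠ ⊥) (hprod : N ⊔ P = ⊤)
    (hmin : N ≠ ⊥ ∧ ∀ M : Subgroup G, M.Normal → M ≠ ⊥ → N ≤ M) :
    ∃ z ∈ P, z ≠ 1 ∧ z * z = 1 ∧ (∀ p ∈ P, p * z = z * p) ∧ ∀ n ∈ N, z * n * z⁻¹ = n⁻¹ := by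
  classical
  haveI : Fact (Nat.Prime 2) := ⟨Nat.prime_two⟩
  haveI : Nontrivial P := (Subgroup.nontrivial_iff_ne_bot P).2 hP1
  haveI : Nontrivial (Subgroup.center P) := hP.center_nontrivial
  have hZ : IsPGroup 2 (Subgroup.center P) := hP.to_subgroup _
  have h2 : 2 ∣ Nat.card (Subgroup.center P) := by
    rcases hZ.card_eq_or_dvd with h | h
    · exact absurd h (Finite.one_lt_card).ne'
    · exact h
  obtain ⟨c, hc⟩ := exists_prime_orderOf_dvd_card' 2 h2
  let z : G := ((c : P) : G)
  have hzP : z ∈ P := (c : P).2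
  have hz1 : z ≠ 1 := by
    intro h
    have : c = 1 := Subtype.ext (Subtype.ext h)
    rw [this, orderOf_one] at hc
    omega
  have hz2 : z * z = 1 := by
    have : c ^ 2 = 1 := by rw [← hc]; exact pow_orderOf_eq_one c
    have h3 : (((c ^ 2 : Subgroup.center P) : P) : G) = 1 := by rw [this]; rfl
    rw [← h3, pow_two]
    rfl
  have hzc : ∀ p ∈ P, p * z = z * p := by
    intro p hp
    have := Subgroup.mem_center_iff.1 c.2 ⟨p, hp⟩
    exact congrArg Subtype.val this
  have hzinv' : z⁻¹ = z := inv_eq_of_mul_eq_one_left hz2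
  refine ⟨z, hzP, hz1, hz2, hzc, ?_⟩
  -- the centralizer of z in N
  let M : Subgroup G := N ⊓ Subgroup.centralizer {z}
  have hMmem : ∀ h : G, h ∈ M ↔ h ∈ N ∧ z * h = h * z := by
    intro h
    show h ∈ N ∧ h ∈ Subgroup.centralizer {z} ↔ _
    rw [Subgroup.mem_centralizer_iff]
    simp
  have keyN : ∀ n ∈ N, ∀ h ∈ M, n * h * n⁻¹ ∈ M := by
    intro n hn h hh
    have hhN : h ∈ N := ((hMmem h).1 hh).1
    have : n * h * n⁻¹ = h := by rw [hNab n hn h hhN, mul_inv_cancel_right]
    rw [this]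
    exact hh
  have keyP : ∀ p ∈ P, ∀ h ∈ M, p * h * p⁻¹ ∈ M := by
    intro p hp h hh
    obtain ⟨hhN, hhz⟩ := (hMmem h).1 hh
    rw [hMmem]
    refine ⟨hN.conj_mem h hhN p, ?_⟩
    have h1 : z * p = p * z := (hzc p hp).symm
    have h2 : p⁻¹ * z = z * p⁻¹ := hzc p⁻¹ (P.inv_mem hp)
    calc z * (p * h * p⁻¹) = (z * p) * h * p⁻¹ := by group
      _ = p * (z * h) * p⁻¹ := by rw [h1]; group
      _ = p * h * (z * p⁻¹) := by rw [hhz]; group
      _ = p * h * p⁻¹ * z := by rw [← h2]; group
  have hMnormal : M.Normal := by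
    rw [← Subgroup.normalizer_eq_top_iff, eq_top_iff, ← hprod]
    refine sup_le ?_ ?_
    · intro n hn
      rw [Subgroup.mem_normalizer_iff]
      intro h
      refine ⟨keyN n hn h, fun hh => ?_⟩
      have := keyN n⁻¹ (N.inv_mem hn) _ hh
      have e : n⁻¹ * (n * h * n⁻¹) * n⁻¹⁻¹ = h := by group
      rwa [e] at this
    · intro p hp
      rw [Subgroup.mem_normalizer_iff]
      intro h
      refine ⟨keyP p hp h, fun hh => ?_⟩
      have := keyP p⁻¹ (P.inv_mem hp) _ hh
      have e : p⁻¹ * (p * h * p⁻¹) * p⁻¹⁻¹ = h := by group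
      rwa [e] at this
  have hMbot : M = ⊥ := by
    by_contra hne
    have hNM := hmin.2 M hMnormal hne
    -- z centralizes N and P, so z is central
    have hzcent : z ∈ Subgroup.center G := by
      have hle : (⊤ : Subgroup G) ≤ Subgroup.centralizer {z} := by
        rw [← hprod]
        refine sup_le ?_ ?_
        · intro n hn
          exact (inf_le_right : M ≤ Subgroup.centralizer {z}) (hNM hn)
        · intro p hp
          rw [Subgroup.mem_centralizer_iff]
          intro h hh
          rw [Set.mem_singleton_iff] at hh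
          rw [hh]
          exact (hzc p hp).symm
      rw [Subgroup.mem_center_iff]
      intro g
      have := hle (Subgroup.mem_top g)
      rw [Subgroup.mem_centralizer_iff] at this
      exact (this z rfl).symm
    have hZn : (Subgroup.zpowers z).Normal := by
      refine ⟨fun n hn g => ?_⟩
      have hnc : n ∈ Subgroup.center G := (Subgroup.zpowers_le.2 hzcent) hn
      have : g * n * g⁻¹ = n := by
        rw [Subgroup.mem_center_iff.1 hnc g, mul_inv_cancel_right]
      rw [this]
      exact hn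
    have hZne : Subgroup.zpowers z ≠ ⊥ := by
      intro h
      exact hz1 (Subgroup.zpowers_eq_bot.1 h)
    have hNZ := hmin.2 _ hZn hZne
    have hdvd : Nat.card N ∣ Nat.card (Subgroup.zpowers z) := Subgroup.card_dvd_of_le hNZ
    have hordz : orderOf z ∣ 2 := orderOf_dvd_of_pow_eq_one (by rw [pow_two]; exact hz2)
    rw [Nat.card_zpowers] at hdvd
    have hd2 : Nat.card N ∣ 2 := hdvd.trans hordz
    have hcard1 : Nat.card N = 1 := by
      rcases (Nat.dvd_prime Nat.prime_two).1 hd2 with h | h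
      · exact h
      · rw [h] at hNodd
        exact absurd hNodd (by decide)
    exact hmin.1 (Subgroup.card_eq_one.1 hcard1)
  intro n hn
  have hconj : z * n * z⁻¹ ∈ N := hN.conj_mem n hn z
  have hcM : n * (z * n * z⁻¹) ∈ M := by
    rw [hMmem]
    refine ⟨N.mul_mem hn hconj, ?_⟩
    calc z * (n * (z * n * z⁻¹)) = (z * n * z⁻¹) * (z * z) * n * z⁻¹ := by group
      _ = ((z * n * z⁻¹) * n) * z⁻¹ := by rw [hz2, mul_one]
      _ = (n * (z * n * z⁻¹)) * z⁻¹ := by rw [hNab _ hconj _ hn]
      _ = n * (z * n * z⁻¹) * z := by rw [hzinv']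
  rw [hMbot, Subgroup.mem_bot] at hcM
  exact eq_inv_of_mul_eq_one_right hcM

theorem exists_hom_ne_one_of_comm {H : Type*} [Group H] [Finite H]
    (hcomm : ∀ a b : H, a * b = b * a) {a : H} (ha : a ≠ 1) : ∃ f : H →* ℂˣ, f a ≠ 1 := by
  letI : CommGroup H := { (inferInstance : Group H) with mul_comm := hcomm }
  exact CommGroup.exists_apply_ne_one_of_hasEnoughRootsOfUnity H ℂ ha

theorem exists_hom_extension_of_complement {G : Type*} [Group G] (N P I : Subgroup G)
    [hN : N.Normal] (hdisj : N ⊓ P = ⊥) (hprod : N ⊔ P = ⊤) (hNI : N ≤ I) (f : N →* ℂˣ)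
    (hI : ∀ g ∈ I, ∀ n : N, f ⟨g * n * g⁻¹, hN.conj_mem n n.2 g⟩ = f n) :
    ∃ μ : I →* ℂˣ, ∀ (n : N) (t : G) (_ : t ∈ P) (h : (n : G) * t ∈ I), μ ⟨n * t, h⟩ = f n := by
  classical
  have hdec : ∀ g : G, ∃ n : N, (n : G)⁻¹ * g ∈ P := by
    intro g
    have hg : g ∈ ((N ⊔ P : Subgroup G) : Set G) := by rw [hprod]; trivial
    rw [Subgroup.normal_mul] at hg
    obtain ⟨n, hn, t, ht, rfl⟩ := Set.mem_mul.1 hg
    exact ⟨⟨n, hn⟩, by simpa using ht⟩
  choose a ha using hdec
  have huniq : ∀ (n : N) (t : G), t ∈ P → a ((n : G) * t) = n := by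
    intro n t ht
    have h1 := ha ((n : G) * t)
    have h2 : ((a ((n : G) * t) : N) : G)⁻¹ * (n : G) ∈ N ⊓ P := by
      refine ⟨N.mul_mem (N.inv_mem (a _).2) n.2, ?_⟩
      have : ((a ((n : G) * t) : N) : G)⁻¹ * (n : G)
          = (((a ((n : G) * t) : N) : G)⁻¹ * ((n : G) * t)) * t⁻¹ := by group
      rw [this]
      exact P.mul_mem h1 (P.inv_mem ht)
    rw [hdisj, Subgroup.mem_bot] at h2
    apply Subtype.ext
    have := eq_of_inv_mul_eq_one h2
    exact this
  have hmul : ∀ x y : G, x ∈ I →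
      f (a (x * y)) = f (a x) * f (a y) := by
    intro x y hx
    set tx : G := ((a x : N) : G)⁻¹ * x with htx
    set ty : G := ((a y : N) : G)⁻¹ * y with hty
    have htxP : tx ∈ P := ha x
    have htyP : ty ∈ P := ha y
    have htxI : tx ∈ I := I.mul_mem (I.inv_mem (hNI (a x).2)) hx
    have hxy : x * y = (((a x : N) * (⟨tx * (a y : N) * tx⁻¹, hN.conj_mem _ (a y).2 tx⟩ : N) : N) : G)
        * (tx * ty) := by
      show x * y = ((a x : N) : G) * (tx * ((a y : N) : G) * tx⁻¹) * (tx * ty)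
      rw [htx, hty]
      group
    rw [hxy, huniq _ _ (P.mul_mem htxP htyP), map_mul, hI tx htxI]
  refine ⟨{ toFun := fun x => f (a (x : G)), map_one' := ?_, map_mul' := ?_ }, ?_⟩
  · show f (a ((1 : I) : G)) = 1
    have : a ((1 : I) : G) = 1 := by
      have := huniq 1 1 P.one_mem
      simpa using this
    rw [this, map_one]
  · intro x y
    exact hmul x y x.2
  · intro n t ht h
    show f (a ((n : G) * t)) = f n
    rw [huniq n t ht]

end Cfsg.Agent.Helper4
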