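import Mathlib

/-! CALL LM (helper21, row S4067), piece CENT (helper4): a commutator subgroup whose order is the
least prime divisor of `|G|` is central. -/

set_option autoImplicit false

namespace Cfsg.Agent.Helper4.LM

theorem lm_cent {G : Type*} [Group G] [Finite G]
    (hc : Nat.card (commutator G) = (Nat.card G).minFac) :
    commutator G ≤ Subgroup.center G := by
  classical
  intro n hn
  rw [Subgroup.mem_center_iff]
  by_cases hn1 : n = 1
  · intro g
    rw [hn1, mul_one, one_mul]
  have hnormal : (commutator G).Normal := inferInstance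
  haveI : Finite (ConjAct G) := ‹Finite G›
  have horb : MulAction.orbit (ConjAct G) n ⊆ ((commutator G : Set G) \ {1}) := by
    rintro _ ⟨g, rfl⟩
    refine ⟨?_, ?_⟩
    · show g • n ∈ commutator G
      rw [ConjAct.smul_def]
      exact hnormal.conj_mem n hn _
    · show g • n ∉ ({1} : Set G)
      rw [ConjAct.smul_def, Set.mem_singleton_iff]
      intro h
      apply hn1
      have h2 : n = (ConjAct.ofConjAct g)⁻¹ * (ConjAct.ofConjAct g * n * (ConjAct.ofConjAct g)⁻¹) *
          ConjAct.ofConjAct g := by group
      rw [h2, h]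
      group
  have hcard : (MulAction.orbit (ConjAct G) n).ncard ≤ (Nat.card G).minFac - 1 := by
    calc (MulAction.orbit (ConjAct G) n).ncard
        ≤ ((commutator G : Set G) \ {1}).ncard := Set.ncard_le_ncard horb (Set.toFinite _)
      _ = (commutator G : Set G).ncard - 1 :=
          Set.ncard_diff_singleton_of_mem (Subgroup.one_mem _)
      _ = (Nat.card G).minFac - 1 := by
          rw [← hc]
          rfl
  have hidx := MulAction.index_stabilizer (ConjAct G) n
  have hdvd : (MulAction.stabilizer (ConjAct G) n).index ∣ Nat.card G :=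
    Subgroup.index_dvd_card (MulAction.stabilizer (ConjAct G) n)
  have h1 : (MulAction.stabilizer (ConjAct G) n).index = 1 := by
    by_contra hne
    have hpos : (MulAction.stabilizer (ConjAct G) n).index ≠ 0 := Subgroup.index_ne_zero_of_finite
    have h2 : 2 ≤ (MulAction.stabilizer (ConjAct G) n).index := by omega
    have h3 := Nat.minFac_le_of_dvd h2 hdvd
    have h4 : 0 < (Nat.card G).minFac := Nat.minFac_pos _
    omega
  have htop : MulAction.stabilizer (ConjAct G) n = ⊤ := Subgroup.index_eq_one.mp h1
  intro g
  have hmem : ConjAct.toConjAct g⁻¹ ∈ MulAction.stabilizer (ConjAct G) n := by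
    rw [htop]
    trivial
  rw [MulAction.mem_stabilizer_iff, ConjAct.smul_def, ConjAct.ofConjAct_toConjAct] at hmem
  -- g⁻¹ * n * g⁻¹⁻¹ = n
  calc g * n = g * (g⁻¹ * n * g⁻¹⁻¹) := by rw [hmem]
    _ = n * g := by group

end Cfsg.Agent.Helper4.LM
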