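import Mathlib
import Cfsg.Prelude.Def_Characters
import Cfsg.Agent.Helper75.CliffordCorr
import Cfsg.Agent.Helper75.Ito
import Cfsg.Agent.Helper15.RamGen
import Cfsg.Agent.Helper15.Gallagher2
import Cfsg.Agent.Helper79.Quotient
import Cfsg.Agent.Helper3.BrauerPerm2

/-!
# Real characters over a character of a normal subgroup of odd index (helper4)

`N` normal of odd index in `G`.

* `oddReal_classInner_restrict_odd`: two irreducible characters of `G` lying over the same
  `φ ∈ Irr(N)` have `[χ₁|N, χ₂|N]` an odd natural number.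
* `oddReal_irr_eq_one_of_real`: a real-valued irreducible character of `G` with `N` in its kernel
  is trivial.
* `oddReal_sum_restrict_irr`: `|N|⁻¹ ∑_{n ∈ N} γ(n)` is `γ(1)` or `0`.
* `oddReal_irr_unique`: two real-valued irreducible characters of `G` over the same `φ` are equal.
-/

set_option autoImplicit false

namespace Cfsg.Agent.Helper4

open Cfsg
open scoped ComplexConjugate

variable {G : Type*} [Group G] [Fintype G]

theorem oddReal_card_smul_restrict {N : Subgroup G} [hN : N.Normal] [Fintype N] {χ : G → ℂ}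
    (hχ : IsIrrCharacter G χ) {φ : N → ℂ} (hφ : IsIrrCharacter N φ)
    (hne : classInner (fun n : N => χ n) φ ≠ 0) :
    (Nat.card {g : G // Helper75.conjFun N g φ = φ} : ℂ) • (fun n : N => χ n)
      = classInner (fun n : N => χ n) φ • ∑ x : G, Helper75.conjFun N x φ := by
  have h1 := Helper75.clifford_restrict N hχ hφ hne
  generalize classInner (fun n : N => χ n) φ = e at h1 ⊢
  rw [Helper75.sum_conjFun_eq, h1]
  exact smul_comm _ _ _

theorem oddReal_classInner_restrict_odd {N : Subgroup G} [hN : N.Normal] [Fintype N]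
    (hodd : Odd N.index) {χ₁ χ₂ : G → ℂ} (h₁ : IsIrrCharacter G χ₁) (h₂ : IsIrrCharacter G χ₂)
    {φ : N → ℂ} (hφ : IsIrrCharacter N φ)
    (hne₁ : classInner (fun n : N => χ₁ n) φ ≠ 0) (hne₂ : classInner (fun n : N => χ₂ n) φ ≠ 0) :
    ∃ d : ℕ, Odd d ∧ classInner (fun n : N => χ₁ n) (fun n : N => χ₂ n) = (d : ℂ) := by
  classical
  have hc₁ := Helper79.isCharacter_restrict (Helper79.isCharacter_of_irr h₁) N
  have hc₂ := Helper79.isCharacter_restrict (Helper79.isCharacter_of_irr h₂) N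
  obtain ⟨m₁, hm₁⟩ := Helper75.exists_nat_mult hc₁
  obtain ⟨m₂, hm₂⟩ := Helper75.exists_nat_mult hc₂
  have he₁ : classInner (fun n : N => χ₁ n) φ = (m₁ ⟨φ, hφ⟩ : ℂ) := hm₁ ⟨φ, hφ⟩
  have he₂ : classInner (fun n : N => χ₂ n) φ = (m₂ ⟨φ, hφ⟩ : ℂ) := hm₂ ⟨φ, hφ⟩
  obtain ⟨k₁, hk₁, hk₁d⟩ := Helper15.degree_eq_mul_of_constituent N χ₁ h₁ φ hφ hne₁
  obtain ⟨k₂, hk₂, hk₂d⟩ := Helper15.degree_eq_mul_of_constituent N χ₂ h₂ φ hφ hne₂
  have hR₁ := oddReal_card_smul_restrict h₁ hφ hne₁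
  have hR₂ := oddReal_card_smul_restrict h₂ hφ hne₂
  set tT : ℕ := Nat.card {g : G // Helper75.conjFun N g φ = φ} with htT
  have hφ1 : φ 1 ≠ 0 := Helper80.irr_one_ne_zero ⟨φ, hφ⟩
  have hconj1 : ∀ x : G, Helper75.conjFun N x φ 1 = φ 1 := by
    intro x
    rw [Helper75.conjFun_apply]
    congr 1
    apply Subtype.ext
    simp
  have hev : ∀ (χ : G → ℂ) (m k : ℕ),
      (tT : ℂ) • (fun n : N => χ n) = (m : ℂ) • ∑ x : G, Helper75.conjFun N x φ →
      χ 1 = k * φ 1 → tT * k = m * Nat.card G := by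
    intro χ m k h hk
    have h1 := congrFun h 1
    rw [Pi.smul_apply, Pi.smul_apply, Finset.sum_apply, smul_eq_mul, smul_eq_mul] at h1
    simp_rw [hconj1] at h1
    rw [Finset.sum_const, Finset.card_univ, nsmul_eq_mul, ← Nat.card_eq_fintype_card] at h1
    have h2 : ((tT * k : ℕ) : ℂ) * φ 1 = ((m * Nat.card G : ℕ) : ℂ) * φ 1 := by
      push_cast
      have h3 : χ ((1 : N) : G) = k * φ 1 := hk
      rw [h3] at h1
      linear_combination h1
    exact_mod_cast mul_right_cancel₀ hφ1 h2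
  rw [he₁] at hR₁
  rw [he₂] at hR₂
  have hA₁ := hev χ₁ _ k₁ hR₁ hk₁
  have hA₂ := hev χ₂ _ k₂ hR₂ hk₂
  have hinv : ∀ x : G, Helper75.conjFun N x (fun n : N => χ₁ n) = fun n : N => χ₁ n := by
    intro x
    funext n
    rw [Helper75.conjFun_apply]
    exact Helper75.isCharacter_isClassFunction' (Helper79.isCharacter_of_irr h₁) n x
  have hD : (tT : ℂ) * classInner (fun n : N => χ₁ n) (fun n : N => χ₂ n)
      = (m₁ ⟨φ, hφ⟩ : ℂ) * (m₂ ⟨φ, hφ⟩ : ℂ) * (Nat.card G : ℂ) := by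
    have h1 : classInner (fun n : N => χ₁ n) ((tT : ℂ) • (fun n : N => χ₂ n))
        = (tT : ℂ) * classInner (fun n : N => χ₁ n) (fun n : N => χ₂ n) := by
      rw [Helper75.classInner_smul_right, Complex.conj_natCast]
    rw [← h1, hR₂, Helper75.classInner_smul_right, Complex.conj_natCast,
      Helper75.classInner_sum_right]
    have h2 : ∀ x : G, classInner (fun n : N => χ₁ n) (Helper75.conjFun N x φ)
        = (m₁ ⟨φ, hφ⟩ : ℂ) := by
      intro x
      have := Helper75.classInner_conjFun N x (fun n : N => χ₁ n) φ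
      rw [hinv x] at this
      rw [this, he₁]
    simp_rw [h2]
    rw [Finset.sum_const, Finset.card_univ, nsmul_eq_mul, ← Nat.card_eq_fintype_card]
    ring
  have htT0 : tT ≠ 0 := by
    have : Nonempty {g : G // Helper75.conjFun N g φ = φ} := ⟨⟨1, Helper75.conjFun_one N φ⟩⟩
    exact Nat.card_pos.ne'
  refine ⟨m₁ ⟨φ, hφ⟩ * k₂, ?_, ?_⟩
  · have hk₂odd : Odd k₂ := Odd.of_dvd_nat hodd hk₂d
    have hk₁odd : Odd k₁ := Odd.of_dvd_nat hodd hk₁d
    have hcard : tT = Nat.card (Helper75.inertia N φ) :=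
      Nat.card_congr (Equiv.subtypeEquivRight (fun g => (Helper75.mem_inertia N φ g).symm))
    obtain ⟨c, hc⟩ := Subgroup.card_subgroup_dvd_card (Helper75.inertia N φ)
    rw [← hcard] at hc
    rw [hc] at hA₁
    have hk₁eq : k₁ = m₁ ⟨φ, hφ⟩ * c := by
      have : tT * k₁ = tT * (m₁ ⟨φ, hφ⟩ * c) := by rw [hA₁]; ring
      exact Nat.eq_of_mul_eq_mul_left (Nat.pos_of_ne_zero htT0) this
    have hm₁odd : Odd (m₁ ⟨φ, hφ⟩) := Odd.of_dvd_nat hk₁odd ⟨c, hk₁eq⟩
    exact hm₁odd.mul hk₂odd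
  · have h3 : (tT : ℂ) * classInner (fun n : N => χ₁ n) (fun n : N => χ₂ n)
        = (tT : ℂ) * ((m₁ ⟨φ, hφ⟩ * k₂ : ℕ) : ℂ) := by
      rw [hD]
      have h4 : ((tT * k₂ : ℕ) : ℂ) = ((m₂ ⟨φ, hφ⟩ * Nat.card G : ℕ) : ℂ) := by rw [hA₂]
      push_cast at h4 ⊢
      linear_combination (-(m₁ ⟨φ, hφ⟩ : ℂ)) * h4
    exact mul_left_cancel₀ (by exact_mod_cast htT0) h3

omit [Fintype G] in
theorem oddReal_irr_eq_one_of_real [Finite G] {N : Subgroup G} [hN : N.Normal] (hodd : Odd N.index)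
    (γ : IrrCharacter G) (hreal : ∀ g, conj ((γ : G → ℂ) g) = (γ : G → ℂ) g)
    (hker : ∀ x ∈ N, (γ : G → ℂ) x = (γ : G → ℂ) 1) : (γ : G → ℂ) = fun _ => 1 := by
  obtain ⟨ψ, hψ, hψg⟩ := Helper79.exists_irr_deflation N γ.2 hker
  have hq : Odd (Nat.card (G ⧸ N)) := by rw [← Subgroup.index_eq_card]; exact hodd
  have h1 := Cfsg.Agent.Helper3.irr_eq_one_of_real_of_odd hq ⟨ψ, hψ⟩ (by
    intro q
    obtain ⟨g, rfl⟩ := QuotientGroup.mk_surjective q
    show (ψ (g : G ⧸ N)).im = 0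
    rw [hψg]
    exact Complex.conj_eq_iff_im.1 (hreal g))
  funext g
  rw [← hψg g]
  exact congrFun h1 _

theorem oddReal_sum_restrict_irr {N : Subgroup G} [hN : N.Normal] [Fintype N] (γ : IrrCharacter G)
    [Decidable (∀ x ∈ N, (γ : G → ℂ) x = (γ : G → ℂ) 1)] :
    (Nat.card N : ℂ)⁻¹ * ∑ n : N, (γ : G → ℂ) n
      = if (∀ x ∈ N, (γ : G → ℂ) x = (γ : G → ℂ) 1) then (γ : G → ℂ) 1 else 0 := by
  have hN0 : (Nat.card N : ℂ) ≠ 0 := by exact_mod_cast Nat.card_pos.ne'
  split_ifs with h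
  · have h1 : ∀ n : N, (γ : G → ℂ) n = (γ : G → ℂ) 1 := fun n => h n n.2
    simp_rw [h1]
    rw [Finset.sum_const, Finset.card_univ, nsmul_eq_mul, ← Nat.card_eq_fintype_card,
      ← mul_assoc, inv_mul_cancel₀ hN0, one_mul]
  · have h1 := (Helper15.inner_ind_one_ne_zero_iff N γ.2).not.2 h
    rw [not_not, Helper3.frobenius_reciprocity N _ _
      (Helper75.isCharacter_isClassFunction' (Helper79.isCharacter_of_irr γ.2))] at h1
    unfold classInner at h1
    have h2 : conj ((Nat.card N : ℂ)⁻¹ * ∑ n : N, (γ : G → ℂ) n) = 0 := by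
      rw [map_mul, map_inv₀, Complex.conj_natCast, map_sum]
      simpa using h1
    exact (map_eq_zero (starRingEnd ℂ)).mp h2

theorem oddReal_irr_unique {N : Subgroup G} [hN : N.Normal] [Fintype N] (hodd : Odd N.index)
    (χ₁ χ₂ : IrrCharacter G) (hr₁ : ∀ g, conj ((χ₁ : G → ℂ) g) = (χ₁ : G → ℂ) g)
    (hr₂ : ∀ g, conj ((χ₂ : G → ℂ) g) = (χ₂ : G → ℂ) g)
    {φ : N → ℂ} (hφ : IsIrrCharacter N φ)
    (hne₁ : classInner (fun n : N => (χ₁ : G → ℂ) n) φ ≠ 0)
    (hne₂ : classInner (fun n : N => (χ₂ : G → ℂ) n) φ ≠ 0) : χ₁ = χ₂ := by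
  classical
  letI : Fintype (IrrCharacter G) := Fintype.ofFinite _
  by_contra hne
  obtain ⟨d, hdodd, hD⟩ := oddReal_classInner_restrict_odd hodd χ₁.2 χ₂.2 hφ hne₁ hne₂
  set F : G → ℂ := (χ₁ : G → ℂ) * (χ₂ : G → ℂ) with hF
  have hFc : IsCharacter G F :=
    Helper79.isCharacter_mul (Helper79.isCharacter_of_irr χ₁.2) (Helper79.isCharacter_of_irr χ₂.2)
  obtain ⟨m, hm⟩ := Helper75.exists_nat_mult hFc
  have hsum := Helper75.character_eq_sum_irr hFc
  have hFreal : ∀ g, conj (F g) = F g := by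
    intro g
    rw [hF, Pi.mul_apply, map_mul, hr₁, hr₂]
  have hD2 : classInner (fun n : N => (χ₁ : G → ℂ) n) (fun n : N => (χ₂ : G → ℂ) n)
      = (Nat.card N : ℂ)⁻¹ * ∑ n : N, F n := by
    unfold classInner
    congr 1
    apply Finset.sum_congr rfl
    intro n _
    rw [hr₂]
    rfl
  have hD3 : (Nat.card N : ℂ)⁻¹ * ∑ n : N, F n
      = ∑ γ : IrrCharacter G, (m γ : ℂ) *
          (if (∀ x ∈ N, (γ : G → ℂ) x = (γ : G → ℂ) 1) then (γ : G → ℂ) 1 else 0) := by
    have h1 : ∀ n : N, F n = ∑ γ : IrrCharacter G, (m γ : ℂ) * (γ : G → ℂ) n := by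
      intro n
      have h2 := congrFun hsum (n : G)
      rw [Finset.sum_apply] at h2
      rw [h2]
      apply Finset.sum_congr rfl
      intro γ _
      rw [Pi.smul_apply, smul_eq_mul, hm γ]
    simp_rw [h1]
    rw [Finset.sum_comm, Finset.mul_sum]
    apply Finset.sum_congr rfl
    intro γ _
    rw [← Finset.mul_sum, ← oddReal_sum_restrict_irr γ]
    ring
  set B : Finset (IrrCharacter G) :=
    Finset.univ.filter (fun γ => ∀ x ∈ N, (γ : G → ℂ) x = (γ : G → ℂ) 1) with hB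
  have hnat : d = ∑ γ ∈ B, m γ * charDegree (γ : G → ℂ) := by
    have h1 : (d : ℂ) = ((∑ γ ∈ B, m γ * charDegree (γ : G → ℂ) : ℕ) : ℂ) := by
      rw [← hD, hD2, hD3, hB, Finset.sum_filter, Nat.cast_sum]
      apply Finset.sum_congr rfl
      intro γ _
      split_ifs with h
      · rw [Helper80.irr_one_eq]
        push_cast
        ring
      · simp
    exact_mod_cast h1
  have htrivB : Helper80.trivIrr G ∈ B := by
    rw [hB, Finset.mem_filter]
    exact ⟨Finset.mem_univ _, fun x _ => rfl⟩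
  have hmtriv : m (Helper80.trivIrr G) = 0 := by
    have h1 := hm (Helper80.trivIrr G)
    have h2 : classInner F (Helper80.trivIrr G : G → ℂ)
        = classInner (χ₁ : G → ℂ) (χ₂ : G → ℂ) := by
      unfold classInner
      congr 1
      apply Finset.sum_congr rfl
      intro g _
      rw [Helper80.trivIrr_apply, map_one, mul_one, hr₂]
      rfl
    rw [h2, Helper75.classInner_irr χ₁ χ₂, if_neg hne] at h1
    exact_mod_cast h1.symm
  have hmconj : ∀ γ : IrrCharacter G, m (Helper3.conjIrr γ) = m γ := by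
    intro γ
    have h1 := hm (Helper3.conjIrr γ)
    have h2 : classInner F (Helper3.conjIrr γ : G → ℂ) = conj (classInner F (γ : G → ℂ)) := by
      unfold classInner
      rw [map_mul, map_inv₀, Complex.conj_natCast, map_sum]
      congr 1
      apply Finset.sum_congr rfl
      intro g _
      rw [map_mul, hFreal, Helper3.conjIrr_apply]
    rw [h2, hm γ, Complex.conj_natCast] at h1
    exact_mod_cast h1.symm
  have hdconj : ∀ γ : IrrCharacter G,
      charDegree (Helper3.conjIrr γ : G → ℂ) = charDegree (γ : G → ℂ) := by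
    intro γ
    have h1 := Helper80.irr_one_eq (Helper3.conjIrr γ)
    rw [Helper3.conjIrr_apply, Helper80.irr_one_eq γ, Complex.conj_natCast] at h1
    exact_mod_cast h1.symm
  have hzmod : ((∑ γ ∈ B.erase (Helper80.trivIrr G), m γ * charDegree (γ : G → ℂ) : ℕ) : ZMod 2)
      = 0 := by
    rw [Nat.cast_sum]
    apply Finset.sum_involution (fun γ _ => Helper3.conjIrr γ)
    · intro γ _
      rw [hmconj, hdconj]
      exact CharTwo.add_self_eq_zero _
    · intro γ hγ _ hfix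
      have hγB := Finset.mem_erase.1 hγ
      have hreal : ∀ g, conj ((γ : G → ℂ) g) = (γ : G → ℂ) g :=
        fun g => congrFun (congrArg Subtype.val hfix) g
      have h1 := oddReal_irr_eq_one_of_real hodd γ hreal ((Finset.mem_filter.1 hγB.2).2)
      exact hγB.1 (Subtype.ext h1)
    · intro γ hγ
      have hγB := Finset.mem_erase.1 hγ
      rw [Finset.mem_erase]
      constructor
      · intro h1
        apply hγB.1
        have h2 := congrArg Helper3.conjIrr h1
        rw [Helper3.conjIrr_conjIrr] at h2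
        rw [h2]
        apply Subtype.ext
        funext g
        simp [Helper3.conjIrr_apply]
      · rw [hB, Finset.mem_filter]
        refine ⟨Finset.mem_univ _, fun x hx => ?_⟩
        rw [Helper3.conjIrr_apply, Helper3.conjIrr_apply, (Finset.mem_filter.1 hγB.2).2 x hx]
    · intro γ _
      exact Helper3.conjIrr_conjIrr γ
  have hd0 : (d : ZMod 2) = 0 := by
    rw [hnat, ← Finset.add_sum_erase B _ htrivB, Nat.cast_add, hzmod, hmtriv]
    simp
  rw [ZMod.natCast_eq_zero_iff_even] at hd0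
  exact (Nat.not_even_iff_odd.2 hdodd) hd0

end Cfsg.Agent.Helper4
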