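import Mathlib
import Cfsg.Agent.Helper13.SuBlk

set_option autoImplicit false

namespace Cfsg.Agent.Helper4

open Matrix
open Cfsg.Agent.Helper5 (frobQ frobQ_apply frobQ_frobQ)
open Cfsg.Agent.Helper99 (suH suG suAct suEl)
open Cfsg.Agent.Helper13 (bVec suBlk suLv BlkU)

variable {K : Type*} [Field K] [Fintype K] {q : ℕ}

/-- PIECE H2 (conjugator for m = 2). -/
theorem su5_conj (hK : Fintype.card K = q ^ 2) (p : ℕ) [Fact p.Prime] [CharP K p]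
    (σ : K) (hσ : σ ≠ 0) (a₀ c : K) (ha₀ : a₀ ≠ 0)
    (hc : c + frobQ hK c + a₀ * frobQ hK a₀ = 0)
    (X Y : Matrix.SpecialLinearGroup (Fin 2) K) (hX : X.1 = !![1, 1; 0, 1])
    (hY : Y.1 = !![1, 0; -σ, 1]) :
    ∃ (h : ↥(suG hK (2 * 2 + 1))) (a₁ : K), a₁ ≠ 0 ∧
      c + frobQ hK c + a₁ * frobQ hK a₁ = 0 ∧
      h * (suLv hK 2 X * suEl hK (bVec (Pi.single 1 1) 0 0) (bVec 0 0 a₀) c) * h⁻¹ =
        suLv hK 2 Y * suEl hK (bVec 0 (Pi.single 1 1) 0) (bVec 0 0 a₁) c := by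
  classical
  have hfσ : frobQ hK σ * frobQ hK σ⁻¹ = 1 := by
    rw [← map_mul, mul_inv_cancel₀ hσ, map_one]
  have hfσ0 : frobQ hK σ ≠ 0 := by
    intro h0
    rw [h0, zero_mul] at hfσ
    exact zero_ne_one hfσ
  have h11 : (!![frobQ hK σ, 0; 0, 1] : Matrix (Fin 2) (Fin 2) K)ᵀ *
      (0 : Matrix (Fin 2) (Fin 2) K).map (frobQ hK) +
      (0 : Matrix (Fin 2) (Fin 2) K)ᵀ * (!![frobQ hK σ, 0; 0, 1] : Matrix (Fin 2) (Fin 2) K).map
        (frobQ hK) = 0 := by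
    ext i j
    fin_cases i <;> fin_cases j <;> simp [Matrix.mul_apply, Fin.sum_univ_two]
  have h12 : (!![frobQ hK σ, 0; 0, 1] : Matrix (Fin 2) (Fin 2) K)ᵀ *
      (!![σ⁻¹, 0; 0, 1] : Matrix (Fin 2) (Fin 2) K).map (frobQ hK) +
      (0 : Matrix (Fin 2) (Fin 2) K)ᵀ * (0 : Matrix (Fin 2) (Fin 2) K).map (frobQ hK) = 1 := by
    ext i j
    fin_cases i <;> fin_cases j <;> simp [Matrix.mul_apply, Fin.sum_univ_two, hfσ0]
  have h21 : (0 : Matrix (Fin 2) (Fin 2) K)ᵀ * (0 : Matrix (Fin 2) (Fin 2) K).map (frobQ hK) +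
      (!![σ⁻¹, 0; 0, 1] : Matrix (Fin 2) (Fin 2) K)ᵀ *
        (!![frobQ hK σ, 0; 0, 1] : Matrix (Fin 2) (Fin 2) K).map (frobQ hK) = 1 := by
    ext i j
    fin_cases i <;> fin_cases j <;>
      simp [Matrix.mul_apply, Fin.sum_univ_two, frobQ_frobQ, inv_mul_cancel₀ hσ]
  have h22 : (0 : Matrix (Fin 2) (Fin 2) K)ᵀ *
      (!![σ⁻¹, 0; 0, 1] : Matrix (Fin 2) (Fin 2) K).map (frobQ hK) +
      (!![σ⁻¹, 0; 0, 1] : Matrix (Fin 2) (Fin 2) K)ᵀ *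
        (0 : Matrix (Fin 2) (Fin 2) K).map (frobQ hK) = 0 := by
    ext i j
    fin_cases i <;> fin_cases j <;> simp [Matrix.mul_apply, Fin.sum_univ_two]
  have hU := Cfsg.Agent.Helper13.blkU_of_unitary hK h11 h12 h21 h22
  obtain ⟨δ, hδ⟩ : ∃ δ : K, δ = frobQ hK (fromBlocks (0 : Matrix (Fin 2) (Fin 2) K)
      (!![σ⁻¹, 0; 0, 1] : Matrix (Fin 2) (Fin 2) K)
      (!![frobQ hK σ, 0; 0, 1] : Matrix (Fin 2) (Fin 2) K) 0).det := ⟨_, rfl⟩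
  rw [← hδ] at hU
  have hδ1 : δ * frobQ hK δ = 1 := hU.hs
  have hδ0 : δ ≠ 0 := by
    intro h0
    rw [h0, zero_mul] at hδ1
    exact zero_ne_one hδ1
  -- inverse transposes
  have hXi : ((X⁻¹ : Matrix.SpecialLinearGroup (Fin 2) K).1.map (frobQ hK))ᵀ =
      !![1, 0; -1, 1] := by
    have : (X⁻¹ : Matrix.SpecialLinearGroup (Fin 2) K).1 = Matrix.adjugate X.1 :=
      Matrix.SpecialLinearGroup.coe_inv X
    rw [this, hX, Matrix.adjugate_fin_two_of]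
    ext i j
    fin_cases i <;> fin_cases j <;> simp
  have hYi : ((Y⁻¹ : Matrix.SpecialLinearGroup (Fin 2) K).1.map (frobQ hK))ᵀ =
      !![1, frobQ hK σ; 0, 1] := by
    have : (Y⁻¹ : Matrix.SpecialLinearGroup (Fin 2) K).1 = Matrix.adjugate Y.1 :=
      Matrix.SpecialLinearGroup.coe_inv Y
    rw [this, hY, Matrix.adjugate_fin_two_of]
    ext i j
    fin_cases i <;> fin_cases j <;> simp
  have hI : (!![σ⁻¹, 0; 0, 1] : Matrix (Fin 2) (Fin 2) K) * !![1, 0; -1, 1] =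
      !![1, 0; -σ, 1] * !![σ⁻¹, 0; 0, 1] := by
    ext i j
    fin_cases i <;> fin_cases j <;>
      simp [Matrix.mul_apply, Fin.sum_univ_two, mul_inv_cancel₀ hσ]
  have hII : (!![frobQ hK σ, 0; 0, 1] : Matrix (Fin 2) (Fin 2) K) * !![1, 1; 0, 1] =
      !![1, frobQ hK σ; 0, 1] * !![frobQ hK σ, 0; 0, 1] := by
    ext i j
    fin_cases i <;> fin_cases j <;> simp [Matrix.mul_apply, Fin.sum_univ_two]
  -- the conjugator
  have hcomm : suBlk hK (0 : Matrix (Fin 2) (Fin 2) K) !![σ⁻¹, 0; 0, 1] !![frobQ hK σ, 0; 0, 1]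
      0 δ hU * suLv hK 2 X =
      suLv hK 2 Y * suBlk hK (0 : Matrix (Fin 2) (Fin 2) K) !![σ⁻¹, 0; 0, 1]
        !![frobQ hK σ, 0; 0, 1] 0 δ hU := by
    apply Cfsg.Agent.Helper99.su_ext
    intro x
    obtain ⟨a, b, l, rfl⟩ := Cfsg.Agent.Helper13.bVec_surj x
    rw [Cfsg.Agent.Helper99.suAct_mul, Cfsg.Agent.Helper99.suAct_mul,
      Cfsg.Agent.Helper13.suAct_suLv, Cfsg.Agent.Helper13.suAct_suBlk,
      Cfsg.Agent.Helper13.suAct_suBlk, Cfsg.Agent.Helper13.suAct_suLv]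
    simp only [Matrix.mulVec_mulVec]
    rw [hXi, hYi, hX, hY, hI, hII]
    simp only [Matrix.zero_mul, Matrix.zero_mulVec, zero_add, add_zero, Matrix.mulVec_mulVec]
  have hE : Cfsg.Agent.Helper99.SuHE hK (bVec (Pi.single (1 : Fin 2) (1 : K)) 0 0)
      (bVec (0 : Fin 2 → K) 0 a₀) c := by
    refine ⟨?_, ?_, ?_⟩
    · rw [Cfsg.Agent.Helper13.suH_bVec]; simp
    · rw [Cfsg.Agent.Helper13.suH_bVec]; simp
    · rw [Cfsg.Agent.Helper13.suH_bVec]; simpa using hc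
  have hact1 : suAct (suBlk hK (0 : Matrix (Fin 2) (Fin 2) K) !![σ⁻¹, 0; 0, 1]
      !![frobQ hK σ, 0; 0, 1] 0 δ hU) (bVec (Pi.single (1 : Fin 2) (1 : K)) 0 0) =
      bVec 0 (Pi.single (1 : Fin 2) (1 : K)) 0 := by
    rw [Cfsg.Agent.Helper13.suAct_suBlk]
    congr 1
    · simp only [Matrix.zero_mulVec, Matrix.mulVec_zero, add_zero]
    · ext i
      fin_cases i <;> simp [Matrix.mulVec, dotProduct, Fin.sum_univ_two]
    · simp
  have hact2 : suAct (suBlk hK (0 : Matrix (Fin 2) (Fin 2) K) !![σ⁻¹, 0; 0, 1]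
      !![frobQ hK σ, 0; 0, 1] 0 δ hU) (bVec (0 : Fin 2 → K) 0 a₀) =
      bVec 0 0 (δ * a₀) := by
    rw [Cfsg.Agent.Helper13.suAct_suBlk]
    congr 1
    · simp only [Matrix.zero_mulVec, Matrix.mulVec_zero, add_zero]
    · simp only [Matrix.zero_mulVec, Matrix.mulVec_zero, add_zero]
  refine ⟨suBlk hK (0 : Matrix (Fin 2) (Fin 2) K) !![σ⁻¹, 0; 0, 1] !![frobQ hK σ, 0; 0, 1]
      0 δ hU, δ * a₀, mul_ne_zero hδ0 ha₀, ?_, ?_⟩
  · rw [map_mul]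
    linear_combination hc + (a₀ * frobQ hK a₀) * hδ1
  · have hconj := Cfsg.Agent.Helper99.suEl_conj hK p
      (suBlk hK (0 : Matrix (Fin 2) (Fin 2) K) !![σ⁻¹, 0; 0, 1] !![frobQ hK σ, 0; 0, 1] 0 δ hU) hE
    rw [hact1, hact2] at hconj
    rw [← hconj]
    have hc2 := hcomm
    generalize suBlk hK (0 : Matrix (Fin 2) (Fin 2) K) !![σ⁻¹, 0; 0, 1]
      !![frobQ hK σ, 0; 0, 1] 0 δ hU = hh at hc2 ⊢
    generalize suEl hK (bVec (Pi.single (1 : Fin 2) (1 : K)) 0 0) (bVec (0 : Fin 2 → K) 0 a₀) c = te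
    calc hh * (suLv hK 2 X * te) * hh⁻¹ = (hh * suLv hK 2 X) * hh⁻¹ * (hh * te * hh⁻¹) := by
          group
      _ = suLv hK 2 Y * (hh * te * hh⁻¹) := by rw [hc2]; group

end Cfsg.Agent.Helper4
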