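import Mathlib
import Cfsg.Agent.Helper13.SuBlk

set_option autoImplicit false

namespace Cfsg.Agent.Helper4

open Matrix
open Cfsg.Agent.Helper5 (frobQ frobQ_apply frobQ_frobQ)

variable {K : Type*} [Field K] [Fintype K] {q : ℕ}

/-- A generator of the multiplicative group of a finite field, in elementary form. -/
theorem su5_gen (K : Type*) [Field K] [Fintype K] :
    ∃ γ : K, γ ≠ 0 ∧ (∀ a : K, a ≠ 0 → ∃ j : ℕ, a = γ ^ j) ∧
      ∀ n : ℕ, γ ^ n = 1 → (Fintype.card K - 1) ∣ n := by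
  classical
  obtain ⟨k, hk⟩ := IsCyclic.exists_generator (α := Kˣ)
  refine ⟨(k : K), k.ne_zero, fun a ha => ?_, fun n hn => ?_⟩
  · have h1 : Units.mk0 a ha ∈ Subgroup.zpowers k := hk _
    rw [← mem_powers_iff_mem_zpowers] at h1
    obtain ⟨j, hj⟩ := h1
    refine ⟨j, ?_⟩
    have := congrArg (fun u : Kˣ => (u : K)) hj
    simpa using this.symm
  · have ho : orderOf k = Fintype.card Kˣ := by
      rw [orderOf_eq_card_of_forall_mem_zpowers hk, Nat.card_eq_fintype_card]
    rw [Fintype.card_units] at ho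
    rw [← ho]
    apply orderOf_dvd_of_pow_eq_one
    ext
    simpa using hn

/-- Genericity of a generator. -/
theorem su5_generic_gen (γ : K) (hgen : ∀ a : K, a ≠ 0 → ∃ j : ℕ, a = γ ^ j)
    (S : AddSubgroup K) (hS : ∀ x ∈ S, γ * x ∈ S) (hne : ∃ x ∈ S, x ≠ 0) : S = ⊤ := by
  obtain ⟨x₀, hx₀S, hx₀⟩ := hne
  have hpow : ∀ j : ℕ, γ ^ j * x₀ ∈ S := by
    intro j
    induction j with
    | zero => simpa using hx₀S
    | succ j ih =>
      have := hS _ ih
      rwa [← mul_assoc, ← pow_succ'] at this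
  rw [AddSubgroup.eq_top_iff']
  intro a
  by_cases ha : a = 0
  · rw [ha]; exact S.zero_mem
  · obtain ⟨j, hj⟩ := hgen (a / x₀) (div_ne_zero ha hx₀)
    have := hpow j
    rw [← hj, div_mul_cancel₀ a hx₀] at this
    exact this

/-- Genericity of `γ ^ 5 - 1` when `5 ≤ q`. -/
theorem su5_generic_five (hK : Fintype.card K = q ^ 2) (hq5 : 5 ≤ q) (γ : K) (hγ0 : γ ≠ 0)
    (hord : ∀ n : ℕ, γ ^ n = 1 → (q ^ 2 - 1) ∣ n)
    (S : AddSubgroup K) (hS : ∀ x ∈ S, (γ ^ 5 - 1) * x ∈ S) (hne : ∃ x ∈ S, x ≠ 0) : S = ⊤ := by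
  classical
  obtain ⟨x₀, hx₀S, hx₀⟩ := hne
  have hpow : ∀ y : K, (∀ x ∈ S, y * x ∈ S) → ∀ n : ℕ, ∀ x ∈ S, y ^ n * x ∈ S := by
    intro y hy n
    induction n with
    | zero => intro x hx; simpa using hx
    | succ n ih =>
      intro x hx
      have := hy _ (ih x hx)
      rwa [← mul_assoc, ← pow_succ'] at this
  let R : Subfield K :=
    { carrier := {y | ∀ x ∈ S, y * x ∈ S}
      mul_mem' := by
        intro a b ha hb x hx
        rw [mul_assoc]; exact ha _ (hb _ hx)
      one_mem' := by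
        intro x hx; rw [one_mul]; exact hx
      add_mem' := by
        intro a b ha hb x hx
        rw [add_mul]; exact S.add_mem (ha _ hx) (hb _ hx)
      zero_mem' := by
        intro x hx; rw [zero_mul]; exact S.zero_mem
      neg_mem' := by
        intro a ha x hx
        rw [neg_mul]; exact S.neg_mem (ha _ hx)
      inv_mem' := by
        intro a ha
        by_cases ha0 : a = 0
        · rw [ha0, _root_.inv_zero]; intro x hx; rw [zero_mul]; exact S.zero_mem
        · have h1 : a ^ (Fintype.card K - 1) = 1 := FiniteField.pow_card_sub_one_eq_one a ha0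
          have hc : 2 ≤ Fintype.card K := Fintype.one_lt_card
          have h2 : a⁻¹ = a ^ (Fintype.card K - 2) := by
            apply inv_eq_of_mul_eq_one_right
            rw [← pow_succ']
            have : Fintype.card K - 2 + 1 = Fintype.card K - 1 := by omega
            rw [this, h1]
          rw [h2]
          exact hpow a ha _ }
  have hmemR : ∀ y : K, y ∈ R ↔ ∀ x ∈ S, y * x ∈ S := fun y => Iff.rfl
  have hμR : γ ^ 5 ∈ R := by
    rw [hmemR]
    intro x hx
    have := S.add_mem (hS x hx) hx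
    have e : (γ ^ 5 - 1) * x + x = γ ^ 5 * x := by ring
    rwa [e] at this
  -- cardinality of `R`
  have hcard : Fintype.card K = Fintype.card R ^ Module.finrank R K :=
    Module.card_eq_pow_finrank (K := R) (V := K)
  have hc2 : 2 ≤ Fintype.card R := Fintype.one_lt_card
  have hμ0 : (⟨γ ^ 5, hμR⟩ : R) ≠ 0 := by
    intro h
    have := congrArg (fun u : R => (u : K)) h
    simp only [ZeroMemClass.coe_zero] at this
    exact pow_ne_zero 5 hγ0 this
  have h1 := FiniteField.pow_card_sub_one_eq_one (⟨γ ^ 5, hμR⟩ : R) hμ0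
  have h2 : γ ^ (5 * (Fintype.card R - 1)) = 1 := by
    have := congrArg (fun u : R => (u : K)) h1
    simp only [SubmonoidClass.coe_pow, OneMemClass.coe_one] at this
    rw [pow_mul]; exact this
  have h3 := Nat.le_of_dvd (by omega) (hord _ h2)
  have hq25 : 6 * q ≤ q ^ 2 + 5 := by nlinarith
  have hRtop : ∀ y : K, y ∈ R := by
    rcases Nat.lt_or_ge (Module.finrank R K) 2 with hd | hd
    · have hd1 : Module.finrank R K = 1 := by
        rcases Nat.eq_zero_or_pos (Module.finrank R K) with h0 | h0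
        · rw [h0, pow_zero, hK] at hcard
          nlinarith
        · omega
      rw [hd1, pow_one] at hcard
      have hinj : Function.Injective (fun r : R => (r : K)) := Subtype.val_injective
      have hbij := (Fintype.bijective_iff_injective_and_card _).mpr ⟨hinj, hcard.symm⟩
      intro y
      obtain ⟨r, hr⟩ := hbij.2 y
      rw [← hr]; exact r.2
    · exfalso
      have hle : Fintype.card R ^ 2 ≤ q ^ 2 := by
        rw [← hK, hcard]
        exact Nat.pow_le_pow_right (by omega) hd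
      have hle' : Fintype.card R ≤ q := by
        by_contra hcon
        push_neg at hcon
        have : q ^ 2 < Fintype.card R ^ 2 := Nat.pow_lt_pow_left hcon (by norm_num)
        omega
      have : 5 * (Fintype.card R - 1) ≤ 5 * (q - 1) := by omega
      omega
  rw [AddSubgroup.eq_top_iff']
  intro a
  have := (hmemR _).mp (hRtop (a / x₀)) x₀ hx₀S
  rwa [div_mul_cancel₀ a hx₀] at this

/-- PIECE N5 (finite fields only). -/
theorem su5_exists_mu (hK : Fintype.card K = q ^ 2) (hq : q ≠ 4) :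
    ∃ r ρ : K, r ≠ 0 ∧ ρ ≠ 0 ∧ frobQ hK r = r ∧ r * ρ ^ 5 - 1 ≠ 0 ∧
      ∀ S : AddSubgroup K, (∀ x ∈ S, (r * ρ ^ 5 - 1) * x ∈ S) → (∃ x ∈ S, x ≠ 0) → S = ⊤ := by
  classical
  have hc : 2 ≤ Fintype.card K := Fintype.one_lt_card
  have hq2 : 2 ≤ q := by
    rw [hK] at hc
    by_contra hcon
    push_neg at hcon
    interval_cases q <;> omega
  have hq4 : 4 ≤ q ^ 2 := by nlinarith
  obtain ⟨γ, hγ0, hγgen, hγord⟩ := su5_gen K
  rw [hK] at hγord
  by_cases h5 : 5 ∣ q + 1
  · have hq5 : 5 ≤ q := by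
      obtain ⟨c, hc'⟩ := h5
      omega
    have hq25 : 25 ≤ q ^ 2 := by nlinarith
    have hμ1 : γ ^ 5 ≠ 1 := by
      intro h
      have := Nat.le_of_dvd (by norm_num) (hγord 5 h)
      omega
    refine ⟨1, γ, one_ne_zero, hγ0, map_one _, ?_, ?_⟩
    · rw [one_mul]; exact sub_ne_zero.mpr hμ1
    · intro S hS hne
      rw [one_mul] at hS
      exact su5_generic_five hK hq5 γ hγ0 hγord S hS hne
  · have hμ0 : γ + 1 ≠ 0 := by
      intro h
      have h1 : γ = -1 := eq_neg_of_add_eq_zero_left h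
      have h2 : γ ^ 2 = 1 := by rw [h1]; ring
      have := Nat.le_of_dvd (by norm_num) (hγord 2 h2)
      omega
    obtain ⟨y, k, hyk⟩ : ∃ y k : ℕ, (q + 1) * y = 1 + 5 * k := by
      have hmod : (q + 1) % 5 = 1 ∨ (q + 1) % 5 = 2 ∨ (q + 1) % 5 = 3 ∨ (q + 1) % 5 = 4 := by
        have : (q + 1) % 5 ≠ 0 := fun h => h5 (Nat.dvd_of_mod_eq_zero h)
        omega
      rcases hmod with h | h | h | h
      · exact ⟨1, ((q + 1) * 1 - 1) / 5, by omega⟩
      · exact ⟨3, ((q + 1) * 3 - 1) / 5, by omega⟩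
      · exact ⟨2, ((q + 1) * 2 - 1) / 5, by omega⟩
      · exact ⟨4, ((q + 1) * 4 - 1) / 5, by omega⟩
    have hμy : (γ + 1) ^ y ≠ 0 := pow_ne_zero _ hμ0
    have hfrob : frobQ hK (((γ + 1) ^ y) ^ (q + 1)) = ((γ + 1) ^ y) ^ (q + 1) := by
      rw [frobQ_apply, ← pow_mul]
      have e : (q + 1) * q = (q ^ 2 - 1) + (q + 1) := by
        have : q ^ 2 = q * q := by ring
        have : (q + 1) * q = q * q + q := by ring
        omega
      rw [e, pow_add]
      have h1 : ((γ + 1) ^ y) ^ (q ^ 2 - 1) = 1 := by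
        rw [← hK]; exact FiniteField.pow_card_sub_one_eq_one _ hμy
      rw [h1, one_mul]
    have hμ : ((γ + 1) ^ y) ^ (q + 1) * (((γ + 1)⁻¹) ^ k) ^ 5 - 1 = γ := by
      rw [← pow_mul, ← pow_mul, mul_comm y (q + 1), hyk, pow_add, pow_one, inv_pow, mul_comm k 5]
      have : (γ + 1) ^ (5 * k) ≠ 0 := pow_ne_zero _ hμ0
      field_simp
      ring
    refine ⟨((γ + 1) ^ y) ^ (q + 1), ((γ + 1)⁻¹) ^ k, pow_ne_zero _ hμy,
      pow_ne_zero _ (inv_ne_zero hμ0), hfrob, ?_, ?_⟩
    · rw [hμ]; exact hγ0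
    · rw [hμ]
      intro S hS hne
      exact su5_generic_gen γ hγgen S hS hne

end Cfsg.Agent.Helper4
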